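import Cfsg.Agent.Omega.NO3S.OneQ.TIq.CoEnd

/-!
# NO-3S, `OneSz`: `TIq.Gen` with `dim_F = 4` over the frame `Co` gives `SzMod` (bb OMEGA #19637 (E4))

* `Co.szMod_of_gen` : from an instance of `TIq.Gen` on `MF`, all pairs opposite, `Kt l` regular of order `|F|²`,
  `|A l| = |F|`, `dim_F MF = 4`.
-/

set_option autoImplicit false
set_option linter.unusedSectionVars false

namespace Cfsg.Agent.Omega.NO3S.OneQ

open Subgroup Cfsg.Agent.Omega.NO3S.PT Cfsg.Agent.Omega.NoFF.Basic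
open Cfsg.Agent.WeakTI.FlatBorel (CritAll BenderAll)
open scoped Pointwise

universe u

namespace Co

variable {G : Type u} [Group G] [Finite G] {F : Type} [Field F] [CharP F 2] {S : Sylow 2 G} {B P V Z : Subgroup G}
  (h : Co F S B P V Z)
variable {H : Type u} [Group H] [DistribMulAction H h.MF] (r : centralizer (Z : Set G) →* H)

theorem szMod_of_gen [Finite F] [Finite H] (hcrit : CritAll.{u}) (hbend : BenderAll.{u})
    (hr : ∀ (g : centralizer (Z : Set G)) (m : h.MF), r g • m = h.rep g m)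
    (hf : ∀ x : H, (∀ m : h.MF, x • m = m) → x = 1) (hs : Function.Surjective r) (hrd : rd V Z = Z)
    {L : Set h.MF} {A : h.MF → Subgroup H} {I : h.MF → Submodule F h.MF} {al : h.MF → h.MF → H}
    (g : TIq.Gen F L A I al) {l m : h.MF} (hl : l ∈ L) (hA : A l = h.Ar r) (ho : TIq.Opp F L A)
    (h4 : Module.finrank F h.MF = 4) (hm : m ∈ L) (hlm : TIq.NP F l m) (hF : 4 ≤ Nat.card F)
    (hAc : Nat.card (A l) = Nat.card F) {Kt : h.MF → Subgroup H} (hfix : ∀ t ∈ Kt l, t • l = l)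
    (hR : TIq.Reg F L Kt l) (hKt : Nat.card (Kt l) = Nat.card F ^ 2) :
    ∃ (θ : F →+* F) (e m : ℕ) (T : Cfsg.Agent.LieRecognition.SzMatrix.Good F θ e), 1 ≤ m ∧
      Nat.card F = 2 ^ (2 * m + 1) ∧
      Nonempty (Cfsg.Agent.Omega.TwoFFour.SzMod T (normalizer (Z : Set G)) (ws V Z) Z) := by
  obtain ⟨hJ, Q, hQ, hQA, -⟩ := g.isoSuzuki hcrit hbend hf ho h4 hl hm hlm (by rw [hAc]; exact hF) hfix hR
    (by rw [hKt, hAc])
  rw [hAc] at hQ
  have hcomm : ∀ a ∈ A l, ∀ b ∈ A l, ∀ m : h.MF, a • (b • m + m) = b • m + m := fun a ha b hb m =>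
    g.fix hl ha (g.comm hl hb m)
  have hne : A l ≠ ⊥ := by
    intro h0
    rw [h0, Subgroup.card_bot] at hAc
    omega
  clear hR hKt hfix ho
  have key : ∀ D : Subgroup H, A l = D → Cfsg.Lie.IsoSuzuki (Cfsg.Agent.WeakTI.QuotInv.soc D) ∧
      ∃ Q : Sylow 2 (Cfsg.Agent.WeakTI.QuotInv.soc D), Nat.card Q = Nat.card F ^ 2 ∧
        ∀ x ∈ Q, x * x = 1 → (x : H) ∈ D := by
    rintro D rfl
    exact ⟨hJ, Q, hQ, hQA⟩
  obtain ⟨hJ', Q', hQ', hQA'⟩ := key _ hA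
  rw [hA] at hcomm hne
  exact h.exists_szMod r hr hf hs hrd h4 hcomm hne hJ' Q' hQ' hQA'

end Co

end Cfsg.Agent.Omega.NO3S.OneQ
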