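import Cfsg.Agent.Omega.NO3S.OneQ.TIq.OneEnd
import Cfsg.Agent.Omega.NO3S.OneQ.TIq.CoGen

/-!
# NO-3S, `OneSz`: `TIq.GenK` over the frame `Co` gives `SzMod` (bb OMEGA #19637, #19856)

* `GenK.opp`, `GenK.reg` : the inputs of `Gen.isoSuzuki`
* `Co.szMod_of_genK` : the plug
-/

set_option autoImplicit false
set_option linter.unusedSectionVars false

namespace Cfsg.Agent.Omega.NO3S.OneQ

open Subgroup Cfsg.Agent.Omega.NO3S.PT Cfsg.Agent.Omega.NoFF.Basic
open Cfsg.Agent.WeakTI.FlatBorel (CritAll BenderAll)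
open scoped Pointwise

universe u

namespace TIq.GenK

variable {F M H : Type*} [Field F] [AddCommGroup M] [Module F M] [Group H] [DistribMulAction H M] {L : Set M}
    {A : M → Subgroup H} {I : M → Submodule F M} {al : M → M → H} {Kt : M → Subgroup H}

theorem opp [Finite F] [Finite M] [Finite H] (K : GenK F L A I al Kt) (hq : 3 ≤ Nat.card F) : Opp F L A :=
  fun hl hm hlm ha h => K.opp' hq hl hm hlm ha h

theorem reg [Finite F] [Finite M] [Finite H] (K : GenK F L A I al Kt) (hq : 3 ≤ Nat.card F) {l : M} (hl : l ∈ L) :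
    Reg F L Kt l where
  trans := by
    intro m hm m' hm' h h'
    obtain ⟨t, ht, c, hc⟩ := K.orbit hq hl hm (K.np_E hq hl hm h) hm' h'
    have hc0 : c ≠ 0 := by
      rintro rfl
      exact K.toGen.ne_zero hm' (by rw [hc, zero_smul])
    exact ⟨t, ht, c⁻¹, inv_ne_zero hc0, by rw [hc, smul_smul, inv_mul_cancel₀ hc0, one_smul]⟩
  eq_one := fun _ hm h _ ht _ e => K.semireg hq hl hm (K.np_E hq hl hm h) ht e

end TIq.GenK

namespace Co

variable {G : Type u} [Group G] [Finite G] {F : Type} [Field F] [CharP F 2] {S : Sylow 2 G} {B P V Z : Subgroup G}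
  (h : Co F S B P V Z)
variable {H : Type u} [Group H] [DistribMulAction H h.MF] (r : centralizer (Z : Set G) →* H)

/-- the end of case (N), `D_x = I`, TI: from an instance of `TIq.GenK` on `MF` -/
theorem szMod_of_genK [Finite F] [Finite H] [Finite h.MF] (hcrit : CritAll.{u}) (hbend : BenderAll.{u})
    (hr : ∀ (g : centralizer (Z : Set G)) (m : h.MF), r g • m = h.rep g m)
    (hs : Function.Surjective r) (hrd : rd V Z = Z)
    {L : Set h.MF} {A : h.MF → Subgroup H} {I : h.MF → Submodule F h.MF} {al : h.MF → h.MF → H}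
    {Kt : h.MF → Subgroup H} (K : TIq.GenK F L A I al Kt) {l : h.MF} (hl : l ∈ L) (hA : A l = h.Ar r)
    (hF : 4 ≤ Nat.card F) :
    ∃ (θ : F →+* F) (e m : ℕ) (T : Cfsg.Agent.LieRecognition.SzMatrix.Good F θ e), 1 ≤ m ∧
      Nat.card F = 2 ^ (2 * m + 1) ∧
      Nonempty (Cfsg.Agent.Omega.TwoFFour.SzMod T (normalizer (Z : Set G)) (ws V Z) Z) := by
  have hq : 3 ≤ Nat.card F := by omega
  obtain ⟨m, hm, hlm⟩ := K.toGen.exists_opp hl
  exact h.szMod_of_gen r hcrit hbend hr K.faith hs hrd K.toGen hl hA (K.opp hq) (K.toGen.fr_four hl (K.k_one hl))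
    hm (K.toGen.np_of_E hl hlm) hF (K.toGen.card_A_one hl (K.k_one hl)) (fun _ ht => K.Kt_fix hl ht) (K.reg hq hl)
    (K.card_Kt hq hl)

end Co

end Cfsg.Agent.Omega.NO3S.OneQ
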