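import Mathlib

/-!
# NO-3S, `OneSz` (`q ≥ 4`, `n = 1`), case (N), the TI world, `D_x = I` (bb OMEGA #19637, #19856), pure form

`F` a finite field of characteristic 2, `M` an `F`-module, `H` a group acting `F`-linearly on `M`;
`L` = the vectors `≠ 0` of the points `λ_l`; `A l`, `I l`, `al l` (`l ∈ L`) the data of the line `l`.

* `Gen` : the record
* `Gen.part_symm`, `Gen.bb_comm`, `Gen.bracket`, `Gen.cc`, `Gen.surj` : the TI world (helper614's `TI.Gen`)
* `Gen.E` : the submodule `Ebar_l`; `Gen.Phi` : the pairing `Ebar_l × M → F`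
-/

set_option autoImplicit false
set_option linter.unusedSimpArgs false
set_option linter.unusedSectionVars false

namespace Cfsg.Agent.Omega.NO3S.OneQ.TIq

/-- `m` is not in the point `F l` -/
def NP (F : Type*) {M : Type*} [SMul F M] (l m : M) : Prop := ∀ c : F, m ≠ c • l

/-- the fields -/
structure Gen (F : Type*) {M H : Type*} [Field F] [AddCommGroup M] [Module F M] [Group H] [DistribMulAction H M]
    (L : Set M) (A : M → Subgroup H) (I : M → Submodule F M) (al : M → M → H) : Prop where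
  two : ∀ m : M, m + m = 0
  lin : ∀ (h : H) (c : F) (m : M), h • (c • m) = c • (h • m)
  zero : (0 : M) ∉ L
  gen : Submodule.span F L = ⊤
  smul : ∀ (h : H) {l : M}, l ∈ L → h • l ∈ L
  fsm : ∀ {c : F} {l : M}, c ≠ 0 → l ∈ L → c • l ∈ L
  A_sm : ∀ {c : F} {l : M}, c ≠ 0 → l ∈ L → A (c • l) = A l
  I_sm : ∀ {c : F} {l : M}, c ≠ 0 → l ∈ L → I (c • l) = I l
  trans : ∀ {l m : M}, l ∈ L → m ∈ L → ∃ (h : H) (c : F), c ≠ 0 ∧ h • l = c • m
  A_conj : ∀ (h : H) {l : M} {a : H}, l ∈ L → a ∈ A l → h * a * h⁻¹ ∈ A (h • l)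
  I_conj : ∀ (h : H) {l u : M}, l ∈ L → u ∈ I l → h • u ∈ I (h • l)
  sq : ∀ {l : M} {a : H}, l ∈ L → a ∈ A l → a * a = 1
  ne : ∀ {l : M}, l ∈ L → ∃ a ∈ A l, a ≠ 1
  self : ∀ {l : M}, l ∈ L → l ∈ I l
  comm : ∀ {l : M} {a : H}, l ∈ L → a ∈ A l → ∀ m : M, a • m + m ∈ I l
  fix : ∀ {l : M} {a : H} {u : M}, l ∈ L → a ∈ A l → u ∈ I l → a • u = u
  /-- `D_x = I` -/
  fixI : ∀ {l u : M}, l ∈ L → (∀ a ∈ A l, a • u = u) → u ∈ I l
  /-- TI -/
  ti : ∀ {l m : M} {a : H}, l ∈ L → m ∈ L → a ∈ A l → a ∈ A m → a ≠ 1 → ∃ c : F, m = c • l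
  /-- planes -/
  plane : ∀ {l m : M}, l ∈ L → m ∈ L → m ∈ I l → ∀ c : F, l + c • m = 0 ∨ l + c • m ∈ L
  /-- coplanar ⟹ `Ibar_m ≤ Ebar_l` (uses TI) -/
  cop : ∀ {l m u : M}, l ∈ L → m ∈ L → m ∈ I l → u ∈ I m → al l u = 1
  al_mem : ∀ {l : M}, l ∈ L → ∀ m, al l m ∈ A l
  al_add : ∀ {l : M}, l ∈ L → ∀ m m', al l (m + m') = al l m * al l m'
  al_surj : ∀ {l : M} {a : H}, l ∈ L → a ∈ A l → ∃ m, al l m = a
  al_conj : ∀ {l : M} {h : H}, l ∈ L → h • l = l → ∀ m, al l (h • m) = h * al l m * h⁻¹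
  al_ker : ∀ {l : M}, l ∈ L → ∀ m, al l m = 1 ↔ ∀ a ∈ A l, ∃ c : F, a • m = m + c • l
  /-- `beta` is symmetric -/
  sy : ∀ {l : M}, l ∈ L → ∀ m m', ∃ c : F, al l m' • m + m + (al l m • m' + m') = c • l
  /-- `phi_e` is `F`-linear -/
  phl : ∀ {l : M}, l ∈ L → ∀ (c : F) (e x : M), al l e = 1 → al l (c • x) • e + e = c • (al l x • e + e)
  /-- `beta` is `F`-linear -/
  bl : ∀ {l : M}, l ∈ L → ∀ (c : F) (m x : M), ∃ d : F, al l (c • x) • m + m = c • (al l x • m + m) + d • l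
  /-- the duality `Ebar / Dbar = Hom_F(A, F)` -/
  dual : ∀ {l : M}, l ∈ L → ∀ f : M →ₗ[F] F, (∀ e, al l e = 1 → f e = 0) →
    ∃ e, al l e = 1 ∧ ∀ x, al l x • e + e = f x • l
  /-- ALPHA -/
  alpha : ∀ {l m u : M}, l ∈ L → m ∈ L → NP F l m → u ∈ I l → u ∈ I m → u ≠ 0 → al l m • m = m

/-- the fields with `K~_l` (= image of `K_y ∩ C_G(V_l)`) -/
structure GenK (F : Type*) {M H : Type*} [Field F] [AddCommGroup M] [Module F M] [Group H] [DistribMulAction H M]
    (L : Set M) (A : M → Subgroup H) (I : M → Submodule F M) (al : M → M → H) (Kt : M → Subgroup H) : Prop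
    extends Gen F L A I al where
  faith : ∀ h : H, (∀ m : M, h • m = m) → h = 1
  Kt_sm : ∀ {c : F} {l : M}, c ≠ 0 → l ∈ L → Kt (c • l) = Kt l
  Kt_two : ∀ {l : M}, l ∈ L → IsPGroup 2 (Kt l)
  Kt_conj : ∀ (h : H) {l : M} {t : H}, l ∈ L → t ∈ Kt l → h * t * h⁻¹ ∈ Kt (h • l)
  A_le_Kt : ∀ {l : M}, l ∈ L → A l ≤ Kt l
  Kt_fix : ∀ {l : M} {t : H}, l ∈ L → t ∈ Kt l → t • l = l
  Kt_A : ∀ {l : M} {t a : H}, l ∈ L → t ∈ Kt l → a ∈ A l → t * a = a * t
  Kt_E : ∀ {l : M} {t : H} {e : M}, l ∈ L → t ∈ Kt l → al l e = 1 → t • e + e ∈ I l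
  Kt_I : ∀ {l : M} {t : H} {u : M}, l ∈ L → t ∈ Kt l → u ∈ I l → ∃ c : F, t • u + u = c • l
  /-- `K~_l` induces `Hom_F(Ibar_l / lam_l, lam_l)` on `Ibar_l` (weak form) -/
  Kt_hom : ∀ {l u : M}, l ∈ L → u ∈ I l → NP F l u → ∃ t ∈ Kt l, t • u = u + l

namespace Gen

variable {F M H : Type*} [Field F] [AddCommGroup M] [Module F M] [Group H] [DistribMulAction H M] {L : Set M}
    {A : M → Subgroup H} {I : M → Submodule F M} {al : M → M → H}

section

variable (G : Gen F L A I al)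
include G

theorem two_left (x y : M) : x + (x + y) = y := by
  rw [← add_assoc, G.two, zero_add]

theorem eq_of_add {x y : M} (h : x + y = 0) : x = y := by
  calc x = x + y + y := by rw [add_assoc, G.two, add_zero]
    _ = y := by rw [h, zero_add]

theorem neg_eq (x : M) : -x = x := neg_eq_of_add_eq_zero_left (G.two x)

theorem ne_zero {l : M} (hl : l ∈ L) : l ≠ 0 := fun h => G.zero (h ▸ hl)

theorem sq_one {c : F} {l : M} (hl : l ∈ L) (h : (c * c) • l = l) : c = 1 := by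
  have h0 := G.ne_zero hl
  have h1 : (c * c - 1) • l = 0 := by rw [sub_smul, one_smul, h, sub_self]
  have h2 : c * c - 1 = 0 := (smul_eq_zero.1 h1).resolve_right h0
  have h3 : (1 : F) + 1 = 0 := by
    have : ((1 : F) + 1) • l = 0 := by rw [add_smul, one_smul, G.two]
    exact (smul_eq_zero.1 this).resolve_right h0
  have h4 : (c - 1) * (c - 1) = 0 := by
    have : (c - 1) * (c - 1) = (c * c - 1) - (1 + 1) * (c - 1) := by ring
    rw [this, h2, h3]; ring
  have h5 := mul_self_eq_zero.1 h4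
  exact sub_eq_zero.1 h5

/-- an involution which fixes the point fixes the vector -/
theorem fix_of_inv {h : H} {c : F} {l : M} (hl : l ∈ L) (hh : h * h = 1) (hc : h • l = c • l) : h • l = l := by
  have h1 : (c * c) • l = l := by
    have : h • (h • l) = l := by rw [← mul_smul, hh, one_smul]
    rw [hc, G.lin, hc, smul_smul] at this
    exact this
  rw [hc, G.sq_one hl h1, one_smul]

theorem np_symm {l m : M} (hl : l ∈ L) (_hm : m ∈ L) (h : NP F l m) : NP F m l := by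
  intro c hc
  have hc0 : c ≠ 0 := by
    rintro rfl
    rw [zero_smul] at hc
    exact G.ne_zero hl hc
  exact h c⁻¹ (by rw [hc, smul_smul, inv_mul_cancel₀ hc0, one_smul])

theorem np_smul {l m : M} {c : F} (hc : c ≠ 0) (h : NP F l m) : NP F l (c • m) := by
  intro d hd
  exact h (c⁻¹ * d) (by rw [mul_smul, ← hd, smul_smul, inv_mul_cancel₀ hc, one_smul])

theorem inv {l : M} {a : H} (hl : l ∈ L) (ha : a ∈ A l) : a⁻¹ = a :=
  inv_eq_of_mul_eq_one_left (G.sq hl ha)

theorem A_comm {l : M} {a b : H} (hl : l ∈ L) (ha : a ∈ A l) (hb : b ∈ A l) : a * b = b * a := by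
  have h := G.sq hl (mul_mem ha hb)
  calc a * b = (a * b)⁻¹ := (inv_eq_of_mul_eq_one_left h).symm
    _ = b * a := by rw [mul_inv_rev, G.inv hl ha, G.inv hl hb]

/-- conjugate by an involution fixing `l` -/
theorem A_conj' {l : M} {a h : H} (hl : l ∈ L) (ha : a ∈ A l) (hh : h * h = 1) (hhl : h • l = l) :
    h * a * h ∈ A l := by
  have := G.A_conj h hl ha
  rwa [hhl, inv_eq_of_mul_eq_one_left hh] at this

theorem I_conj' {l u : M} {h : H} (hl : l ∈ L) (hu : u ∈ I l) (hhl : h • l = l) : h • u ∈ I l := by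
  have := G.I_conj h hl hu
  rwa [hhl] at this

theorem A_fix {l : M} {a : H} (hl : l ∈ L) (ha : a ∈ A l) : a • l = l := G.fix hl ha (G.self hl)

theorem al_I_one {l u : M} (hl : l ∈ L) (hu : u ∈ I l) : al l u = 1 :=
  (G.al_ker hl u).2 fun _ ha => ⟨0, by rw [zero_smul, add_zero]; exact G.fix hl ha hu⟩

theorem al_zero {l : M} (hl : l ∈ L) : al l 0 = 1 := by
  have := G.al_add hl 0 0
  rw [add_zero] at this
  exact (mul_eq_left.1 this.symm)

theorem al_sm_one {l e : M} (hl : l ∈ L) (c : F) (he : al l e = 1) : al l (c • e) = 1 := by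
  rw [G.al_ker hl] at he ⊢
  intro a ha
  obtain ⟨d, hd⟩ := he a ha
  exact ⟨c * d, by rw [G.lin, hd, smul_add, smul_smul]⟩

theorem fsm' {l : M} {c : F} (hl : l ∈ L) (h : c • l ≠ 0) : c • l ∈ L :=
  G.fsm (fun h0 => h (by rw [h0, zero_smul])) hl

/-- every `a ≠ 1` moves some `e ∈ E_l` by `l` -/
theorem phi {l : M} {a : H} (hl : l ∈ L) (ha : a ∈ A l) (h1 : a ≠ 1) : ∃ e, al l e = 1 ∧ a • e = e + l := by
  classical
  obtain ⟨x, rfl⟩ := G.al_surj hl ha
  let E : Submodule F M :=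
    { carrier := {e | al l e = 1}
      add_mem' := fun {a b} ha hb => by
        change al l (a + b) = 1
        rw [G.al_add hl]
        rw [show al l a = 1 from ha, show al l b = 1 from hb, one_mul]
      zero_mem' := G.al_zero hl
      smul_mem' := fun c x hx => G.al_sm_one hl c hx }
  have hx : x ∉ E := h1
  obtain ⟨f, hf, hf'⟩ := Submodule.exists_le_ker_of_notMem hx
  obtain ⟨e, he, he'⟩ := G.dual hl ((f x)⁻¹ • f) (fun y hy => by
    have : y ∈ LinearMap.ker f := hf' hy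
    rw [LinearMap.mem_ker] at this
    simp [this])
  refine ⟨e, he, ?_⟩
  have := he' x
  rw [LinearMap.smul_apply, smul_eq_mul, inv_mul_cancel₀ hf, one_smul] at this
  calc al l x • e = e + (al l x • e + e) := by rw [add_comm (al l x • e) e, G.two_left]
    _ = e + l := by rw [this]

/-- a central involution -/
theorem cent {l : M} {b h : H} (hl : l ∈ L) (hb : b ∈ A l) (h1 : b ≠ 1) (hh : h * h = 1) (hc : h * b = b * h) :
    h • l = l := by
  have h2 := G.A_conj h hl hb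
  rw [hc, mul_assoc, mul_inv_cancel, mul_one] at h2
  obtain ⟨c, h3⟩ := G.ti hl (G.smul h hl) hb h2 h1
  exact G.fix_of_inv hl hh h3

theorem part_symm {l m : M} {b : H} (hl : l ∈ L) (hm : m ∈ L) (hb : b ∈ A l) (hb1 : b ≠ 1)
    (hbm : b • m = m) : ∃ b' ∈ A m, b' ≠ 1 ∧ b' • l = l := by
  obtain ⟨a, ha, ha1⟩ := G.ne hm
  have hbb := G.sq hl hb
  have haa := G.sq hm ha
  by_cases hc : a * b = b * a
  · exact ⟨a, ha, ha1, G.cent hl hb hb1 haa hc⟩
  · have h1 : b * a * b ∈ A m := G.A_conj' hm ha hbb hbm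
    refine ⟨a * (b * a * b), mul_mem ha h1, ?_, ?_⟩
    · intro h
      apply hc
      have h2 : b * a * b = a := by
        have h4 := inv_eq_of_mul_eq_one_right h
        rw [G.inv hm ha] at h4
        exact h4.symm
      calc a * b = b * a * b * b := by rw [h2]
        _ = b * a := by rw [mul_assoc, hbb, mul_one]
    · refine G.cent hl hb hb1 (G.sq hm (mul_mem ha h1)) ?_
      have h3 := G.A_comm hm ha h1
      calc a * (b * a * b) * b = a * (b * a) * (b * b) := by group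
        _ = a * (b * a * b) * b := by rw [hbb]; simp only [mul_assoc, hbb, mul_one]
        _ = b * a * b * a * b := by rw [h3]
        _ = b * (a * (b * a * b)) := by group

theorem bb_comm {l m : M} {b b' : H} (hl : l ∈ L) (hm : m ∈ L) (hlm : NP F l m) (hb : b ∈ A l) (hbm : b • m = m)
    (hb' : b' ∈ A m) (hbl : b' • l = l) : b * b' = b' * b := by
  have hbb := G.sq hl hb
  have hbb' := G.sq hm hb'
  have h1 : b * b' * b ∈ A m := G.A_conj' hm hb' hbb hbm
  have h2 : b' * b * b' ∈ A l := G.A_conj' hl hb hbb' hbl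
  have h3 : b * (b' * b * b') ∈ A l := mul_mem hb h2
  have h4 : b * (b' * b * b') ∈ A m := by
    have : b * b' * b * b' ∈ A m := mul_mem h1 hb'
    simpa only [mul_assoc] using this
  have h5 : b * (b' * b * b') = 1 := by
    by_contra hne
    obtain ⟨c, hc⟩ := G.ti hl hm h3 h4 hne
    exact hlm c hc
  calc b * b' = b * b' * (b * (b' * b * b'))⁻¹ := by rw [h5, inv_one, mul_one]
    _ = b * b' * (b'⁻¹ * b⁻¹ * b'⁻¹ * b⁻¹) := by group
    _ = b'⁻¹ * b⁻¹ := by group
    _ = b' * b := by rw [G.inv hl hb, G.inv hm hb']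

/-- `[b', a]` for `a ∈ A l`, `b' ∈ A m` fixing `l` -/
theorem bracket {l m : M} {a b' : H} (hl : l ∈ L) (hm : m ∈ L) (ha : a ∈ A l) (hb' : b' ∈ A m)
    (hbl : b' • l = l) : b' * (a * b' * a) ∈ A l ∧ (b' * (a * b' * a)) • m = m := by
  have hbb' := G.sq hm hb'
  have haa := G.sq hl ha
  have h1 : b' * a * b' ∈ A l := G.A_conj' hl ha hbb' hbl
  have h2 : b' * (a * b' * a) ∈ A l := by
    have := mul_mem h1 ha
    simpa only [mul_assoc] using this
  refine ⟨h2, ?_⟩
  by_cases hb1 : b' = 1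
  · subst hb1
    rw [one_mul, mul_one, haa, one_smul]
  · refine G.cent hm hb' hb1 (G.sq hl h2) ?_
    have h3 := G.A_comm hl h1 ha
    calc b' * (a * b' * a) * b' = b' * a * b' * a * b' := by group
      _ = a * (b' * a * b') * b' := by rw [h3]
      _ = a * b' * a * (b' * b') := by group
      _ = b' * b' * (a * b' * a) := by rw [hbb', one_mul, mul_one]
      _ = b' * (b' * (a * b' * a)) := by group

/-- `(CC)` -/
theorem cc {l m : M} {b a' : H} (hl : l ∈ L) (hm : m ∈ L) (hb : b ∈ A l) (hbm : b • m = m) (ha' : a' ∈ A m)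
    (e : M) : ((b * (a' * b * a')) • e + e) + (a' • (b • e + e) + (b • e + e)) ∈ I l ⊓ I m := by
  have two := G.two
  have tl := G.two_left
  obtain ⟨f, hf⟩ : ∃ f, f = a' • e + e := ⟨_, rfl⟩
  obtain ⟨w, hw⟩ : ∃ w, w = b • e + e := ⟨_, rfl⟩
  have hfm : f ∈ I m := hf ▸ G.comm hm ha' e
  have hwl : w ∈ I l := hw ▸ G.comm hl hb e
  obtain ⟨g, hg⟩ : ∃ g, g = b • f + f := ⟨_, rfl⟩
  have hgl : g ∈ I l := hg ▸ G.comm hl hb f
  have hgm : g ∈ I m := hg ▸ add_mem (G.I_conj' hm hfm hbm) hfm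
  obtain ⟨v, hv⟩ : ∃ v, v = a' • w + w := ⟨_, rfl⟩
  have hvm : v ∈ I m := hv ▸ G.comm hm ha' w
  obtain ⟨g', hg'⟩ : ∃ g', g' = b • v + v := ⟨_, rfl⟩
  have hgl' : g' ∈ I l := hg' ▸ G.comm hl hb v
  have hgm' : g' ∈ I m := hg' ▸ add_mem (G.I_conj' hm hvm hbm) hvm
  have e1 : a' • e = e + f := by
    rw [hf]; simp only [add_comm, add_left_comm, two, tl, add_zero]
  have e2 : b • e = e + w := by
    rw [hw]; simp only [add_comm, add_left_comm, two, tl, add_zero]
  have e3 : b • f = f + g := by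
    rw [hg]; simp only [add_comm, add_left_comm, two, tl, add_zero]
  have e4 : a' • w = w + v := by
    rw [hv]; simp only [add_comm, add_left_comm, two, tl, add_zero]
  have e5 : b • v = v + g' := by
    rw [hg']; simp only [add_comm, add_left_comm, two, tl, add_zero]
  have e6 : a' • f = f := G.fix hm ha' hfm
  have e7 : a' • g = g := G.fix hm ha' hgm
  have e8 : b • g = g := G.fix hl hb hgl
  have e9 : b • w = w := G.fix hl hb hwl
  have : (b * (a' * b * a')) • e + e + (a' • (b • e + e) + (b • e + e)) = g + g' := by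
    rw [← hw, e4, mul_smul, mul_smul, mul_smul, e1]
    simp only [smul_add, e2, e3, e1, e4, e6, e7, e8, e9, e5]
    simp only [add_assoc, add_comm, add_left_comm, two, tl, add_zero]
  rw [this]
  exact add_mem ⟨hgl, hgm⟩ ⟨hgl', hgm'⟩

/-- the map `b ↦ [b, a']` is injective -/
theorem br_inj {l m : M} {a' b b₂ : H} (hl : l ∈ L) (hm : m ∈ L) (ha' : a' ∈ A m) (hal : a' • l ≠ l)
    (hb : b ∈ A l) (hb₂ : b₂ ∈ A l) (h : b * (a' * b * a') = b₂ * (a' * b₂ * a')) : b = b₂ := by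
  by_contra hne
  apply hal
  have hbb := G.sq hl hb
  have hbb₂ := G.sq hl hb₂
  have haa := G.sq hm ha'
  have hn1 : b₂ * b ≠ 1 := by
    intro h1
    apply hne
    have := inv_eq_of_mul_eq_one_left h1
    rw [← this, G.inv hl hb]
  refine G.cent hl (mul_mem hb₂ hb) hn1 haa ?_
  have h3 : a' * b * a' = b * b₂ * (a' * b₂ * a') := by
    calc a' * b * a' = b * b * (a' * b * a') := by rw [hbb, one_mul]
      _ = b * (b * (a' * b * a')) := by group
      _ = b * b₂ * (a' * b₂ * a') := by rw [h]; group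
  calc a' * (b₂ * b) = a' * (b * b₂) := by rw [G.A_comm hl hb₂ hb]
    _ = a' * b * (a' * a') * b₂ := by rw [haa, mul_one]; group
    _ = a' * b * a' * a' * b₂ := by group
    _ = b * b₂ * (a' * b₂ * a') * a' * b₂ := by rw [h3]
    _ = b * b₂ * a' * b₂ * (a' * a') * b₂ := by group
    _ = b * b₂ * a' * (b₂ * b₂) := by rw [haa, mul_one]; group
    _ = b * b₂ * a' := by rw [hbb₂, mul_one]
    _ = b₂ * b * a' := by rw [G.A_comm hl hb₂ hb]

theorem br_ne {l m : M} {a' b : H} (hl : l ∈ L) (hm : m ∈ L) (ha' : a' ∈ A m) (hal : a' • l ≠ l)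
    (hb : b ∈ A l) (hb1 : b ≠ 1) : b * (a' * b * a') ≠ 1 := by
  intro h
  apply hb1
  refine G.br_inj hl hm ha' hal hb (one_mem _) ?_
  rw [h, one_mul, mul_one, G.sq hm ha']

/-- `|A l| = |A m|` -/
theorem card_A [Finite H] {l m : M} (hl : l ∈ L) (hm : m ∈ L) : Nat.card (A l) ≤ Nat.card (A m) := by
  obtain ⟨h, c, hc, e⟩ := G.trans hl hm
  have e1 : A (h • l) = A m := by rw [e, G.A_sm hc hm]
  exact Nat.card_le_card_of_injective
    (fun a : A l => (⟨h * a * h⁻¹, e1 ▸ G.A_conj h hl a.2⟩ : A m))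
    fun a b hab => Subtype.ext (by simpa using congrArg Subtype.val hab)

/-- not commuting is symmetric -/
theorem exists_move [Finite H] {l m : M} {a : H} (hl : l ∈ L) (hm : m ∈ L) (ha : a ∈ A l) (ham : a • m ≠ m) :
    ∃ a' ∈ A m, a' • l ≠ l := by
  by_contra hcon
  push Not at hcon
  have hcard := G.card_A hl hm
  let f : A m → A l := fun b' => ⟨b' * (a * b' * a), (G.bracket hl hm ha b'.2 (hcon b' b'.2)).1⟩
  have hf : Function.Injective f := fun x y hxy =>
    Subtype.ext (G.br_inj hm hl ha ham x.2 y.2 (congrArg Subtype.val hxy))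
  have hs : Function.Surjective f := (hf.bijective_of_nat_card_le hcard).2
  obtain ⟨x, hx⟩ := hs ⟨a, ha⟩
  apply ham
  have h1 := (G.bracket hl hm ha x.2 (hcon x x.2)).2
  have h2 : (x : H) * (a * x * a) = a := congrArg Subtype.val hx
  rwa [h2] at h1

theorem I_symm [Finite H] {l m : M} (hl : l ∈ L) (hm : m ∈ L) (h : m ∈ I l) : l ∈ I m := by
  refine G.fixI hm fun a ha => ?_
  by_contra hal
  obtain ⟨a', ha', h'⟩ := G.exists_move hm hl ha hal
  exact h' (G.fix hl ha' h)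

/-- the composite `b ↦ [[b, a'], a]` is onto `B` -/
theorem surj [Finite H] {l m : M} {a a' b₀ : H} (hl : l ∈ L) (hm : m ∈ L) (ha : a ∈ A l) (ham : a • m ≠ m)
    (ha' : a' ∈ A m) (hal : a' • l ≠ l) (hb₀ : b₀ ∈ A l) (hbm : b₀ • m = m) :
    ∃ b ∈ A l, b • m = m ∧ (b * (a' * b * a')) ∈ A m ∧ (b * (a' * b * a')) • l = l ∧
      (b * (a' * b * a')) * (a * (b * (a' * b * a')) * a) = b₀ := by
  let B : Type _ := {b : H // b ∈ A l ∧ b • m = m}
  let B' : Type _ := {b : H // b ∈ A m ∧ b • l = l}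
  let f : B → B' := fun b => ⟨b.1 * (a' * b.1 * a'), G.bracket hm hl ha' b.2.1 b.2.2⟩
  let g : B' → B := fun b => ⟨b.1 * (a * b.1 * a), G.bracket hl hm ha b.2.1 b.2.2⟩
  have hf : Function.Injective f := fun x y hxy =>
    Subtype.ext (G.br_inj hl hm ha' hal x.2.1 y.2.1 (congrArg Subtype.val hxy))
  have hg : Function.Injective g := fun x y hxy =>
    Subtype.ext (G.br_inj hm hl ha ham x.2.1 y.2.1 (congrArg Subtype.val hxy))
  have hs : Function.Surjective (g ∘ f) := Finite.injective_iff_surjective.1 (hg.comp hf)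
  obtain ⟨x, hx⟩ := hs ⟨b₀, hb₀, hbm⟩
  exact ⟨x.1, x.2.1, x.2.2, (f x).2.1, (f x).2.2, congrArg Subtype.val hx⟩

end

end Gen

end Cfsg.Agent.Omega.NO3S.OneQ.TIq
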