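import Cfsg.Agent.Omega.NO3S.OneQ.TIq.LocPre
import Cfsg.Agent.Omega.NO3S.OneQ.Sg.Pre

/-!
# NO-3S, `OneSz` (`q ≥ 4`, `n = 1`), case (N), every `D_x`: the weaker record at one vector, pure form

* `LocW` : `Loc` with `Kt0`, without `Kt_E`, `Kt_I`, `Kt_two`;
* `LocW.toPre` : the record `TIq.Pre` (helper248);
* `LocW.toSg`, `Loc.toSg` : the record `Sg.Pre` (helper46).
-/

set_option autoImplicit false
set_option linter.unusedSectionVars false

namespace Cfsg.Agent.Omega.NO3S.OneQ.TIq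

/-- the facts at one vector, with `Kt0`, every `D_x` -/
structure LocW (F : Type*) {M H : Type*} [Field F] [AddCommGroup M] [Module F M] [Group H] [DistribMulAction H M]
    (v0 : M) (A0 : Subgroup H) (I0 : Submodule F M) (al0 : M → H) (Kt0 : Subgroup H) : Prop
    extends Loc F v0 A0 I0 al0 where
  faith : ∀ x : H, (∀ m : M, x • m = m) → x = 1
  sK : ∀ {x t : H} {c : F}, x • v0 = c • v0 → t ∈ Kt0 → x * t * x⁻¹ ∈ Kt0
  A_le_Kt : A0 ≤ Kt0
  Kt_fix : ∀ {t : H}, t ∈ Kt0 → t • v0 = v0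
  Kt_A : ∀ {t a : H}, t ∈ Kt0 → a ∈ A0 → t * a = a * t
  Kt_hom : ∀ {u : M}, u ∈ I0 → NP F v0 u → ∃ t ∈ Kt0, t • u = u + v0

namespace Loc

variable {F M H : Type*} [Field F] [AddCommGroup M] [Module F M] [Group H] [DistribMulAction H M]
  [SMulCommClass H F M] {v0 : M} {A0 : Subgroup H} {I0 : Submodule F M} {al0 : M → H}
  (D : Loc F v0 A0 I0 al0)
include D

/-- **the record `Sg.Pre`** -/
theorem toSg (hpl : ∀ {x : H} (c : F), x • v0 ∈ I0 → v0 + c • x • v0 = 0 ∨ v0 + c • x • v0 ∈ LL F H v0) :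
    Sg.Pre F (LL F H v0) (AA F v0 A0) (II F (H := H) v0 I0) (AL F v0 al0) where
  two := D.two
  lin := lin
  zero := D.zero_notMem
  gen := D.span_LL
  smul := fun x _ hl => smul_mem x hl
  fsm := fsm_mem
  A_sm := D.at_A_sm
  I_sm := D.at_I_sm
  trans := trans
  A_conj := D.at_A_conj
  I_conj := D.at_I_conj
  sq := D.at_sq
  ne := D.at_ne
  self := D.at_self
  comm := D.at_comm
  fix := D.at_fix
  plane := D.at_plane hpl
  al_mem := D.at_al_mem
  al_add := fun _ => D.at_al_add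
  al_surj := D.at_al_surj
  al_conj := D.at_al_conj
  al_ker := D.at_al_ker
  sy := D.at_sy
  phl := fun _ => D.at_phl
  bl := D.at_bl
  dual := D.at_dual

end Loc

namespace LocW

variable {F M H : Type*} [Field F] [AddCommGroup M] [Module F M] [Group H] [DistribMulAction H M]
  [SMulCommClass H F M] {v0 : M} {A0 : Subgroup H} {I0 : Submodule F M} {al0 : M → H} {Kt0 : Subgroup H}
  (D : LocW F v0 A0 I0 al0 Kt0)
include D

open Loc (lin)

theorem mem_KT {l : M} {x a : H} {c : F} (hc : c ≠ 0) (hx : l = c • x • v0) :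
    a ∈ AA F v0 Kt0 l ↔ x⁻¹ * a * x ∈ Kt0 := by
  have hl : l ∈ LL F H v0 := ⟨x, c, hc, hx⟩
  obtain ⟨d, hd, hg⟩ := rr_spec F H hl
  unfold AA
  obtain ⟨g, hgd⟩ : ∃ g, g = rr F H v0 l := ⟨_, rfl⟩
  rw [← hgd] at hg ⊢
  have h0 : a ∈ Kt0.map (MulAut.conj g).toMonoidHom ↔ g⁻¹ * a * g ∈ Kt0 := by
    rw [Subgroup.mem_map]
    constructor
    · rintro ⟨b, hb, rfl⟩
      have e : g⁻¹ * ((MulAut.conj g).toMonoidHom b) * g = b := by
        change g⁻¹ * (g * b * g⁻¹) * g = b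
        group
      rw [e]; exact hb
    · intro hb
      refine ⟨_, hb, ?_⟩
      change g * (g⁻¹ * a * g) * g⁻¹ = a
      group
  rw [h0]
  have e1 := hx.symm.trans hg
  constructor
  · intro ha
    have := D.sK (D.stab' hd hc e1.symm) ha
    have e : x⁻¹ * g * (g⁻¹ * a * g) * (x⁻¹ * g)⁻¹ = x⁻¹ * a * x := by group
    rwa [e] at this
  · intro ha
    have := D.sK (D.stab' hc hd e1) ha
    have e : g⁻¹ * x * (x⁻¹ * a * x) * (g⁻¹ * x)⁻¹ = g⁻¹ * a * g := by group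
    rwa [e] at this

theorem at_Kt_sm {c : F} {l : M} (hc : c ≠ 0) (hl : l ∈ LL F H v0) : AA F v0 Kt0 (c • l) = AA F v0 Kt0 l := by
  obtain ⟨x, d, hd, hx⟩ := hl
  ext a
  rw [D.mem_KT (mul_ne_zero hc hd) (by rw [hx, smul_smul]), D.mem_KT hd hx]

theorem at_Kt_conj (y : H) {l : M} {a : H} (hl : l ∈ LL F H v0) (ha : a ∈ AA F v0 Kt0 l) :
    y * a * y⁻¹ ∈ AA F v0 Kt0 (y • l) := by
  obtain ⟨x, d, hd, hx⟩ := hl
  rw [D.mem_KT hd hx] at ha
  rw [D.mem_KT (x := y * x) hd (by rw [hx, lin, mul_smul])]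
  have e : (y * x)⁻¹ * (y * a * y⁻¹) * (y * x) = x⁻¹ * a * x := by group
  rw [e]; exact ha

theorem at_Kt_fix {l : M} {t : H} (hl : l ∈ LL F H v0) (ht : t ∈ AA F v0 Kt0 l) : t • l = l := by
  obtain ⟨x, d, hd, hx⟩ := hl
  rw [D.mem_KT hd hx] at ht
  have h1 := D.Kt_fix ht
  rw [hx, lin]
  congr 1
  calc t • x • v0 = x • (x⁻¹ * t * x) • v0 := by
        rw [smul_smul, smul_smul]
        congr 1
        group
    _ = x • v0 := by rw [h1]

theorem at_Kt_A {l : M} {t a : H} (hl : l ∈ LL F H v0) (ht : t ∈ AA F v0 Kt0 l) (ha : a ∈ AA F v0 A0 l) :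
    t * a = a * t := by
  obtain ⟨x, d, hd, hx⟩ := hl
  rw [D.mem_KT hd hx] at ht
  rw [D.mem_AA hd hx] at ha
  have h1 := D.Kt_A ht ha
  calc t * a = x * ((x⁻¹ * t * x) * (x⁻¹ * a * x)) * x⁻¹ := by group
    _ = x * ((x⁻¹ * a * x) * (x⁻¹ * t * x)) * x⁻¹ := by rw [h1]
    _ = a * t := by group

theorem at_Kt_hom {l u : M} (hl : l ∈ LL F H v0) (hu : u ∈ II F (H := H) v0 I0 l) (hnp : NP F l u) :
    ∃ t ∈ AA F v0 Kt0 l, t • u = u + l := by
  obtain ⟨x, d, hd, hx⟩ := hl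
  have hu' := (D.mem_II hd hx).1 hu
  -- `u' = d⁻¹ x⁻¹ u`
  have h1 : d⁻¹ • x⁻¹ • u ∈ I0 := I0.smul_mem _ hu'
  obtain ⟨t, ht, htu⟩ := D.Kt_hom h1 (fun c hc => hnp c (by
    have h2 : u = d • x • d⁻¹ • x⁻¹ • u := by
      rw [lin, smul_smul d, mul_inv_cancel₀ hd, one_smul, smul_inv_smul]
    rw [h2, hc, hx, lin, smul_smul, smul_smul, mul_comm]))
  refine ⟨x * t * x⁻¹, ?_, ?_⟩
  · rw [D.mem_KT hd hx]
    have e : x⁻¹ * (x * t * x⁻¹) * x = t := by group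
    rw [e]; exact ht
  · have h3 := congrArg (fun w => d • x • w) htu
    simp only [lin, smul_add] at h3
    rw [smul_smul d d⁻¹, mul_inv_cancel₀ hd, one_smul, smul_inv_smul, ← hx, smul_smul d d⁻¹, mul_inv_cancel₀ hd,
      one_smul] at h3
    rw [mul_smul, mul_smul]
    exact h3

/-- planes -/
theorem pl {x : H} (c : F) (hx : x • v0 ∈ I0) : v0 + c • x • v0 = 0 ∨ v0 + c • x • v0 ∈ LL F H v0 := by
  by_cases hnp : NP F v0 (c • x • v0)
  · right
    obtain ⟨t, -, ht⟩ := D.Kt_hom (I0.smul_mem c hx) hnp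
    have hc : c ≠ 0 := by
      rintro rfl
      exact hnp 0 (by rw [zero_smul, zero_smul])
    refine ⟨t * x, c, hc, ?_⟩
    rw [add_comm, ← ht, mul_smul, lin]
  · unfold NP at hnp
    push Not at hnp
    obtain ⟨b, hb⟩ := hnp
    rw [hb]
    by_cases h0 : 1 + b = 0
    · left
      have e : v0 + b • v0 = (1 + b) • v0 := by rw [add_smul, one_smul]
      rw [e, h0, zero_smul]
    · right
      exact ⟨1, 1 + b, h0, by rw [one_smul, add_smul, one_smul]⟩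

/-- **the record `TIq.Pre`** -/
theorem toPre : Pre F (LL F H v0) (AA F v0 A0) (II F (H := H) v0 I0) (AL F v0 al0) (AA F v0 Kt0) where
  two := D.two
  lin := Loc.lin
  zero := D.zero_notMem
  fsm := Loc.fsm_mem
  A_sm := D.at_A_sm
  A_conj := D.at_A_conj
  sq := D.at_sq
  self := D.at_self
  comm := D.at_comm
  fix := D.at_fix
  al_mem := D.at_al_mem
  al_add := fun _ => D.at_al_add
  al_surj := D.at_al_surj
  al_ker := D.at_al_ker
  phl := fun _ => D.at_phl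
  bl := D.at_bl
  dual := D.at_dual
  faith := D.faith
  Kt_sm := D.at_Kt_sm
  Kt_fix := D.at_Kt_fix
  Kt_A := D.at_Kt_A
  Kt_hom := D.at_Kt_hom

/-- **the record `Sg.Pre`** -/
theorem toSg : Sg.Pre F (LL F H v0) (AA F v0 A0) (II F (H := H) v0 I0) (AL F v0 al0) :=
  D.toLoc.toSg fun c hx => D.pl c hx

end LocW

end Cfsg.Agent.Omega.NO3S.OneQ.TIq
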