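import Cfsg.Agent.Omega.NO3S.OneQ.TIq.Base

/-!
# NO-3S, `OneSz` (`q ≥ 4`, `n = 1`), case (N): `|A| = q` and `A_l ∩ A_m ≠ 1` force `A_l = A_m` (pure form)

* `Pre` : the fields of `TIq.GenK` which do not need `D_x = I`, TI, ALPHA
* `Pre.A_eq` : if `dim M / Ebar = 1` and `1 ≠ b ∈ A l ∩ A m` (`l`, `m` different points) then `A l = A m`
-/

set_option autoImplicit false
set_option linter.unusedSimpArgs false
set_option linter.unusedSectionVars false

namespace Cfsg.Agent.Omega.NO3S.OneQ.TIq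

/-- the fields of `GenK` without `D_x = I`, TI, ALPHA -/
structure Pre (F : Type*) {M H : Type*} [Field F] [AddCommGroup M] [Module F M] [Group H] [DistribMulAction H M]
    (L : Set M) (A : M → Subgroup H) (I : M → Submodule F M) (al : M → M → H) (Kt : M → Subgroup H) : Prop where
  two : ∀ m : M, m + m = 0
  lin : ∀ (h : H) (c : F) (m : M), h • (c • m) = c • (h • m)
  zero : (0 : M) ∉ L
  fsm : ∀ {c : F} {l : M}, c ≠ 0 → l ∈ L → c • l ∈ L
  A_sm : ∀ {c : F} {l : M}, c ≠ 0 → l ∈ L → A (c • l) = A l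
  A_conj : ∀ (h : H) {l : M} {a : H}, l ∈ L → a ∈ A l → h * a * h⁻¹ ∈ A (h • l)
  sq : ∀ {l : M} {a : H}, l ∈ L → a ∈ A l → a * a = 1
  self : ∀ {l : M}, l ∈ L → l ∈ I l
  comm : ∀ {l : M} {a : H}, l ∈ L → a ∈ A l → ∀ m : M, a • m + m ∈ I l
  fix : ∀ {l : M} {a : H} {u : M}, l ∈ L → a ∈ A l → u ∈ I l → a • u = u
  al_mem : ∀ {l : M}, l ∈ L → ∀ m, al l m ∈ A l
  al_add : ∀ {l : M}, l ∈ L → ∀ m m', al l (m + m') = al l m * al l m'
  al_surj : ∀ {l : M} {a : H}, l ∈ L → a ∈ A l → ∃ m, al l m = a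
  al_ker : ∀ {l : M}, l ∈ L → ∀ m, al l m = 1 ↔ ∀ a ∈ A l, ∃ c : F, a • m = m + c • l
  phl : ∀ {l : M}, l ∈ L → ∀ (c : F) (e x : M), al l e = 1 → al l (c • x) • e + e = c • (al l x • e + e)
  bl : ∀ {l : M}, l ∈ L → ∀ (c : F) (m x : M), ∃ d : F, al l (c • x) • m + m = c • (al l x • m + m) + d • l
  dual : ∀ {l : M}, l ∈ L → ∀ f : M →ₗ[F] F, (∀ e, al l e = 1 → f e = 0) →
    ∃ e, al l e = 1 ∧ ∀ x, al l x • e + e = f x • l
  faith : ∀ h : H, (∀ m : M, h • m = m) → h = 1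
  Kt_sm : ∀ {c : F} {l : M}, c ≠ 0 → l ∈ L → Kt (c • l) = Kt l
  Kt_fix : ∀ {l : M} {t : H}, l ∈ L → t ∈ Kt l → t • l = l
  Kt_A : ∀ {l : M} {t a : H}, l ∈ L → t ∈ Kt l → a ∈ A l → t * a = a * t
  Kt_hom : ∀ {l u : M}, l ∈ L → u ∈ I l → NP F l u → ∃ t ∈ Kt l, t • u = u + l

theorem GenK.toPre {F M H : Type*} [Field F] [AddCommGroup M] [Module F M] [Group H] [DistribMulAction H M] {L : Set M}
    {A : M → Subgroup H} {I : M → Submodule F M} {al : M → M → H} {Kt : M → Subgroup H} (G : GenK F L A I al Kt) :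
    Pre F L A I al Kt where
  two := G.two
  lin := G.lin
  zero := G.zero
  fsm := G.fsm
  A_sm := G.A_sm
  A_conj := G.A_conj
  sq := G.sq
  self := G.self
  comm := G.comm
  fix := G.fix
  al_mem := G.al_mem
  al_add := G.al_add
  al_surj := G.al_surj
  al_ker := G.al_ker
  phl := G.phl
  bl := G.bl
  dual := G.dual
  faith := G.faith
  Kt_sm := G.Kt_sm
  Kt_fix := G.Kt_fix
  Kt_A := G.Kt_A
  Kt_hom := G.Kt_hom

namespace Pre

variable {F M H : Type*} [Field F] [AddCommGroup M] [Module F M] [Group H] [DistribMulAction H M] {L : Set M}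
    {A : M → Subgroup H} {I : M → Submodule F M} {al : M → M → H} {Kt : M → Subgroup H}

section

variable (G : Pre F L A I al Kt)
include G

theorem ne_zero {l : M} (hl : l ∈ L) : l ≠ 0 := fun h => G.zero (h ▸ hl)

theorem two_left (x y : M) : x + (x + y) = y := by
  rw [← add_assoc, G.two, zero_add]

theorem neg_eq (x : M) : -x = x := neg_eq_of_add_eq_zero_left (G.two x)

theorem eq_of_add {x y : M} (h : x + y = 0) : x = y := by
  calc x = x + y + y := by rw [add_assoc, G.two, add_zero]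
    _ = y := by rw [h, zero_add]

/-- `h x + x = y` ↔ `h x = x + y` -/
theorem to_eq {h : H} {x y : M} (e : h • x + x = y) : h • x = x + y := by
  rw [← e, add_comm (h • x) x, G.two_left]

theorem of_eq {h : H} {x y : M} (e : h • x = x + y) : h • x + x = y := by
  rw [e, add_comm (x + y) x, G.two_left]

theorem np_symm {l m : M} (hl : l ∈ L) (h : NP F l m) : NP F m l := by
  intro c hc
  have hc0 : c ≠ 0 := by
    rintro rfl
    rw [zero_smul] at hc
    exact G.ne_zero hl hc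
  exact h c⁻¹ (by rw [hc, smul_smul, inv_mul_cancel₀ hc0, one_smul])

/-- independence -/
theorem indep {l m : M} (hlm : NP F l m) {c d : F} (h : c • m + d • l = 0) : c = 0 ∧ (d • l = 0) := by
  have hc : c = 0 := by
    by_contra hc
    have h1 : c • m = d • l := G.eq_of_add h
    apply hlm (c⁻¹ * d)
    rw [mul_smul, ← h1, smul_smul, inv_mul_cancel₀ hc, one_smul]
  refine ⟨hc, ?_⟩
  rwa [hc, zero_smul, zero_add] at h

theorem indep' {l m : M} (hl : l ∈ L) (hlm : NP F l m) {c d : F} (h : c • m + d • l = 0) :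
    c = 0 ∧ d = 0 := by
  obtain ⟨h1, h2⟩ := G.indep hlm h
  exact ⟨h1, (smul_eq_zero.1 h2).resolve_right (G.ne_zero hl)⟩

theorem inv {l : M} {a : H} (hl : l ∈ L) (ha : a ∈ A l) : a⁻¹ = a :=
  inv_eq_of_mul_eq_one_left (G.sq hl ha)

theorem al_zero {l : M} (hl : l ∈ L) : al l 0 = 1 := by
  have := G.al_add hl 0 0
  rw [add_zero] at this
  exact (mul_eq_left.1 this.symm)

theorem al_sm_one {l e : M} (hl : l ∈ L) (c : F) (he : al l e = 1) : al l (c • e) = 1 := by
  rw [G.al_ker hl] at he ⊢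
  intro a ha
  obtain ⟨d, hd⟩ := he a ha
  exact ⟨c * d, by rw [G.lin, hd, smul_add, smul_smul]⟩

theorem A_fix {l : M} {a : H} (hl : l ∈ L) (ha : a ∈ A l) : a • l = l := G.fix hl ha (G.self hl)

/-- every `a ≠ 1` moves some `e ∈ E_l` by `l` -/
theorem phi {l : M} {a : H} (hl : l ∈ L) (ha : a ∈ A l) (h1 : a ≠ 1) : ∃ e, al l e = 1 ∧ a • e = e + l := by
  classical
  obtain ⟨x, rfl⟩ := G.al_surj hl ha
  let E : Submodule F M :=
    { carrier := {e | al l e = 1}
      add_mem' := fun {a b} ha hb => by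
        change al l (a + b) = 1
        rw [G.al_add hl]
        rw [show al l a = 1 from ha, show al l b = 1 from hb, one_mul]
      zero_mem' := G.al_zero hl
      smul_mem' := fun c x hx => G.al_sm_one hl c hx }
  have hx : x ∉ E := h1
  obtain ⟨f, hf, hf'⟩ := Submodule.exists_le_ker_of_notMem hx
  obtain ⟨e, he, he'⟩ := G.dual hl ((f x)⁻¹ • f) (fun y hy => by
    have : y ∈ LinearMap.ker f := hf' hy
    rw [LinearMap.mem_ker] at this
    simp [this])
  refine ⟨e, he, ?_⟩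
  have := he' x
  rw [LinearMap.smul_apply, smul_eq_mul, inv_mul_cancel₀ hf, one_smul] at this
  exact G.to_eq this

/-- `h` normalising the point `F l` normalises `E_l` -/
theorem al_one_conj {l e : M} {h : H} {c : F} (hl : l ∈ L) (hc : c ≠ 0) (hh : h • l = c • l) (he : al l e = 1) :
    al l (h • e) = 1 := by
  rw [G.al_ker hl] at he ⊢
  intro a ha
  have h1 : h⁻¹ * a * h ∈ A l := by
    have h2 := G.A_conj h⁻¹ hl ha
    have h3 : h⁻¹ • l = c⁻¹ • l := by
      rw [inv_smul_eq_iff, G.lin, hh, smul_smul, inv_mul_cancel₀ hc, one_smul]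
    rw [h3, inv_inv, G.A_sm (inv_ne_zero hc) hl] at h2
    exact h2
  obtain ⟨d, hd⟩ := he _ h1
  refine ⟨d * c, ?_⟩
  calc a • h • e = h • ((h⁻¹ * a * h) • e) := by simp only [← mul_smul]; congr 1; group
    _ = h • e + (d * c) • l := by rw [hd, smul_add, G.lin, hh, smul_smul]

end

/-- the situation of two points with a common element `b` -/
structure Two (F : Type*) {M H : Type*} [Field F] [AddCommGroup M] [Module F M] [Group H] [DistribMulAction H M]
    (L : Set M) (A : M → Subgroup H) (al : M → M → H) (b : H) (l m el em : M) : Prop where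
  hl : l ∈ L
  hm : m ∈ L
  np : NP F l m
  bl : b ∈ A l
  bm : b ∈ A m
  oel : al l el = 1
  oem : al m em = 1
  bel : b • el = el + l
  bem : b • em = em + m

theorem Two.symm {b : H} {l m el em : M} (G : Pre F L A I al Kt) (h : Two F L A al b l m el em) :
    Two F L A al b m l em el :=
  ⟨h.hm, h.hl, G.np_symm h.hl h.np, h.bm, h.bl, h.oem, h.oel, h.bem, h.bel⟩

section

variable (G : Pre F L A I al Kt)
include G

theorem exists_two {b : H} {l m : M} (hl : l ∈ L) (hm : m ∈ L) (np : NP F l m) (hbl : b ∈ A l) (hbm : b ∈ A m)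
    (hb : b ≠ 1) : ∃ el em, Two F L A al b l m el em := by
  obtain ⟨el, h1, h2⟩ := G.phi hl hbl hb
  obtain ⟨em, h3, h4⟩ := G.phi hm hbm hb
  exact ⟨el, em, hl, hm, np, hbl, hbm, h1, h3, h2, h4⟩

variable {b : H} {l m el em : M}

theorem em_ne (h : Two F L A al b l m el em) : al l em ≠ 1 := by
  intro h1
  obtain ⟨c, hc⟩ := (G.al_ker h.hl em).1 h1 b h.bl
  rw [h.bem] at hc
  exact h.np c (add_left_cancel hc)

theorem m_mem (h : Two F L A al b l m el em) : m ∈ I l := by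
  have := G.comm h.hl h.bl em
  rwa [G.of_eq h.bem] at this

theorem l_mem (h : Two F L A al b l m el em) : l ∈ I m := G.m_mem (h.symm G)

/-- decomposition of `M` -/
theorem dec (h : Two F L A al b l m el em)
    (one : ∀ {l : M}, l ∈ L → ∀ x y, al l x ≠ 1 → ∃ c : F, al l (y + c • x) = 1) (x : M) :
    ∃ (c d : F) (y : M), al l y = 1 ∧ b • y = y ∧ x = y + c • em + d • el := by
  obtain ⟨c, hc⟩ := one h.hl em x (G.em_ne h)
  obtain ⟨d, hd⟩ := (G.al_ker h.hl _).1 hc b h.bl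
  refine ⟨c, d, x + c • em + d • el, ?_, ?_, ?_⟩
  · rw [G.al_add h.hl, hc, G.al_sm_one h.hl d h.oel, one_mul]
  · rw [smul_add, hd, G.lin, h.bel, smul_add]
    calc x + c • em + d • l + (d • el + d • l) = x + c • em + d • el + (d • l + d • l) := by abel
      _ = x + c • em + d • el := by rw [G.two, add_zero]
  · calc x = x + (c • em + c • em) + (d • el + d • el) := by rw [G.two, G.two, add_zero, add_zero]
      _ = x + c • em + d • el + c • em + d • el := by abel

/-- `C_M(b) ≤ E_l` -/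
theorem al_of_fix (h : Two F L A al b l m el em)
    (one : ∀ {l : M}, l ∈ L → ∀ x y, al l x ≠ 1 → ∃ c : F, al l (y + c • x) = 1) {x : M} (hx : b • x = x) :
    al l x = 1 := by
  obtain ⟨c, d, y, hy, hby, e⟩ := G.dec h one x
  have h1 : c • m + d • l = 0 := by
    have h2 : b • x = x + (c • m + d • l) := by
      rw [e, smul_add, smul_add, hby, G.lin, G.lin, h.bem, h.bel, smul_add, smul_add]
      abel
    rw [hx] at h2
    exact (add_eq_left.1 h2.symm)
  obtain ⟨rfl, rfl⟩ := G.indep' h.hl h.np h1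
  rw [e, zero_smul, zero_smul, add_zero, add_zero]
  exact hy

/-- every element of `A l` is `al l (f x)` -/
theorem exists_f (h : Two F L A al b l m el em)
    (one : ∀ {l : M}, l ∈ L → ∀ x y, al l x ≠ 1 → ∃ c : F, al l (y + c • x) = 1) (hb : b ≠ 1) {x : M} {a : H}
    (hx : al l x = b) (ha : a ∈ A l) : ∃ f : F, a = al l (f • x) := by
  obtain ⟨y, rfl⟩ := G.al_surj h.hl ha
  obtain ⟨c, hc⟩ := one h.hl x y (by rw [hx]; exact hb)
  refine ⟨c, ?_⟩
  rw [G.al_add h.hl] at hc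
  have h2 := inv_eq_of_mul_eq_one_left hc
  rw [G.inv h.hl (G.al_mem h.hl _)] at h2
  exact h2.symm

/-- the action of `al l (f x)` -/
theorem act (h : Two F L A al b l m el em)
    (one : ∀ {l : M}, l ∈ L → ∀ x y, al l x ≠ 1 → ∃ c : F, al l (y + c • x) = 1) {x : M}
    (hx : al l x = b) (f : F) :
    (∀ y : M, b • y = y → al l (f • x) • y = y) ∧ al l (f • x) • el = el + f • l ∧
      ∃ d : F, al l (f • x) • em = em + (f • m + d • l) := by
  refine ⟨fun y hy => ?_, ?_, ?_⟩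
  · have h1 := G.phl h.hl f y x (G.al_of_fix h one hy)
    rw [hx, hy, G.two, smul_zero] at h1
    have := G.to_eq h1
    rwa [add_zero] at this
  · have h1 := G.phl h.hl f el x h.oel
    rw [hx, G.of_eq h.bel] at h1
    exact G.to_eq h1
  · obtain ⟨d, hd⟩ := G.bl h.hl f em x
    rw [hx, G.of_eq h.bem] at hd
    exact ⟨d, G.to_eq hd⟩

/-- transvections -/
theorem exists_tv (h : Two F L A al b l m el em) (c : F) :
    ∃ t : H, t * b = b * t ∧ t • l = l ∧ t • m = m + c • l := by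
  by_cases hc : c = 0
  · exact ⟨1, by rw [one_mul, mul_one], one_smul _ _, by rw [hc, zero_smul, add_zero, one_smul]⟩
  · have hcl := G.fsm hc h.hl
    have hI : m ∈ I (c • l) := by
      have := G.comm hcl (by rw [G.A_sm hc h.hl]; exact h.bl : b ∈ A (c • l)) em
      rwa [G.of_eq h.bem] at this
    have hnp : NP F (c • l) m := fun d hd => h.np (d * c) (by rw [hd, smul_smul])
    obtain ⟨t, ht, e⟩ := G.Kt_hom hcl hI hnp
    rw [G.Kt_sm hc h.hl] at ht
    exact ⟨t, G.Kt_A h.hl ht h.bl, G.Kt_fix h.hl ht, e⟩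

/-- the torus -/
theorem exists_torus (h : Two F L A al b l m el em) {c : F} (hc : c ≠ 0) :
    ∃ r : H, r * b = b * r ∧ r • l = c • l ∧ r • m = c⁻¹ • m := by
  have key : ∀ c : F, c ≠ 0 → ∃ r : H, r * b = b * r ∧ r • l = c⁻¹ • m ∧ r • m = c • l := by
    intro c hc
    obtain ⟨t, t1, t2, t3⟩ := G.exists_tv h c
    obtain ⟨s, s1, s2, s3⟩ := G.exists_tv (h.symm G) c⁻¹
    refine ⟨t * s * t, ?_, ?_, ?_⟩
    · calc t * s * t * b = t * s * (t * b) := by group
        _ = t * (s * b) * t := by rw [t1]; group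
        _ = (t * b) * s * t := by rw [s1]; group
        _ = b * (t * s * t) := by rw [t1]; group
    · rw [mul_smul, mul_smul, t2, s3, smul_add, t2, G.lin, t3, smul_add, smul_smul, inv_mul_cancel₀ hc, one_smul,
        add_comm (c⁻¹ • m) l, G.two_left]
    · have e1 : s • (m + c • l) = c • l := by
        rw [smul_add, s2, G.lin, s3, smul_add, smul_smul, mul_inv_cancel₀ hc, one_smul, add_comm (c • l) m, G.two_left]
      rw [mul_smul, mul_smul, t3, e1, G.lin, t2]
  obtain ⟨r, r1, r2, r3⟩ := key c hc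
  obtain ⟨s, s1, s2, s3⟩ := key 1 one_ne_zero
  refine ⟨r * s, ?_, ?_, ?_⟩
  · calc r * s * b = r * (s * b) := by group
      _ = r * b * s := by rw [s1]; group
      _ = b * (r * s) := by rw [r1]; group
  · rw [mul_smul, s2, inv_one, one_smul, r3]
  · rw [mul_smul, s3, one_smul, r2]

/-- the coefficient `d` vanishes -/
theorem act' (h : Two F L A al b l m el em)
    (one : ∀ {l : M}, l ∈ L → ∀ x y, al l x ≠ 1 → ∃ c : F, al l (y + c • x) = 1) (hb : b ≠ 1) {x : M}
    (hx : al l x = b) {c : F} (hc : c ≠ 0) (hc1 : c ≠ 1) (f : F) :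
    al l (f • x) • em = em + f • m := by
  obtain ⟨r, r1, r2, r3⟩ := G.exists_torus h hc
  obtain ⟨a1, a2, d, a3⟩ := G.act h one hx f
  obtain ⟨a, ha⟩ : ∃ a, a = al l (f • x) := ⟨_, rfl⟩
  rw [← ha] at a1 a2 a3 ⊢
  have hal : a ∈ A l := ha ▸ G.al_mem h.hl _
  have rb : ∀ y : M, b • (r • y) = r • (b • y) := fun y => by rw [← mul_smul, ← r1, mul_smul]
  have rbi : ∀ y : M, b • (r⁻¹ • y) = r⁻¹ • (b • y) := fun y => by
    rw [eq_inv_smul_iff, ← rb, smul_inv_smul]
  have ril : r⁻¹ • l = c⁻¹ • l := by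
    rw [inv_smul_eq_iff, G.lin, r2, smul_smul, inv_mul_cancel₀ hc, one_smul]
  have rim : r⁻¹ • m = c • m := by
    rw [inv_smul_eq_iff, G.lin, r3, smul_smul, mul_inv_cancel₀ hc, one_smul]
  -- `r⁻¹ e_l`, `r⁻¹ e_m`
  have h1 : b • (r⁻¹ • el + c⁻¹ • el) = r⁻¹ • el + c⁻¹ • el := by
    rw [smul_add, rbi, h.bel, smul_add, ril, G.lin, h.bel, smul_add]
    calc r⁻¹ • el + c⁻¹ • l + (c⁻¹ • el + c⁻¹ • l) = r⁻¹ • el + c⁻¹ • el + (c⁻¹ • l + c⁻¹ • l) := by abel
      _ = _ := by rw [G.two, add_zero]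
  have h2 : b • (r⁻¹ • em + c • em) = r⁻¹ • em + c • em := by
    rw [smul_add, rbi, h.bem, smul_add, rim, G.lin, h.bem, smul_add]
    calc r⁻¹ • em + c • m + (c • em + c • m) = r⁻¹ • em + c • em + (c • m + c • m) := by abel
      _ = _ := by rw [G.two, add_zero]
  have h3 : a • (r⁻¹ • el) = r⁻¹ • el + (c⁻¹ * f) • l := by
    have h4 := a1 _ h1
    rw [smul_add, G.lin, a2, smul_add, smul_smul c⁻¹ f l] at h4
    calc a • (r⁻¹ • el) = (a • (r⁻¹ • el) + (c⁻¹ • el + (c⁻¹ * f) • l)) + (c⁻¹ • el + (c⁻¹ * f) • l) := by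
            rw [add_assoc, G.two, add_zero]
      _ = r⁻¹ • el + c⁻¹ • el + (c⁻¹ • el + (c⁻¹ * f) • l) := by rw [h4]
      _ = r⁻¹ • el + (c⁻¹ * f) • l + (c⁻¹ • el + c⁻¹ • el) := by abel
      _ = _ := by rw [G.two, add_zero]
  have h5 : a • (r⁻¹ • em) = r⁻¹ • em + c • (f • m + d • l) := by
    have h4 := a1 _ h2
    rw [smul_add, G.lin, a3, smul_add] at h4
    calc a • (r⁻¹ • em) = (a • (r⁻¹ • em) + (c • em + c • (f • m + d • l))) + (c • em + c • (f • m + d • l)) := by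
            rw [add_assoc, G.two, add_zero]
      _ = r⁻¹ • em + c • em + (c • em + c • (f • m + d • l)) := by rw [h4]
      _ = r⁻¹ • em + c • (f • m + d • l) + (c • em + c • em) := by abel
      _ = _ := by rw [G.two, add_zero]
  -- `a' = r a r⁻¹`
  have ha' : r * a * r⁻¹ ∈ A l := by
    have := G.A_conj r h.hl hal
    rwa [r2, G.A_sm hc h.hl] at this
  have h6 : (r * a * r⁻¹) • el = el + f • l := by
    rw [mul_smul, mul_smul, h3, smul_add, smul_inv_smul, G.lin, r2, smul_smul]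
    congr 2
    field_simp
  have h7 : (r * a * r⁻¹) • em = em + (f • m + (c * c * d) • l) := by
    rw [mul_smul, mul_smul, h5, smul_add, smul_inv_smul, G.lin, smul_add, G.lin, G.lin, r2, r3, smul_add, smul_smul,
      smul_smul, smul_smul, smul_smul]
    congr 3
    · field_simp
    · ring
  obtain ⟨f', hf'⟩ := G.exists_f h one hb (x := x) (a := r * a * r⁻¹) hx ha'
  obtain ⟨-, b2, -⟩ := G.act h one hx f'
  rw [← hf', h6] at b2
  have h8 : f' = f := by
    have h9 := add_left_cancel b2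
    have h10 : (f - f') • l = 0 := by rw [sub_smul, h9, sub_self]
    exact (sub_eq_zero.1 ((smul_eq_zero.1 h10).resolve_right (G.ne_zero h.hl))).symm
  rw [h8, ← ha] at hf'
  rw [hf', a3] at h7
  have h9 := add_left_cancel (add_left_cancel h7)
  have h10 : (d - c * c * d) • l = 0 := by rw [sub_smul, h9, sub_self]
  have h11 := (smul_eq_zero.1 h10).resolve_right (G.ne_zero h.hl)
  have h12 : (1 : F) + 1 = 0 := by
    have : ((1 : F) + 1) • l = 0 := by rw [add_smul, one_smul, G.two]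
    exact (smul_eq_zero.1 this).resolve_right (G.ne_zero h.hl)
  have h13 : d * ((1 + c) * (1 + c)) = 0 := by
    have : d * ((1 + c) * (1 + c)) = (d - c * c * d) + (c * c * d + c * d) * (1 + 1) := by ring
    rw [this, h11, h12, mul_zero, add_zero]
  have h14 : 1 + c ≠ 0 := by
    intro h15
    apply hc1
    calc c = (1 + c) + 1 - (1 + 1) := by ring
      _ = 1 := by rw [h15, h12]; ring
  have hd : d = 0 := (mul_eq_zero.1 h13).resolve_right (mul_ne_zero h14 h14)
  rw [a3, hd, zero_smul, add_zero]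

/-- `A l ≤ A m` -/
theorem A_le_of_two (h : Two F L A al b l m el em)
    (one : ∀ {l : M}, l ∈ L → ∀ x y, al l x ≠ 1 → ∃ c : F, al l (y + c • x) = 1) (hb : b ≠ 1)
    {c : F} (hc : c ≠ 0) (hc1 : c ≠ 1) : A l ≤ A m := by
  intro a ha
  obtain ⟨x, hx⟩ := G.al_surj h.hl h.bl
  obtain ⟨y, hy⟩ := G.al_surj h.hm h.bm
  obtain ⟨f, rfl⟩ := G.exists_f h one hb (x := x) (a := a) hx ha
  have h' := h.symm G
  obtain ⟨a1, a2, -⟩ := G.act h one hx f
  obtain ⟨b1, b2, -⟩ := G.act h' one hy f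
  have a3 := G.act' h one hb hx hc hc1 f
  have b3 := G.act' h' one hb hy hc hc1 f
  have key : al l (f • x) = al m (f • y) := by
    have h1 : (al m (f • y))⁻¹ * al l (f • x) = 1 := by
      refine G.faith _ fun z => ?_
      rw [mul_smul, inv_smul_eq_iff]
      obtain ⟨c, d, w, hw, hbw, e⟩ := G.dec h one z
      rw [e, smul_add, smul_add, smul_add, smul_add, a1 w hbw, b1 w hbw, G.lin, G.lin, G.lin, G.lin, a2, a3, b2, b3]
    exact (inv_mul_eq_one.1 h1).symm
  rw [key]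
  exact G.al_mem h.hm _

/-- **`|A| = q`, `1 ≠ b ∈ A_l ∩ A_m` ⟹ `A_l = A_m`** -/
theorem A_eq (one : ∀ {l : M}, l ∈ L → ∀ x y, al l x ≠ 1 → ∃ c : F, al l (y + c • x) = 1)
    (hq : ∃ c : F, c ≠ 0 ∧ c ≠ 1) {b : H} {l m : M} (hl : l ∈ L) (hm : m ∈ L) (np : NP F l m)
    (hbl : b ∈ A l) (hbm : b ∈ A m) (hb : b ≠ 1) : A l = A m := by
  obtain ⟨el, em, h⟩ := G.exists_two hl hm np hbl hbm hb
  obtain ⟨c, hc, hc1⟩ := hq
  exact le_antisymm (G.A_le_of_two h one hb hc hc1) (G.A_le_of_two (h.symm G) one hb hc hc1)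

/-- in this situation `M = Ebar_l + Ebar_m` -/
theorem exists_sum (one : ∀ {l : M}, l ∈ L → ∀ x y, al l x ≠ 1 → ∃ c : F, al l (y + c • x) = 1)
    {b : H} {l m : M} (hl : l ∈ L) (hm : m ∈ L) (np : NP F l m)
    (hbl : b ∈ A l) (hbm : b ∈ A m) (hb : b ≠ 1) (x : M) : ∃ y z, al l y = 1 ∧ al m z = 1 ∧ x = y + z := by
  obtain ⟨el, em, h⟩ := G.exists_two hl hm np hbl hbm hb
  obtain ⟨c, d, y, hy, hby, e⟩ := G.dec h one x
  refine ⟨y + d • el, c • em, ?_, G.al_sm_one hm c h.oem, ?_⟩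
  · rw [G.al_add hl, hy, G.al_sm_one hl d h.oel, one_mul]
  · rw [e]; abel

end

end Pre

end Cfsg.Agent.Omega.NO3S.OneQ.TIq
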