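import Cfsg.Agent.Omega.NO3S.OneQ.TIq.Loc
import Cfsg.Agent.Omega.NO3S.OneQ.TIq.KOneTI

/-!
# NO-3S, `OneSz` (`q ≥ 4`, `n = 1`), case (N): `LocK ⟹ Pre` (no TI, no `D_x = I`)
-/

set_option autoImplicit false

namespace Cfsg.Agent.Omega.NO3S.OneQ.TIq.LocK

variable {F M H : Type*} [Field F] [AddCommGroup M] [Module F M] [Group H] [DistribMulAction H M]
  [SMulCommClass H F M] {v0 : M} {A0 : Subgroup H} {I0 : Submodule F M} {al0 : M → H} {Kt0 : Subgroup H}
  (D : LocK F v0 A0 I0 al0 Kt0)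
include D

/-- **the record `TIq.Pre`** (helper248) -/
theorem toPre : Pre F (LL F H v0) (AA F v0 A0) (II F (H := H) v0 I0) (AL F v0 al0) (AA F v0 Kt0) where
  two := D.two
  lin := Loc.lin
  zero := D.zero_notMem
  fsm := Loc.fsm_mem
  A_sm := D.at_A_sm
  A_conj := D.at_A_conj
  sq := D.at_sq
  self := D.at_self
  comm := D.at_comm
  fix := D.at_fix
  al_mem := D.at_al_mem
  al_add := fun _ => D.at_al_add
  al_surj := D.at_al_surj
  al_ker := D.at_al_ker
  phl := fun _ => D.at_phl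
  bl := D.at_bl
  dual := D.at_dual
  faith := D.faith
  Kt_sm := D.at_Kt_sm
  Kt_fix := D.at_Kt_fix
  Kt_A := D.at_Kt_A
  Kt_hom := D.at_Kt_hom

end Cfsg.Agent.Omega.NO3S.OneQ.TIq.LocK
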