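import Cfsg.Agent.WeakTI.BenderModel
import Cfsg.Agent.WeakTI.FlatBorel

/-!
# NO-3S, `OneSz`: the group-theoretic end (bb OMEGA #19637 (E4))

`NoE A` : `A` is an elementary abelian TI-subgroup with `N_A(B) = 1` for all conjugates `B ≠ A`, not normal, `|A| ≥ 4`.

* `NoE.of` : from `1 ≠ a ∈ N_A(B) → B = A`;
* `NoE.isoSuzuki` : if `Z(⟨A^H⟩) = 1` and `A` has `|A|² + 1` conjugates then `⟨A^H⟩` is a Suzuki group, with a Sylow
  2-subgroup of order `|A|²` whose involutions are in `A`.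
-/

set_option autoImplicit false
set_option linter.unusedSectionVars false

namespace Cfsg.Agent.Omega.NO3S.OneQ.TIq

open Subgroup Pointwise
open Cfsg.Agent.WeakTI.Basic Cfsg.Agent.WeakTI.PairBasic Cfsg.Agent.WeakTI.ReduceTwo Cfsg.Agent.WeakTI.NoEdges
open Cfsg.Agent.WeakTI.QuotInv Cfsg.Agent.WeakTI.AxisQuot Cfsg.Agent.WeakTI.SubTransfer
open Cfsg.Agent.WeakTI.ReduceComponent Cfsg.Agent.WeakTI.ReduceMain Cfsg.Agent.WeakTI.BenderAct
open Cfsg.Agent.WeakTI.FlatBorel (CritAll BenderAll)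

universe u

variable {H : Type u} [Group H] {A B C : Subgroup H}

/-- `A` is elementary abelian, TI, without edges, not normal, `|A| ≥ 4` -/
structure NoE (A : Subgroup H) : Prop where
  wa : WTI A
  hno : ∀ B, ¬ Pair A B
  nn : ∃ B, Cj A B ∧ A ≠ B
  card : 4 ≤ Nat.card A

/-- the constructor: `1 ≠ a ∈ A` normalises no conjugate `B ≠ A` -/
theorem NoE.of (hc : ∀ a ∈ A, ∀ b ∈ A, a * b = b * a) (hsq : ∀ a ∈ A, a * a = 1) (h4 : 4 ≤ Nat.card A)
    (hN : ∀ g a : H, a ∈ A → a ≠ 1 → a ∈ normalizer ((MulAut.conj g • A : Subgroup H) : Set H) →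
      MulAut.conj g • A = A)
    (hnn : ∃ g : H, MulAut.conj g • A ≠ A) : NoE A := by
  have hne : A ≠ ⊥ := by
    rintro rfl
    rw [Subgroup.card_bot] at h4
    omega
  have hwa : WTI A :=
    { comm := hc
      sq := hsq
      ne := hne
      ti := by
        intro g
        by_cases h1 : MulAut.conj g • A ⊓ A = ⊥
        · exact Or.inr h1
        · obtain ⟨x, hx, hx1⟩ := exists_mem_ne_one h1
          exact Or.inl (hN g x hx.2 hx1 (le_normalizer hx.1))
      wc := by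
        intro g hg
        obtain ⟨a, ha, ha1⟩ := exists_mem_ne_one hne
        have h1 : g * a * g⁻¹ ∈ normalizer (A : Set H) := hg (conj_mem_cj ha)
        have h2 : a ∈ normalizer ((MulAut.conj g⁻¹ • A : Subgroup H) : Set H) := by
          rw [mem_normalizer_iff_cj] at h1 ⊢
          have h3 := congrArg (fun S => MulAut.conj g⁻¹ • S) h1
          simp only [← cj_mul] at h3
          rw [← cj_mul]
          have e : g⁻¹ * (g * a * g⁻¹) = a * g⁻¹ := by group
          rwa [e] at h3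
        have h3 := hN g⁻¹ a ha ha1 h2
        have h4 := congrArg (fun S => MulAut.conj g • S) h3
        simp only [← cj_mul, mul_inv_cancel, cj_one] at h4
        exact h4.symm }
  refine ⟨hwa, ?_, ?_, h4⟩
  · rintro B ⟨-, ⟨g, rfl⟩, hAB, hnb⟩
    obtain ⟨x, hx, hx1⟩ := exists_mem_ne_one hnb
    exact hAB (hN g x (mem_nrm.1 hx).1 hx1 (mem_nrm.1 hx).2).symm
  · obtain ⟨g, hg⟩ := hnn
    exact ⟨_, ⟨g, rfl⟩, fun e => hg e.symm⟩

namespace NoE

theorem eq_of_commute [Finite H] (h : NoE A) (hB : Cj A B) (hC : Cj A C) {b c : H} (hb : b ∈ B) (hb1 : b ≠ 1)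
    (hc : c ∈ C) (hc1 : c ≠ 1) (hbc : b * c = c * b) : B = C :=
  Cfsg.Agent.WeakTI.NoEdges.eq_of_commute h.wa h.hno hB hC hb hb1 hc hc1 hbc

/-- the normaliser of `A` contains every element fixing a nontrivial element of `A` -/
theorem eq_of_norm (h : NoE A) (hB : Cj A B) {a : H} (ha : a ∈ A) (ha1 : a ≠ 1) (haB : a ∈ normalizer (B : Set H)) :
    A = B := by
  by_contra hne
  refine h.hno B ⟨h.wa, hB, hne, fun hbot => ha1 ?_⟩
  have h1 : a ∈ nrm A B := mem_nrm.2 ⟨ha, haB⟩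
  rw [hbot] at h1
  exact mem_bot.1 h1

variable [Finite H]

/-- the passage to `X ≥ ⟨A^H⟩` -/
theorem noEdges_sub (h : NoE A) (D : Subgroup (soc A)) : ¬ Pair (A.subgroupOf (soc A)) D := by
  intro hp
  obtain ⟨C, hC, hCH, rfl⟩ := cj_of_cj_subgroupOf le_soc hp.cj
  exact h.hno C (pair_of_pair_subgroupOf h.wa le_soc hCH hp)

theorem sub (h : NoE A) : NoE (A.subgroupOf (soc A)) where
  wa := h.wa.subgroupOf le_soc
  hno := h.noEdges_sub
  nn := by
    obtain ⟨B, hB, hAB⟩ := h.nn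
    exact ⟨_, cj_subgroupOf_of_cj h.wa le_soc hB (cj_le_soc hB),
      fun he => hAB (subgroupOf_inj le_soc (cj_le_soc hB) he)⟩
  card := by
    rw [Nat.card_congr (Subgroup.subgroupOfEquivOfLe le_soc).toEquiv]
    exact h.card

theorem inf_pCore (h : NoE A) : A ⊓ pCore 2 H = ⊥ := by
  by_contra hne
  obtain ⟨x, ⟨hxA, hxO⟩, hx1⟩ := exists_mem_ne_one hne
  obtain ⟨B, hB, hAB⟩ := h.nn
  exact hAB (h.eq_of_norm hB hxA hx1 (pCore_le_normalizer (h.wa.of_cj hB) hxO))

/-- central elements in members are trivial -/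
theorem eq_one_of_central (h : NoE A) (hB : Cj A B) {z : H} (hz : z ∈ B) (hzc : z ∈ center H) : z = 1 := by
  by_contra hz1
  obtain ⟨C, hC, hAC⟩ := h.nn
  have h1 : ∀ D, Cj A D → B = D := by
    intro D hD
    obtain ⟨d, hd, hd1⟩ := exists_mem_ne_one (h.wa.of_cj hD).ne
    exact h.eq_of_commute hB hD hz hz1 hd hd1 (mem_center_iff.1 hzc d).symm
  exact hAC ((h1 A (Cj.refl A)).symm.trans (h1 C hC))

/-- `Red A` if the conjugates of `A` generate and the centre is trivial -/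
theorem red (h : NoE A) (hgen : normalClosure (A : Set H) = ⊤) (hZ : center H = ⊥) : Red A where
  wti := h.wa
  gen := hgen
  card := h.card
  ab := Cfsg.Agent.WeakTI.ReduceCenter.normal_abelian_eq_bot h.wa hgen h.card h.inf_pCore hZ
  odd := by
    rw [eq_bot_iff, ← hZ]
    exact Cfsg.Agent.WeakTI.ReduceCenter.pPrimeCore_le_center h.wa hgen h.card

/-- the number of conjugates in `⟨A^H⟩` -/
theorem card_sub (h : NoE A) :
    Nat.card {D // Cj (A.subgroupOf (soc A)) D} = Nat.card {D // Cj A D} := by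
  refine (Nat.card_congr (Equiv.ofBijective (fun D : {D // Cj A D} =>
    (⟨D.1.subgroupOf (soc A), cj_subgroupOf_of_cj h.wa le_soc D.2 (cj_le_soc D.2)⟩ :
      {D // Cj (A.subgroupOf (soc A)) D})) ⟨?_, ?_⟩)).symm
  · rintro ⟨D, hD⟩ ⟨D', hD'⟩ he
    exact Subtype.ext (subgroupOf_inj (cj_le_soc hD) (cj_le_soc hD') (congrArg Subtype.val he))
  · rintro ⟨D, hD⟩
    obtain ⟨C, hC, hCH, rfl⟩ := cj_of_cj_subgroupOf le_soc hD
    exact ⟨⟨C, hC⟩, rfl⟩

/-- `NE A` in a simple group -/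
theorem ne_of_simple (h : NoE A) (hs : IsSimpleGroup H) : NE A where
  wa := h.wa
  hno := h.hno
  card := h.card
  faithful := by
    rcases hs.eq_bot_or_eq_top_of_normal (kern A) inferInstance with h1 | h1
    · exact h1
    · exfalso
      obtain ⟨B, ⟨g, rfl⟩, hAB⟩ := h.nn
      have h2 : g ∈ normalizer (A : Set H) := kern_le_normalizer (h1 ▸ mem_top g)
      exact hAB (mem_normalizer_iff_cj.1 h2).symm

/-- the case `⟨A^H⟩ = H` -/
theorem exists_bor (h : NoE A) (hcrit : CritAll.{u}) (hbend : BenderAll.{u})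
    (hgen : normalClosure (A : Set H) = ⊤) (hZ : center H = ⊥)
    (hc : Nat.card {D // Cj A D} = Nat.card A ^ 2 + 1) :
    Cfsg.Lie.IsoSuzuki H ∧ ∃ T : Subgroup H, Bor A T ∧ Nat.card T = Nat.card A ^ 2 := by
  have hR := h.red hgen hZ
  obtain ⟨hs, hna⟩ := Cfsg.Agent.WeakTI.NoEdges.isSimpleGroup hR h.hno
  have hne := h.ne_of_simple hs
  have hA4 := h.card
  rcases hbend H hs hna (exists_stronglyEmbedded h.wa h.hno (normalizer_ne_top hR) (hcrit H hs hna)) with
    ⟨F, i1, i2, hchar, -, ⟨e⟩⟩ | hS | ⟨F, i1, i2, q, hF, hq, -, ⟨e⟩⟩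
  · exfalso
    have h1 := (bor_of_psl e hne).card_members hne
    rw [hc] at h1
    nlinarith
  · exact ⟨hS, Cfsg.Agent.WeakTI.BenderModel.bor_card_of_suzuki hS hne⟩
  · exfalso
    obtain ⟨T, hT, hTc⟩ := Cfsg.Agent.WeakTI.BenderModel.bor_card_of_psu hF hq e hne
    have h1 := hT.card_members hne
    rw [hc, hTc] at h1
    have h2 : Nat.card A ^ 2 < Nat.card A ^ 3 := Nat.pow_lt_pow_right (by omega) (by norm_num)
    omega

/-- the largest 2-subgroup of `N(A)` is a Sylow 2-subgroup -/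
theorem exists_sylow (h : NoE A) {T : Subgroup H} (hT : Bor A T) : ∃ P : Sylow 2 H, (P : Subgroup H) = T := by
  have : Fact (Nat.Prime 2) := ⟨Nat.prime_two⟩
  obtain ⟨P, hP⟩ := h.wa.isPGroup.exists_le_sylow
  have hPN := h.wa.le_normalizer_of_isPGroup P.isPGroup' hP
  have hPT : (P : Subgroup H) ≤ T := by
    intro x hx
    obtain ⟨k, hk⟩ := P.isPGroup' ⟨x, hx⟩
    exact hT.mem_of_pow x (hPN hx) k (congrArg Subtype.val hk)
  have hT2 : IsPGroup 2 T := by
    intro x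
    refine ⟨2, Subtype.ext ?_⟩
    have h1 := hT.pow x x.2
    simpa using h1
  exact ⟨P, (P.is_maximal' hT2 hPT).symm⟩

/-- **(E4)**: if `Z(⟨A^H⟩) = 1` and `A` has `|A|² + 1` conjugates then `⟨A^H⟩` is a Suzuki group, with a Sylow
2-subgroup of order `|A|²` whose involutions lie in `A`. -/
theorem isoSuzuki (h : NoE A) (hcrit : CritAll.{u}) (hbend : BenderAll.{u}) (hZ : center (soc A) = ⊥)
    (hc : Nat.card {D // Cj A D} = Nat.card A ^ 2 + 1) :
    Cfsg.Lie.IsoSuzuki (soc A) ∧ ∃ P : Sylow 2 (soc A), Nat.card P = Nat.card A ^ 2 ∧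
      (∀ x ∈ P, x * x = 1 → (x : H) ∈ A) ∧ ∀ x : soc A, (x : H) ∈ A → x ∈ P := by
  have h1 := h.sub
  have hcA : Nat.card (A.subgroupOf (soc A)) = Nat.card A :=
    Nat.card_congr (Subgroup.subgroupOfEquivOfLe le_soc).toEquiv
  obtain ⟨h2, T, hT, hTc⟩ := h1.exists_bor hcrit hbend (normalClosure_subgroupOf h.wa) hZ
    (by rw [h.card_sub, hc, hcA])
  obtain ⟨P, rfl⟩ := h1.exists_sylow hT
  refine ⟨h2, P, ?_, ?_, ?_⟩
  · rw [← hcA]
    exact hTc
  · intro x hx hxx
    exact mem_subgroupOf.1 (hT.mem_of_sq x hx hxx)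
  · intro x hx
    exact hT.le (mem_subgroupOf.2 hx)

end NoE

end Cfsg.Agent.Omega.NO3S.OneQ.TIq
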