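import Cfsg.Agent.Omega.NO3S.OneQ.TIq.Bend
import Cfsg.Agent.Omega.NO3S.OneQ.TIq.Base

/-!
# NO-3S, `OneSz`: the group-theoretic end over `TIq.Gen` (bb OMEGA #19637 (E4))

`Opp F L A` : `a ∈ A l` fixes no `m ∈ L` outside `F l`; `Reg F L Kt` : `Kt l` is regular on the points `≠ F l`.

* `Gen.cj_A` : `A l ^ h = A (h l)`; `Gen.noE` : `A l` has no edges;
* `Gen.card_members` : the number of conjugates of `A l` is `|Kt l| + 1`;
* `Gen.center_soc` : `Z(⟨A^H⟩) = 1` if `dim_F M = 4`;
* `Gen.isoSuzuki` : `⟨A^H⟩` is a Suzuki group.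
-/

set_option autoImplicit false
set_option linter.unusedSectionVars false

namespace Cfsg.Agent.Omega.NO3S.OneQ.TIq

open Subgroup Pointwise
open Cfsg.Agent.WeakTI.Basic Cfsg.Agent.WeakTI.PairBasic Cfsg.Agent.WeakTI.QuotInv
open Cfsg.Agent.WeakTI.FlatBorel (CritAll BenderAll)

universe u

/-- all pairs are opposite -/
def Opp (F : Type*) {M H : Type*} [SMul F M] [Group H] [SMul H M] (L : Set M) (A : M → Subgroup H) : Prop :=
  ∀ {l m : M} {a : H}, l ∈ L → m ∈ L → NP F l m → a ∈ A l → a • m = m → a = 1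

/-- `Kt l` is regular on the points different from `F l` -/
structure Reg (F : Type*) {M H : Type*} [Field F] [SMul F M] [Group H] [SMul H M] (L : Set M) (Kt : M → Subgroup H)
    (l : M) : Prop where
  trans : ∀ m ∈ L, ∀ m' ∈ L, NP F l m → NP F l m' → ∃ t ∈ Kt l, ∃ c : F, c ≠ 0 ∧ t • m = c • m'
  eq_one : ∀ m ∈ L, NP F l m → ∀ t ∈ Kt l, ∀ c : F, t • m = c • m → t = 1

namespace Gen

variable {F M : Type*} {H : Type u} [Field F] [AddCommGroup M] [Module F M] [Group H] [DistribMulAction H M] {L : Set M}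
    {A : M → Subgroup H} {I : M → Submodule F M} {al : M → M → H}

/-- `A l ^ h = A (h l)` -/
theorem cj_A (G : Gen F L A I al) {l : M} (hl : l ∈ L) (h : H) : MulAut.conj h • A l = A (h • l) := by
  ext x
  rw [mem_cj]
  constructor
  · intro hx
    have h1 := G.A_conj h hl hx
    have e : h * (h⁻¹ * x * h) * h⁻¹ = x := by group
    rwa [e] at h1
  · intro hx
    have h1 := G.A_conj h⁻¹ (G.smul h hl) hx
    rwa [inv_smul_smul, inv_inv] at h1

/-- `A l = A m` only if `m ∈ F l` -/
theorem exists_of_A_eq (G : Gen F L A I al) {l m : M} (hl : l ∈ L) (hm : m ∈ L) (he : A l = A m) : ∃ c : F, m = c • l := by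
  obtain ⟨a, ha, ha1⟩ := G.ne hl
  exact G.ti hl hm ha (he ▸ ha) ha1

theorem exists_of_norm (G : Gen F L A I al) {l : M} {h : H} (hl : l ∈ L) (hh : h ∈ normalizer (A l : Set H)) :
    ∃ c : F, h • l = c • l := by
  rw [mem_normalizer_iff_cj, G.cj_A hl] at hh
  exact G.exists_of_A_eq hl (G.smul h hl) hh.symm

/-- no edges -/
theorem noE (G : Gen F L A I al) (ho : Opp F L A) {l m : M} (hl : l ∈ L) (hm : m ∈ L) (hlm : NP F l m)
    (h4 : 4 ≤ Nat.card (A l)) : NoE (A l) := by
  refine NoE.of (fun a ha b hb => G.A_comm hl ha hb) (fun a ha => G.sq hl ha) h4 ?_ ?_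
  · intro g a ha ha1 haN
    rw [G.cj_A hl] at haN ⊢
    obtain ⟨c, hc⟩ := G.exists_of_norm (G.smul g hl) haN
    have h1 := G.fix_of_inv (G.smul g hl) (G.sq hl ha) hc
    by_cases hn : NP F l (g • l)
    · exact absurd (ho hl (G.smul g hl) hn ha h1) ha1
    · unfold NP at hn
      push Not at hn
      obtain ⟨d, hd⟩ := hn
      have hd0 : d ≠ 0 := by
        rintro rfl
        rw [zero_smul] at hd
        exact G.ne_zero (G.smul g hl) hd
      rw [hd, G.A_sm hd0 hl]
  · obtain ⟨h, c, hc, he⟩ := G.trans hl hm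
    refine ⟨h, fun h1 => ?_⟩
    rw [G.cj_A hl, he, G.A_sm hc hm] at h1
    obtain ⟨d, hd⟩ := G.exists_of_A_eq hl hm h1.symm
    exact hlm d hd

/-- the number of conjugates -/
theorem card_members [Finite H] (G : Gen F L A I al) {Kt : M → Subgroup H} {l m : M} (hl : l ∈ L) (hm : m ∈ L)
    (hlm : NP F l m) (hfix : ∀ t ∈ Kt l, t • l = l) (hR : Reg F L Kt l) :
    Nat.card {D // Cj (A l) D} = Nat.card (Kt l) + 1 := by
  have hlm' := G.np_symm hl hm hlm
  have key : ∀ t : H, t ∈ Kt l → NP F l (t • m) := by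
    intro t ht c hc
    apply hlm c
    have h1 : t • m = t • (c • l) := by rw [hc, G.lin, hfix t ht]
    exact smul_left_cancel t h1
  have hfin : Finite (Kt l) := inferInstance
  rw [← Finite.card_option]
  symm
  let f : Option (Kt l) → {D // Cj (A l) D} := fun x =>
    match x with
    | none => ⟨A l, Cj.refl _⟩
    | some t => ⟨MulAut.conj (t : H) • A m, by
        obtain ⟨h, c, hc, he⟩ := G.trans hl hm
        refine ⟨t * h, ?_⟩
        rw [cj_mul, G.cj_A hl, he, G.A_sm hc hm]⟩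
  have hA : ∀ t : H, MulAut.conj t • A m = A (t • m) := fun t => G.cj_A hm t
  refine Nat.card_congr (Equiv.ofBijective f ⟨?_, ?_⟩)
  · rintro (_ | x) (_ | y) he
    · rfl
    · exfalso
      have h1 : A l = MulAut.conj (y : H) • A m := congrArg Subtype.val he
      rw [hA] at h1
      obtain ⟨c, hc⟩ := G.exists_of_A_eq hl (G.smul _ hm) h1
      exact key y y.2 c hc
    · exfalso
      have h1 : MulAut.conj (x : H) • A m = A l := congrArg Subtype.val he
      rw [hA] at h1
      obtain ⟨c, hc⟩ := G.exists_of_A_eq hl (G.smul _ hm) h1.symm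
      exact key x x.2 c hc
    · have h1 : MulAut.conj (x : H) • A m = MulAut.conj (y : H) • A m := congrArg Subtype.val he
      rw [hA, hA] at h1
      obtain ⟨c, hc⟩ := G.exists_of_A_eq (G.smul _ hm) (G.smul _ hm) h1
      have h2 : ((x : H)⁻¹ * y) • m = c • m := by
        rw [mul_smul, hc, G.lin, inv_smul_smul]
      have h3 := hR.eq_one m hm hlm _ (mul_mem (inv_mem x.2) y.2) c h2
      rw [Subtype.ext (inv_mul_eq_one.1 h3)]
  · rintro ⟨D, g, rfl⟩
    by_cases hn : NP F l (g • l)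
    · obtain ⟨t, ht, c, hc, he⟩ := hR.trans m hm (g • l) (G.smul g hl) hlm hn
      refine ⟨some ⟨t, ht⟩, Subtype.ext ?_⟩
      show MulAut.conj t • A m = MulAut.conj g • A l
      rw [hA, he, G.A_sm hc (G.smul g hl), G.cj_A hl]
    · unfold NP at hn
      push Not at hn
      obtain ⟨d, hd⟩ := hn
      have hd0 : d ≠ 0 := by
        rintro rfl
        rw [zero_smul] at hd
        exact G.ne_zero (G.smul g hl) hd
      refine ⟨none, Subtype.ext ?_⟩
      show A l = MulAut.conj g • A l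
      rw [G.cj_A hl, hd, G.A_sm hd0 hl]

/-- `H → End_F(M)` -/
noncomputable def toEnd (G : Gen F L A I al) : H →* (M →ₗ[F] M) where
  toFun h :=
    { toFun := fun m => h • m
      map_add' := fun x y => smul_add h x y
      map_smul' := fun c x => G.lin h c x }
  map_one' := LinearMap.ext fun m => one_smul H m
  map_mul' a b := LinearMap.ext fun m => mul_smul a b m

theorem toEnd_apply (G : Gen F L A I al) (h : H) (m : M) : G.toEnd h m = h • m := rfl

theorem sq_one' (G : Gen F L A I al) {l : M} (hl : l ∈ L) {c : F} (h : c * c = 1) : c = 1 :=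
  G.sq_one hl (by rw [h, one_smul])

/-- elements of `⟨A^H⟩` have determinant 1 -/
theorem det_soc (G : Gen F L A I al) {l : M} (hl : l ∈ L) {h : H} (hh : h ∈ soc (A l)) :
    LinearMap.det (G.toEnd h) = 1 := by
  let δ : H →* F := (LinearMap.det : (M →ₗ[F] M) →* F).comp G.toEnd
  have h1 : soc (A l) ≤ δ.ker := by
    refine normalClosure_le_normal fun a ha => ?_
    rw [SetLike.mem_coe, MonoidHom.mem_ker]
    refine G.sq_one' hl ?_
    rw [← map_mul, G.sq hl ha, map_one]
  exact MonoidHom.mem_ker.1 (h1 hh)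

/-- **`Z(⟨A^H⟩) = 1`** -/
theorem center_soc [Finite H] (G : Gen F L A I al) (hf : ∀ h : H, (∀ m : M, h • m = m) → h = 1) {l : M} (hl : l ∈ L)
    (hE : NoE (A l)) (h4 : Module.finrank F M = 4) : center (soc (A l)) = ⊥ := by
  rw [Subgroup.eq_bot_iff_forall]
  rintro ⟨c, hcs⟩ hc
  rw [mem_center_iff] at hc
  have hcc : ∀ s ∈ soc (A l), s * c = c * s := fun s hs => congrArg Subtype.val (hc ⟨s, hs⟩)
  -- `c` normalises `A l`
  have hcN : c ∈ normalizer (A l : Set H) := by
    rw [mem_normalizer_iff]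
    intro x
    constructor
    · intro hx
      rw [← hcc x (le_soc hx), mul_inv_cancel_right]
      exact hx
    · intro hx
      have h1 : c * x * c⁻¹ ∈ soc (A l) := le_soc hx
      have h2 := hcc _ h1
      have h3 : c * x * c⁻¹ = x := by
        have h4 : c * x * c⁻¹ * c = c * (c * x * c⁻¹) := h2
        rw [inv_mul_cancel_right] at h4
        exact (mul_left_cancel h4).symm
      rwa [h3] at hx
  obtain ⟨γ, hγ⟩ := G.exists_of_norm hl hcN
  -- `c` is the scalar `γ` on `L`
  have hL : ∀ m ∈ L, c • m = γ • m := by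
    intro m hm
    obtain ⟨h, d, hd, he⟩ := G.trans hl hm
    obtain ⟨s, hs, hEq⟩ := hE.wa.exists_conj_of_le (B := MulAut.conj h • A l) ⟨h, rfl⟩ le_soc
      (cj_le_soc ⟨h, rfl⟩)
    rw [G.cj_A hl, G.cj_A hl] at hEq
    obtain ⟨d', hd'⟩ := G.exists_of_A_eq (G.smul s hl) (G.smul h hl) hEq.symm
    have h1 : c • (s • l) = γ • (s • l) := by
      rw [← mul_smul, ← hcc s hs, mul_smul, hγ, G.lin]
    have h2 : c • (h • l) = γ • (h • l) := by
      rw [hd', G.lin, h1, smul_comm]
    rw [he, G.lin, smul_comm γ d] at h2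
    exact (smul_right_injective M hd) h2
  have hM : G.toEnd c = γ • LinearMap.id := by
    refine LinearMap.ext_on G.gen fun m hm => ?_
    rw [G.toEnd_apply, LinearMap.smul_apply, LinearMap.id_apply]
    exact hL m hm
  have h1 := G.det_soc hl hcs
  rw [hM, LinearMap.det_smul, h4, LinearMap.det_id, mul_one] at h1
  have h2 : γ = 1 := by
    apply G.sq_one' hl
    apply G.sq_one' hl
    calc γ * γ * (γ * γ) = γ ^ 4 := by ring
      _ = 1 := h1
  apply Subtype.ext
  refine hf c fun m => ?_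
  rw [← G.toEnd_apply, hM, h2, one_smul]
  rfl

/-- **(E4)** -/
theorem isoSuzuki [Finite H] (G : Gen F L A I al) (hcrit : CritAll.{u}) (hbend : BenderAll.{u})
    (hf : ∀ h : H, (∀ m : M, h • m = m) → h = 1) (ho : Opp F L A) (h4 : Module.finrank F M = 4)
    {Kt : M → Subgroup H} {l m : M} (hl : l ∈ L) (hm : m ∈ L) (hlm : NP F l m)
    (hA : 4 ≤ Nat.card (A l)) (hfix : ∀ t ∈ Kt l, t • l = l) (hR : Reg F L Kt l)
    (hKt : Nat.card (Kt l) = Nat.card (A l) ^ 2) :
    Cfsg.Lie.IsoSuzuki (soc (A l)) ∧ ∃ P : Sylow 2 (soc (A l)), Nat.card P = Nat.card (A l) ^ 2 ∧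
      (∀ x ∈ P, x * x = 1 → (x : H) ∈ A l) ∧ ∀ x : soc (A l), (x : H) ∈ A l → x ∈ P := by
  have hE := G.noE ho hl hm hlm hA
  refine hE.isoSuzuki hcrit hbend (G.center_soc hf hl hE h4) ?_
  rw [G.card_members hl hm hlm hfix hR, hKt]

end Gen

end Cfsg.Agent.Omega.NO3S.OneQ.TIq
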