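import Cfsg.Agent.Omega.NO3S.OneQ.TIq.Part

/-!
# NO-3S, `OneSz`, the TI world, `D_x = I`: `k ≥ 2` is impossible, part 1 (bb OMEGA #19856 (2), #19449 (B3), (B4))

* `Gen.fr_k`, `Gen.fr_I` : the dimensions do not depend on the line
* `Gen.opp`, `Gen.opp_I` : `m ∉ Ebar_l` ⟹ opposite and `Ibar_l ∩ Ibar_m = 0`
* `Gen.line_mem` : `m ∈ Ebar_l` ⟹ `l + c m ∈ L ∪ 0` (`k ≥ 2`)
* `Gen.b3dim` : partial pairs: `dim Ibar = k + dim C_1`, `Ibar_l ≤ [M, A_l] + C_1`
* `Gen.b4` : partial pairs: `C_1 ∩ L = ∅`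
-/

set_option autoImplicit false
set_option linter.unusedSimpArgs false
set_option linter.unusedSectionVars false

namespace Cfsg.Agent.Omega.NO3S.OneQ.TIq

open Module

namespace Gen

variable {F M H : Type*} [Field F] [AddCommGroup M] [Module F M] [Group H] [DistribMulAction H M] {L : Set M}
    {A : M → Subgroup H} {I : M → Submodule F M} {al : M → M → H}

/-- opposite points exist -/
theorem exists_opp (G : Gen F L A I al) {l : M} (hl : l ∈ L) : ∃ m ∈ L, al l m ≠ 1 := by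
  by_contra hcon
  push Not at hcon
  have h1 : Submodule.span F L ≤ G.E hl := Submodule.span_le.2 fun m hm => hcon m hm
  rw [G.gen] at h1
  obtain ⟨a, ha, ha1⟩ := G.ne hl
  obtain ⟨x, rfl⟩ := G.al_surj hl ha
  exact ha1 (h1 (Submodule.mem_top (x := x)))

theorem np_of_E (G : Gen F L A I al) {l m : M} (hl : l ∈ L) (h : al l m ≠ 1) : NP F l m := by
  rintro c rfl
  exact h (G.al_I_one hl ((I l).smul_mem c (G.self hl)))

theorem np_of_I (G : Gen F L A I al) {l m : M} (hl : l ∈ L) (h : m ∉ I l) : NP F l m := by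
  rintro c rfl
  exact h ((I l).smul_mem c (G.self hl))

section fin

variable [Finite F] [Finite M] [Finite H]

/-- `m ∉ Ebar_l` ⟹ opposite -/
theorem opp (G : Gen F L A I al) {l m : M} (hl : l ∈ L) (hm : m ∈ L) (h : al l m ≠ 1) {b : H} (hb : b ∈ A l)
    (hbm : b • m = m) : b = 1 := by
  by_contra hb1
  apply h
  by_cases hex : ∃ a ∈ A l, a • m ≠ m
  · exact G.d3 hl hm (G.np_of_E hl h) hex hb hb1 hbm
  · push Not at hex
    exact G.al_I_one hl (G.fixI hl hex)

theorem opp_I (G : Gen F L A I al) {l m : M} (hl : l ∈ L) (hm : m ∈ L) (h : al l m ≠ 1) : I l ⊓ I m = ⊥ := by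
  rw [eq_bot_iff]
  intro u hu
  rw [Submodule.mem_bot]
  by_contra hu0
  exact h (G.opp hl hm h (G.al_mem hl m) (G.alpha hl hm (G.np_of_E hl h) hu.1 hu.2 hu0))

theorem fr_k (G : Gen F L A I al) {l m : M} (hl : l ∈ L) (hm : m ∈ L) :
    finrank F (M ⧸ G.E hl) = finrank F (M ⧸ G.E hm) := by
  have h1 := G.card_A_eq hl
  have h2 := G.card_A_eq hm
  rw [le_antisymm (G.card_A hl hm) (G.card_A hm hl), h2] at h1
  exact (Nat.pow_right_injective (Finite.one_lt_card (α := F)) h1).symm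

theorem fr_I (G : Gen F L A I al) {l m : M} (hl : l ∈ L) (hm : m ∈ L) :
    finrank F (I l) = finrank F (I m) := by
  have h1 := G.fr_k hl hm
  have h2 := G.fr_M hl
  have h3 := G.fr_M hm
  have h4 := G.fr_E hl
  have h5 := G.fr_E hm
  omega

/-- `dim ker f ≥ dim M - 1` -/
theorem ker_ge (f : M →ₗ[F] F) : finrank F M ≤ finrank F (LinearMap.ker f) + 1 := by
  have h1 := LinearMap.finrank_range_add_finrank_ker f
  have h2 : finrank F (LinearMap.range f) ≤ finrank F F := Submodule.finrank_le _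
  rw [finrank_self] at h2
  omega

theorem ker_le {f : M →ₗ[F] F} (hf : f ≠ 0) : finrank F (LinearMap.ker f) + 1 ≤ finrank F M := by
  have h1 := LinearMap.finrank_range_add_finrank_ker f
  have h2 : finrank F (LinearMap.range f) ≠ 0 := by
    intro h
    exact hf (LinearMap.range_eq_bot.1 (Submodule.finrank_eq_zero.1 h))
  omega

/-- `k ≥ 2` : every `e ∈ Ebar_l` is fixed by some `b ≠ 1` in `A l` -/
theorem ex_fix (G : Gen F L A I al) {l e : M} (hl : l ∈ L) (hk : 2 ≤ finrank F (M ⧸ G.E hl)) (he : al l e = 1) :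
    ∃ b ∈ A l, b ≠ 1 ∧ b • e = e := by
  by_contra hcon
  push Not at hcon
  have h1 : LinearMap.ker (G.Phi hl ⟨e, he⟩) ≤ G.E hl := by
    intro x hx
    by_contra hxE
    apply hcon _ (G.al_mem hl x) hxE
    have := G.Phi_spec' hl ⟨e, he⟩ x
    rw [LinearMap.mem_ker.1 hx, zero_smul, add_zero] at this
    exact this
  have h2 := Submodule.finrank_mono h1
  have h3 := ker_ge (G.Phi hl ⟨e, he⟩)
  have h4 := G.fr_M hl
  omega

/-- partial pairs (`k ≥ 2`) are those with `m ∈ Ebar_l`, `m ∉ Ibar_l` -/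
theorem pex (G : Gen F L A I al) {l m : M} (hl : l ∈ L) (hI : m ∉ I l) : ∃ a ∈ A l, a • m ≠ m := by
  by_contra hcon
  push Not at hcon
  exact hI (G.fixI hl hcon)

theorem psymm (G : Gen F L A I al) {l m : M} (hl : l ∈ L) (hm : m ∈ L) (hk : 2 ≤ finrank F (M ⧸ G.E hl))
    (hE : al l m = 1) (hI : m ∉ I l) : al m l = 1 ∧ l ∉ I m := by
  obtain ⟨b, hb, hb1, hbm⟩ := G.ex_fix hl hk hE
  obtain ⟨h1, b', hb', hb1', hbl'⟩ := G.part_symm' hl hm (G.pex hl hI) hb hb1 hbm
  exact ⟨G.d3 hm hl (G.np_symm hl hm (G.np_of_I hl hI)) h1 hb' hb1' hbl', fun h => hI (G.I_symm hm hl h)⟩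

/-- `m ∈ Ebar_l` ⟹ `l + c m ∈ L ∪ 0` -/
theorem line_mem (G : Gen F L A I al) {l m : M} (hl : l ∈ L) (hm : m ∈ L) (hk : 2 ≤ finrank F (M ⧸ G.E hl))
    (hE : al l m = 1) (c : F) : l + c • m = 0 ∨ l + c • m ∈ L := by
  by_cases hI : m ∈ I l
  · exact G.plane hl hm hI c
  · right
    obtain ⟨h1, h2⟩ := G.psymm hl hm hk hE hI
    obtain ⟨a, -, ha⟩ := G.d3_move hm (G.pex hm h2) h1 c
    rw [← ha]
    exact G.smul a hl

/-- `Ibar_l ≤ ..`, `i ≤ 2 k` -/
theorem i_le (G : Gen F L A I al) {l : M} (hl : l ∈ L) : finrank F (I l) ≤ 2 * finrank F (M ⧸ G.E hl) := by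
  obtain ⟨m, hm, h⟩ := G.exists_opp hl
  have h1 := G.opp_I hl hm h
  have h2 := Submodule.finrank_sup_add_finrank_inf_eq (I l) (I m)
  have h3 : finrank F (I l ⊔ I m : Submodule F M) ≤ finrank F M := Submodule.finrank_le _
  rw [h1, finrank_bot] at h2
  have h4 := G.fr_I hl hm
  have h5 := G.fr_M hl
  have h6 := G.fr_E hl
  omega

/-- `[M, A_l]` -/
def R (_G : Gen F L A I al) (l : M) : Submodule F M := Submodule.span F {w | ∃ a ∈ A l, ∃ x : M, w = a • x + x}

theorem R_mem (G : Gen F L A I al) {l a : _} (ha : a ∈ A l) (x : M) : a • x + x ∈ G.R l :=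
  Submodule.subset_span ⟨a, ha, x, rfl⟩

theorem self_R (G : Gen F L A I al) {l : M} (hl : l ∈ L) : l ∈ G.R l := by
  obtain ⟨a, ha, ha1⟩ := G.ne hl
  obtain ⟨e, -, he⟩ := G.phi hl ha ha1
  have := G.R_mem ha e
  rw [he] at this
  have h2 : e + l + e = l := by
    rw [add_comm e l, add_assoc, G.two, add_zero]
  rwa [h2] at this

/-- `[m, al l x]` mod `N`, linear in `x` -/
noncomputable def Bt (G : Gen F L A I al) {l : M} (hl : l ∈ L) (m : M) (N : Submodule F M) (hN : l ∈ N) :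
    M →ₗ[F] M ⧸ N where
  toFun x := Submodule.Quotient.mk (al l x • m + m)
  map_add' x y := by
    rw [← Submodule.Quotient.mk_add]
    congr 1
    have h1 := G.comm hl (G.al_mem hl y) m
    have h2 := G.fix hl (G.al_mem hl x) h1
    rw [smul_add] at h2
    rw [G.al_add hl, mul_smul]
    have h3 : al l x • al l y • m = (al l y • m + m) + al l x • m := by
      rw [← h2, add_assoc, G.two, add_zero]
    rw [h3]
    abel
  map_smul' c x := by
    rw [RingHom.id_apply, ← Submodule.Quotient.mk_smul]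
    rw [Submodule.Quotient.eq]
    obtain ⟨d, hd⟩ := G.bl hl c m x
    rw [hd]
    have : c • (al l x • m + m) + d • l - c • (al l x • m + m) = d • l := by abel
    rw [this]
    exact N.smul_mem _ hN

theorem Bt_apply (G : Gen F L A I al) {l : M} (hl : l ∈ L) (m : M) (N : Submodule F M) (hN : l ∈ N) (x : M) :
    G.Bt hl m N hN x = Submodule.Quotient.mk (al l x • m + m) := rfl

theorem Bt_zero (G : Gen F L A I al) {l : M} (hl : l ∈ L) (m : M) (N : Submodule F M) (hN : l ∈ N) (x : M) :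
    G.Bt hl m N hN x = 0 ↔ al l x • m + m ∈ N := by
  rw [Bt_apply, Submodule.Quotient.mk_eq_zero]

/-- (B3), the upper bound -/
theorem b3up (G : Gen F L A I al) {l m : M} (hl : l ∈ L) (hm : m ∈ L) (hk : 2 ≤ finrank F (M ⧸ G.E hl))
    (hE : al l m = 1) (hI : m ∉ I l) :
    finrank F (I l) ≤ finrank F (M ⧸ G.E hl) + finrank F (I l ⊓ I m : Submodule F M) := by
  have two := G.two
  have tl := G.two_left
  obtain ⟨b, hb, hb1, hbm⟩ := G.ex_fix hl hk hE
  obtain ⟨h1, b', hb', hb1', hbl'⟩ := G.part_symm' hl hm (G.pex hl hI) hb hb1 hbm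
  obtain ⟨-, hlm⟩ := G.psymm hl hm hk hE hI
  obtain ⟨φ, hφ⟩ : ∃ φ, φ = G.Phi hl ⟨m, hE⟩ := ⟨_, rfl⟩
  have hφ0 : φ ≠ 0 := by
    rw [hφ, Ne, G.Phi_zero_iff]
    exact hI
  -- `S ≤ K_m`
  have hS : I l ⊔ I m ⊔ G.E hl ≤ LinearMap.ker φ := by
    refine sup_le (sup_le ?_ ?_) ?_
    · exact (G.I_le_E hl).trans (hφ ▸ G.Phi_E hl _)
    · intro u hu
      rw [LinearMap.mem_ker, hφ]
      apply G.Phi_eq hl
      rw [zero_smul, add_zero]
      exact G.al_I hl hm hb' hb1' hbl' hu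
    · exact hφ ▸ G.Phi_E hl _
  -- `S ∩ E_l ≤ I_l + F m`
  have hSE : (I l ⊔ I m) ⊓ G.E hl ≤ I l ⊔ Submodule.span F {m} := by
    rintro e ⟨heS, heE⟩
    obtain ⟨u, hu, w, hw, rfl⟩ := Submodule.mem_sup.1 heS
    obtain ⟨ψ, hψ⟩ : ∃ ψ, ψ = G.Phi hl ⟨u + w, heE⟩ := ⟨_, rfl⟩
    have hker : LinearMap.ker φ ≤ LinearMap.ker ψ := by
      intro x hx
      have hxm : al l x • m = m := by
        have := G.Phi_spec' hl ⟨m, hE⟩ x
        rw [← hφ, LinearMap.mem_ker.1 hx, zero_smul, add_zero] at this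
        exact this
      have h2 := G.Phi_spec hl ⟨u + w, heE⟩ x
      rw [← hψ] at h2
      rw [LinearMap.mem_ker]
      apply G.smul_notMem hlm
      rw [← h2]
      change al l x • (u + w) + (u + w) ∈ I m
      rw [smul_add, G.fix hl (G.al_mem hl x) hu]
      have h3 : u + al l x • w + (u + w) = al l x • w + w := by
        simp only [add_assoc, add_comm, add_left_comm, two, tl, add_zero]
      rw [h3]
      exact add_mem (G.I_conj' hm hw hxm) hw
    obtain ⟨c, hc⟩ : ∃ c : F, ψ = c • φ := by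
      obtain ⟨x₀, hx₀⟩ : ∃ x₀, φ x₀ ≠ 0 := by
        by_contra hcon
        push Not at hcon
        exact hφ0 (LinearMap.ext hcon)
      refine ⟨ψ x₀ * (φ x₀)⁻¹, LinearMap.ext fun x => ?_⟩
      have h4 : x - (φ x * (φ x₀)⁻¹) • x₀ ∈ LinearMap.ker φ := by
        rw [LinearMap.mem_ker, map_sub, map_smul, smul_eq_mul, mul_assoc, inv_mul_cancel₀ hx₀, mul_one, sub_self]
      have h5 := hker h4
      rw [LinearMap.mem_ker, map_sub, map_smul, smul_eq_mul, sub_eq_zero] at h5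
      rw [h5, LinearMap.smul_apply, smul_eq_mul]
      ring
    rw [hψ, hφ] at hc
    have h6 := G.Phi_smul hl hc
    change u + w + c • m ∈ I l at h6
    have h7 : u + w = (u + w + c • m) + c • m := by
      simp only [add_assoc, add_comm, add_left_comm, two, tl, add_zero]
    rw [h7]
    exact Submodule.add_mem_sup h6 (Submodule.smul_mem _ _ (Submodule.mem_span_singleton_self m))
  have h8 := Submodule.finrank_sup_add_finrank_inf_eq (I l ⊔ I m) (G.E hl)
  have h9 := Submodule.finrank_sup_add_finrank_inf_eq (I l) (I m)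
  have h10 := Submodule.finrank_mono hS
  have h11 := Submodule.finrank_mono hSE
  have h12 := ker_le hφ0
  have h13 : finrank F (I l ⊔ Submodule.span F {m} : Submodule F M) ≤ finrank F (I l) + 1 := by
    have h14 := Submodule.finrank_sup_add_finrank_inf_eq (I l) (Submodule.span F {m})
    have h15 := finrank_span_singleton (K := F) (G.ne_zero hm)
    omega
  have h16 := G.fr_M hl
  have h17 := G.fr_E hl
  have h18 := G.fr_I hl hm
  omega

/-- (3c) for `n` with `[m₁, n] ∈ F l + C_1` -/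
theorem n_one (G : Gen F L A I al) {l m m₁ x : M} (hl : l ∈ L) (hm : m ∈ L)
    (hE : al l m = 1) (hm₁ : al l m₁ • m ≠ m) (hx : al l x • m = m)
    (h : al l x • m₁ + m₁ ∈ Submodule.span F {l} ⊔ (I l ⊓ I m)) : al l x = 1 := by
  have two := G.two
  have tl := G.two_left
  obtain ⟨a', ha', hal⟩ := G.exists_move hl hm (G.al_mem hl m₁) hm₁
  obtain ⟨n, hn⟩ : ∃ n, n = al l x := ⟨_, rfl⟩
  have hnA : n ∈ A l := hn ▸ G.al_mem hl x
  rw [← hn] at hx h ⊢
  refine G.c3 hl hm ha' hal hnA hx fun m₀ => ?_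
  suffices hmem : n • m₀ + m₀ ∈ Submodule.span F {l} ⊔ (I l ⊓ I m) by
    obtain ⟨y, hy, c, hc, e⟩ := Submodule.mem_sup.1 hmem
    obtain ⟨d, rfl⟩ := Submodule.mem_span_singleton.1 hy
    exact ⟨c, hc, d, by rw [← e, add_comm]⟩
  -- the submodule of good vectors
  let N : Submodule F M :=
    { carrier := {y | n • y + y ∈ Submodule.span F {l} ⊔ (I l ⊓ I m)}
      add_mem' := fun {a b} ha hb => by
        change n • (a + b) + (a + b) ∈ Submodule.span F {l} ⊔ (I l ⊓ I m)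
        have : n • (a + b) + (a + b) = (n • a + a) + (n • b + b) := by rw [smul_add]; abel
        rw [this]
        exact add_mem ha hb
      zero_mem' := by
        change n • (0 : M) + 0 ∈ Submodule.span F {l} ⊔ (I l ⊓ I m)
        rw [smul_zero, add_zero]
        exact zero_mem _
      smul_mem' := fun c y hy => by
        change n • (c • y) + c • y ∈ Submodule.span F {l} ⊔ (I l ⊓ I m)
        rw [G.lin, ← smul_add]
        exact Submodule.smul_mem _ _ hy }
  change m₀ ∈ N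
  -- `K_m ≤ N`
  have hK : ∀ x₀, al l x₀ • m = m → x₀ ∈ N := by
    intro x₀ h0
    obtain ⟨b, -, -, hb'm, hb'l, hbb⟩ := G.surj hl hm (G.al_mem hl m₁) hm₁ ha' hal (G.al_mem hl x₀) h0
    obtain ⟨b', hb'e⟩ : ∃ b', b' = b * (a' * b * a') := ⟨_, rfl⟩
    rw [← hb'e] at hb'm hb'l hbb
    obtain ⟨c₀, hc₀⟩ : ∃ c₀, c₀ = b' • m₁ + m₁ := ⟨_, rfl⟩
    have hc₀m : c₀ ∈ I m := hc₀ ▸ G.comm hm hb'm m₁
    have h1 : al l c₀ = al l x₀ := by
      rw [hc₀, G.al_add hl, G.al_conj hl hb'l, G.inv hm hb'm, ← hbb]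
      group
    have h2 : al l (x₀ + c₀) = 1 := by
      rw [G.al_add hl, h1, G.sq hl (G.al_mem hl x₀)]
    obtain ⟨d, h3⟩ := (G.al_ker hl _).1 h2 n hnA
    have h4 : n • c₀ + c₀ ∈ I l ⊓ I m :=
      ⟨G.comm hl hnA c₀, add_mem (G.I_conj' hm hc₀m hx) hc₀m⟩
    change n • x₀ + x₀ ∈ Submodule.span F {l} ⊔ (I l ⊓ I m)
    have h5 : n • x₀ + x₀ = d • l + (n • c₀ + c₀) := by
      rw [smul_add] at h3
      calc n • x₀ + x₀ = (n • x₀ + n • c₀) + (x₀ + c₀) + (n • c₀ + c₀) := by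
            simp only [add_assoc, add_comm, add_left_comm, two, tl, add_zero]
        _ = _ := by
            rw [h3]
            simp only [add_assoc, add_comm, add_left_comm, two, tl, add_zero]
    rw [h5]
    exact Submodule.add_mem_sup (Submodule.smul_mem _ _ (Submodule.mem_span_singleton_self l)) h4
  obtain ⟨φ, hφ⟩ : ∃ φ, φ = G.Phi hl ⟨m, hE⟩ := ⟨_, rfl⟩
  have hφm₁ : φ m₁ ≠ 0 := by
    intro h0
    apply hm₁
    have := G.Phi_spec' hl ⟨m, hE⟩ m₁
    rw [← hφ, h0, zero_smul, add_zero] at this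
    exact this
  have h6 : m₀ - (φ m₀ * (φ m₁)⁻¹) • m₁ ∈ N := by
    apply hK
    have := G.Phi_spec' hl ⟨m, hE⟩ (m₀ - (φ m₀ * (φ m₁)⁻¹) • m₁)
    rw [← hφ, map_sub, map_smul, smul_eq_mul, mul_assoc, inv_mul_cancel₀ hφm₁, mul_one, sub_self, zero_smul,
      add_zero] at this
    exact this
  have h7 : m₁ ∈ N := h
  have := N.add_mem h6 (N.smul_mem (φ m₀ * (φ m₁)⁻¹) h7)
  rwa [sub_add_cancel] at this

/-- (B3) -/
theorem b3dim (G : Gen F L A I al) {l m : M} (hl : l ∈ L) (hm : m ∈ L) (hk : 2 ≤ finrank F (M ⧸ G.E hl))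
    (hE : al l m = 1) (hI : m ∉ I l) :
    finrank F (I l) = finrank F (M ⧸ G.E hl) + finrank F (I l ⊓ I m : Submodule F M) ∧
      I l ≤ G.R l ⊔ (I l ⊓ I m) := by
  have two := G.two
  have tl := G.two_left
  have hup := G.b3up hl hm hk hE hI
  obtain ⟨-, hlm⟩ := G.psymm hl hm hk hE hI
  obtain ⟨a₁, ha₁, ha₁m⟩ := G.pex hl hI
  obtain ⟨m₁, rfl⟩ := G.al_surj hl ha₁
  obtain ⟨φ, hφ⟩ : ∃ φ, φ = G.Phi hl ⟨m, hE⟩ := ⟨_, rfl⟩
  have hφ0 : φ ≠ 0 := by
    rw [hφ, Ne, G.Phi_zero_iff]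
    exact hI
  have hKm : ∀ x, φ x = 0 → al l x • m = m := by
    intro x hx
    have := G.Phi_spec' hl ⟨m, hE⟩ x
    rw [← hφ, hx, zero_smul, add_zero] at this
    exact this
  let N : Submodule F M := Submodule.span F {l} ⊔ (I l ⊓ I m)
  have hlN : l ∈ N := (le_sup_left : _ ≤ N) (Submodule.mem_span_singleton_self l)
  have hNI : N ≤ I l := sup_le (Submodule.span_le.2 (by rintro x rfl; exact G.self hl)) inf_le_left
  let T : LinearMap.ker φ →ₗ[F] M ⧸ N := (G.Bt hl m₁ N hlN).comp (LinearMap.ker φ).subtype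
  have h1 := LinearMap.finrank_range_add_finrank_ker T
  have h2 : LinearMap.ker T = (G.E hl).comap (LinearMap.ker φ).subtype := by
    ext x
    rw [LinearMap.mem_ker, Submodule.mem_comap]
    change G.Bt hl m₁ N hlN (x : M) = 0 ↔ al l (x : M) = 1
    rw [G.Bt_zero hl]
    constructor
    · intro h
      exact G.n_one hl hm hE ha₁m (hKm x x.2) h
    · intro h
      rw [h, one_smul, two]
      exact zero_mem _
  have hEK : G.E hl ≤ LinearMap.ker φ := hφ ▸ G.Phi_E hl _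
  have h3 : finrank F (LinearMap.ker T) = finrank F (G.E hl) := by
    rw [h2]
    exact (Submodule.comapSubtypeEquivOfLe hEK).finrank_eq
  have h4 : LinearMap.range T ≤ (I l).map N.mkQ := by
    rintro _ ⟨x, rfl⟩
    exact ⟨_, G.comm hl (G.al_mem hl (x : M)) m₁, rfl⟩
  have h5 : finrank F ((I l).map N.mkQ) + finrank F N = finrank F (I l) := by
    have h6 := LinearMap.finrank_range_add_finrank_ker (N.mkQ.comp (I l).subtype)
    have h7 : LinearMap.range (N.mkQ.comp (I l).subtype) = (I l).map N.mkQ := by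
      rw [LinearMap.range_comp, Submodule.range_subtype]
    have h8 : LinearMap.ker (N.mkQ.comp (I l).subtype) = N.comap (I l).subtype := by
      rw [LinearMap.ker_comp, Submodule.ker_mkQ]
    rw [h7, h8, (Submodule.comapSubtypeEquivOfLe hNI).finrank_eq] at h6
    exact h6
  have h9 : finrank F N = 1 + finrank F (I l ⊓ I m : Submodule F M) := by
    have h10 := Submodule.finrank_sup_add_finrank_inf_eq (Submodule.span F {l}) (I l ⊓ I m)
    have h11 : Submodule.span F {l} ⊓ (I l ⊓ I m) = ⊥ := by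
      rw [eq_bot_iff]
      rintro x ⟨hx, hx'⟩
      obtain ⟨d, rfl⟩ := Submodule.mem_span_singleton.1 hx
      rw [G.smul_notMem hlm hx'.2, zero_smul]
      exact zero_mem _
    rw [h11, finrank_bot, add_zero, finrank_span_singleton (G.ne_zero hl)] at h10
    exact h10
  have h12 := Submodule.finrank_mono h4
  have h13 := ker_ge φ
  have h14 := G.fr_M hl
  have h15 := G.fr_E hl
  have h16 : finrank F (I l) = finrank F (M ⧸ G.E hl) + finrank F (I l ⊓ I m : Submodule F M) := by omega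
  refine ⟨h16, fun u hu => ?_⟩
  have h17 : LinearMap.range T = (I l).map N.mkQ := Submodule.eq_of_le_of_finrank_le h4 (by omega)
  have h18 : N.mkQ u ∈ LinearMap.range T := h17 ▸ ⟨u, hu, rfl⟩
  obtain ⟨x, hx⟩ := h18
  have h19 : al l (x : M) • m₁ + m₁ - u ∈ N := (Submodule.Quotient.eq N).1 hx
  have hNR : N ≤ G.R l ⊔ (I l ⊓ I m) :=
    sup_le ((Submodule.span_le.2 (by rintro x rfl; exact G.self_R hl)).trans le_sup_left) le_sup_right
  have h20 : u = (al l (x : M) • m₁ + m₁) - (al l (x : M) • m₁ + m₁ - u) := by abel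
  rw [h20]
  exact sub_mem ((le_sup_left : G.R l ≤ _) (G.R_mem (G.al_mem hl _) m₁)) (hNR h19)

/-- (B0) -/
theorem R_le (G : Gen F L A I al) {l p : M} (hl : l ∈ L) (hp : p ∈ L) (hlp : NP F l p) (h : p ∈ I l) :
    G.R l ≤ I p := by
  have two := G.two
  have tl := G.two_left
  have hlp' := G.I_symm hl hp h
  refine Submodule.span_le.2 ?_
  rintro _ ⟨a, ha, x, rfl⟩
  refine G.fixI hp fun a' ha' => ?_
  obtain ⟨w, hw⟩ : ∃ w, w = a • x + x := ⟨_, rfl⟩
  obtain ⟨w', hw'⟩ : ∃ w', w' = a' • x + x := ⟨_, rfl⟩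
  have hwI : w ∈ I l := hw ▸ G.comm hl ha x
  have hwI' : w' ∈ I p := hw' ▸ G.comm hp ha' x
  obtain ⟨c, h1⟩ := (G.al_ker hp w).1 (G.cop hp hl hlp' hwI) a' ha'
  obtain ⟨d, h2⟩ := (G.al_ker hl w').1 (G.cop hl hp h hwI') a ha
  have h3 := G.bb_comm hl hp hlp ha (G.fix hl ha h) ha' (G.fix hp ha' hlp')
  have e1 : a' • x = x + w' := by rw [hw']; simp only [add_assoc, add_comm, add_left_comm, two, tl, add_zero]
  have e2 : a • x = x + w := by rw [hw]; simp only [add_assoc, add_comm, add_left_comm, two, tl, add_zero]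
  rw [← hw]
  have h4 : a' • w = w + d • l := by
    calc a' • w = (a' * a) • x + a' • x := by rw [hw, smul_add, mul_smul]
      _ = a • (x + w') + (x + w') := by rw [← h3, mul_smul, e1]
      _ = w + d • l := by
        rw [smul_add, h2, e2]
        simp only [add_assoc, add_comm, add_left_comm, two, tl, add_zero]
  rw [h4] at h1
  have h5 := add_left_cancel h1
  by_cases hc : c = 0
  · rw [h4, h5, hc, zero_smul, add_zero]
  · exfalso
    exact hlp (c⁻¹ * d) (by rw [mul_smul, h5, smul_smul, inv_mul_cancel₀ hc, one_smul])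

/-- (B4) : `C_1 ∩ L = ∅` -/
theorem b4 (G : Gen F L A I al) {l m p : M} (hl : l ∈ L) (hm : m ∈ L) (hk : 2 ≤ finrank F (M ⧸ G.E hl))
    (hE : al l m = 1) (hI : m ∉ I l) (hp : p ∈ L) (hpl : p ∈ I l) (hpm : p ∈ I m) : False := by
  obtain ⟨hE', hI'⟩ := G.psymm hl hm hk hE hI
  have hk' : 2 ≤ finrank F (M ⧸ G.E hm) := by rw [← G.fr_k hl hm]; exact hk
  obtain ⟨h1, h2⟩ := G.b3dim hl hm hk hE hI
  obtain ⟨h3, h4⟩ := G.b3dim hm hl hk' hE' hI'
  have hlp : NP F l p := by
    rintro c rfl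
    have hc : c ≠ 0 := by
      rintro rfl
      exact G.ne_zero hp (zero_smul _ _)
    exact hI' (((I m).smul_mem_iff hc).1 hpm)
  have hmp : NP F m p := by
    rintro c rfl
    have hc : c ≠ 0 := by
      rintro rfl
      exact G.ne_zero hp (zero_smul _ _)
    exact hI (((I l).smul_mem_iff hc).1 hpl)
  let R' : Submodule F M := G.R l ⊔ G.R m ⊔ Submodule.span F {p}
  have h5 : R' ≤ I p := sup_le (sup_le (G.R_le hl hp hlp hpl) (G.R_le hm hp hmp hpm))
    (Submodule.span_le.2 (by rintro x rfl; exact G.self hp))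
  have h6 : I l ⊔ I m ≤ R' ⊔ (I l ⊓ I m) := by
    refine sup_le (h2.trans (sup_le_sup_right (le_sup_left.trans le_sup_left) _)) ?_
    rw [inf_comm (I l)]
    exact h4.trans (sup_le_sup_right (le_sup_right.trans le_sup_left) _)
  have h7 := Submodule.finrank_mono h6
  have h8 := Submodule.finrank_mono h5
  have h9 := Submodule.finrank_sup_add_finrank_inf_eq (I l) (I m)
  have h10 := Submodule.finrank_sup_add_finrank_inf_eq R' (I l ⊓ I m)
  have h11 : 1 ≤ finrank F (R' ⊓ (I l ⊓ I m) : Submodule F M) := by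
    have h12 : Submodule.span F {p} ≤ R' ⊓ (I l ⊓ I m) :=
      Submodule.span_le.2 (by
        rintro x rfl
        exact ⟨(le_sup_right : _ ≤ R') (Submodule.mem_span_singleton_self x), hpl, hpm⟩)
    have h13 := Submodule.finrank_mono h12
    rwa [finrank_span_singleton (G.ne_zero hp)] at h13
  have h14 := G.fr_I hl hm
  have h15 := G.fr_I hl hp
  have h16 := G.i_le hl
  omega

end fin

end Gen

end Cfsg.Agent.Omega.NO3S.OneQ.TIq
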