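import Cfsg.Agent.Omega.NO3S.OneQ.TIq.Big

/-!
# NO-3S, `OneSz`, the TI world, `D_x = I`: `k ≥ 2` is impossible (bb OMEGA #19856 (2), #19449 (B5)-(B7))

* `GenK.b5` : partial pairs: `C_1 = 0`
* `GenK.b6` : `dim Ibar = k`
* `GenK.k_one` : `k = 1`
-/

set_option autoImplicit false
set_option linter.unusedSimpArgs false
set_option linter.unusedSectionVars false

namespace Cfsg.Agent.Omega.NO3S.OneQ.TIq

open Module

namespace GenK

variable {F M H : Type*} [Field F] [AddCommGroup M] [Module F M] [Group H] [DistribMulAction H M] {L : Set M}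
    {A : M → Subgroup H} {I : M → Submodule F M} {al : M → M → H} {Kt : M → Subgroup H}

section fin

variable [Finite F] [Finite M] [Finite H]

/-- (B5) -/
theorem b5 (K : GenK F L A I al Kt) {l m : M} (hl : l ∈ L) (hm : m ∈ L)
    (hk : ∀ x (hx : x ∈ L), 2 ≤ finrank F (M ⧸ K.toGen.E hx))
    (hE : al l m = 1) (hI : m ∉ I l) : I l ⊓ I m = ⊥ := by
  have G := K.toGen
  have two := G.two
  have tl := G.two_left
  obtain ⟨hE', hI'⟩ := G.psymm hl hm (hk l hl) hE hI
  rw [eq_bot_iff]
  intro u hu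
  rw [Submodule.mem_bot]
  by_contra hu0
  have hmu : NP F m u := by
    rintro c rfl
    have hc : c ≠ 0 := by
      rintro rfl
      exact hu0 (zero_smul _ _)
    exact hI (((I l).smul_mem_iff hc).1 hu.1)
  obtain ⟨t, ht, htu⟩ := K.Kt_hom hm hu.2 hmu
  have htm : t • m = m := K.Kt_fix hm ht
  obtain ⟨u₁, hu₁⟩ : ∃ u₁, u₁ = u + m := ⟨_, rfl⟩
  have hu₁I : u₁ ∉ I l := by
    intro h
    apply hI
    have := add_mem hu.1 h
    rwa [hu₁, tl] at this
  have hu₁0 : u₁ ≠ 0 := by
    rintro rfl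
    exact hu₁I (zero_mem _)
  obtain ⟨l', hl'⟩ : ∃ l', l' = t • l := ⟨_, rfl⟩
  have hl'L : l' ∈ L := hl' ▸ G.smul t hl
  have hu₁l' : u₁ ∈ I l' := by
    have := G.I_conj t hl hu.1
    rwa [htu, ← hu₁, ← hl'] at this
  have hu₁m : u₁ ∈ I m := hu₁ ▸ add_mem hu.2 (G.self hm)
  obtain ⟨j, hj⟩ : ∃ j, j = l + l' := ⟨_, rfl⟩
  have hjm : j ∈ I m := by
    have := K.Kt_E hm ht hE'
    rw [hj, hl', add_comm]
    exact this
  have hl'j : l' = l + j := by rw [hj, tl]
  -- every `b ∈ B` fixes `l'`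
  have hB : ∀ b ∈ A l, b • m = m → b • l' = l' := by
    intro b hb hbm
    by_contra hbl'
    have hbu : b • u₁ = u₁ := by rw [hu₁, smul_add, hbm, G.fix hl hb hu.1]
    have h1 : u₁ ∈ I (b • l') := by
      have := G.I_conj b hl'L hu₁l'
      rwa [hbu] at this
    have h2 : b • l' ∈ L := G.smul b hl'L
    have h3 : al l' (b • l') = 1 := by
      by_contra h
      have h4 := G.opp_I hl'L h2 h
      have h5 : u₁ ∈ I l' ⊓ I (b • l') := ⟨hu₁l', h1⟩
      rw [h4] at h5
      exact hu₁0 h5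
    have h4 := G.line_mem hl'L h2 (hk l' hl'L) h3 1
    rw [one_smul] at h4
    have h5 : l' + b • l' = b • j + j := by
      rw [hl'j, smul_add, G.A_fix hl hb]
      simp only [add_assoc, add_comm, add_left_comm, two, tl, add_zero]
    rcases h4 with h4 | h4
    · exact hbl' (G.eq_of_add h4).symm
    · refine G.b4 hl hm (hk l hl) hE hI h4 ?_ ?_
      · rw [h5]; exact G.comm hl hb j
      · rw [h5]; exact add_mem (G.I_conj' hm hjm hbm) hjm
  -- `l'` is not in the point of `l`
  have hll' : NP F l l' := by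
    intro c hc
    have h1 : (1 + c) • l ∈ I m := by
      rw [add_smul, one_smul, ← hc, ← hj]
      exact hjm
    have h2 := G.smul_notMem hI' h1
    have h3 : l' = l := by
      have : (1 + c) • l = 0 := by rw [h2, zero_smul]
      rw [add_smul, one_smul, ← hc] at this
      exact (G.eq_of_add this).symm
    rw [h3] at hu₁l'
    exact hu₁I hu₁l'
  obtain ⟨b, hb, hb1, hbm⟩ := G.ex_fix hl (hk l hl) hE
  have hEl' : al l l' = 1 := by
    by_contra h
    exact hb1 (G.opp hl hl'L h hb (hB b hb hbm))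
  have hj0 : j ≠ 0 := by
    intro h
    rw [h] at hj
    have := G.eq_of_add hj.symm
    exact hll' 1 (by rw [one_smul, this])
  have hjL : j ∈ L := by
    have h4 := G.line_mem hl hl'L (hk l hl) hEl' 1
    rw [one_smul, ← hj] at h4
    exact h4.resolve_left hj0
  have hl'I : l' ∉ I l := by
    intro h
    exact G.b4 hl hm (hk l hl) hE hI hjL (hj ▸ add_mem (G.self hl) h) hjm
  -- `phi_{l'} = d phi_m`
  obtain ⟨φ, hφ⟩ : ∃ φ, φ = G.Phi hl ⟨m, hE⟩ := ⟨_, rfl⟩
  obtain ⟨ψ, hψ⟩ : ∃ ψ, ψ = G.Phi hl ⟨l', hEl'⟩ := ⟨_, rfl⟩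
  have hφ0 : φ ≠ 0 := by
    rw [hφ, Ne, G.Phi_zero_iff]
    exact hI
  have hψ0 : ψ ≠ 0 := by
    rw [hψ, Ne, G.Phi_zero_iff]
    exact hl'I
  have hker : LinearMap.ker φ ≤ LinearMap.ker ψ := by
    intro x hx
    have h1 := G.Phi_spec' hl ⟨m, hE⟩ x
    rw [← hφ, LinearMap.mem_ker.1 hx, zero_smul, add_zero] at h1
    have h2 := hB _ (G.al_mem hl x) h1
    rw [LinearMap.mem_ker, hψ]
    apply G.Phi_eq hl
    rw [zero_smul, add_zero]
    exact h2
  obtain ⟨c, hc⟩ : ∃ c : F, ψ = c • φ := by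
    obtain ⟨x₀, hx₀⟩ : ∃ x₀, φ x₀ ≠ 0 := by
      by_contra hcon
      push Not at hcon
      exact hφ0 (LinearMap.ext hcon)
    refine ⟨ψ x₀ * (φ x₀)⁻¹, LinearMap.ext fun x => ?_⟩
    have h4 : x - (φ x * (φ x₀)⁻¹) • x₀ ∈ LinearMap.ker φ := by
      rw [LinearMap.mem_ker, map_sub, map_smul, smul_eq_mul, mul_assoc, inv_mul_cancel₀ hx₀, mul_one, sub_self]
    have h5 := hker h4
    rw [LinearMap.mem_ker, map_sub, map_smul, smul_eq_mul, sub_eq_zero] at h5
    rw [h5, LinearMap.smul_apply, smul_eq_mul]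
    ring
  have hc0 : c ≠ 0 := by
    rintro rfl
    exact hψ0 (by rw [hc, zero_smul])
  rw [hψ, hφ] at hc
  have h6 : l' + c • m ∈ I l := G.Phi_smul hl hc
  have h7 : j + c • m ∈ I l := by
    have := add_mem (G.self hl) h6
    rwa [← add_assoc, ← hj] at this
  have h8 : j + c • m ∈ I m := add_mem hjm ((I m).smul_mem c (G.self hm))
  have h9 : j = c • m := by
    have h10 := G.plane hm hjL hjm c⁻¹
    have h11 : c • (m + c⁻¹ • j) = j + c • m := by
      rw [smul_add, smul_smul, mul_inv_cancel₀ hc0, one_smul, add_comm]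
    rcases h10 with h10 | h10
    · rw [h10, smul_zero] at h11
      exact G.eq_of_add h11.symm
    · exfalso
      have h12 : j + c • m ∈ L := h11 ▸ G.fsm hc0 h10
      exact G.b4 hl hm (hk l hl) hE hI h12 h7 h8
  obtain ⟨a', ha', h12⟩ := G.d3_move hm (G.pex hm hI') hE' c
  rw [← h9, ← hl'j] at h12
  apply hu₁I
  have h13 : a'⁻¹ • u₁ ∈ I l := by
    have := G.I_conj a'⁻¹ hl'L hu₁l'
    rwa [← h12, ← mul_smul, inv_mul_cancel, one_smul] at this
  rwa [G.fix hm (inv_mem ha') hu₁m] at h13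

/-- (B6) -/
theorem b6 (K : GenK F L A I al Kt) (hk : ∀ x (hx : x ∈ L), 2 ≤ finrank F (M ⧸ K.toGen.E hx)) {l : M}
    (hl : l ∈ L) : finrank F (I l) = finrank F (M ⧸ K.toGen.E hl) := by
  have G := K.toGen
  have two := G.two
  have tl := G.two_left
  by_cases hpart : ∃ l₁ ∈ L, ∃ m₁ ∈ L, al l₁ m₁ = 1 ∧ m₁ ∉ I l₁
  · obtain ⟨l₁, hl₁, m₁, hm₁, hE, hI⟩ := hpart
    obtain ⟨h1, -⟩ := G.b3dim hl₁ hm₁ (hk l₁ hl₁) hE hI
    rw [K.b5 hl₁ hm₁ hk hE hI, finrank_bot, add_zero] at h1
    rw [G.fr_I hl hl₁, G.fr_k hl hl₁]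
    exact h1
  push Not at hpart
  obtain ⟨m, hm, hlm⟩ := G.exists_opp hl
  have hmE : al m l ≠ 1 := by
    intro h
    exact hlm (G.al_I_one hl (G.I_symm hm hl (hpart m hm l hl h)))
  have hbot := G.opp_I hl hm hlm
  apply le_antisymm
  · -- `I_l ∩ E_m = 0`
    have h1 : I l ⊓ G.E hm = ⊥ := by
      rw [eq_bot_iff]
      rintro u ⟨hul, hum⟩
      rw [Submodule.mem_bot]
      by_contra hu0
      obtain ⟨a, ha, ha1, hau⟩ := G.ex_fix hm (hk m hm) hum
      have h2 : u ∈ I (a • l) := by
        have := G.I_conj a hl hul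
        rwa [hau] at this
      have haL := G.smul a hl
      have h3 : al l (a • l) = 1 := by
        by_contra h
        have h4 := G.opp_I hl haL h
        have h5 : u ∈ I l ⊓ I (a • l) := ⟨hul, h2⟩
        rw [h4] at h5
        exact hu0 h5
      have h4 := hpart l hl _ haL h3
      have h5 : a • l + l ∈ I l ⊓ I m := ⟨add_mem h4 (G.self hl), G.comm hm ha l⟩
      rw [hbot, Submodule.mem_bot] at h5
      exact ha1 (G.opp hm hl hmE ha (G.eq_of_add h5))
    have h2 := Submodule.finrank_sup_add_finrank_inf_eq (I l) (G.E hm)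
    have h3 : finrank F (I l ⊔ G.E hm : Submodule F M) ≤ finrank F M := Submodule.finrank_le _
    rw [h1, finrank_bot] at h2
    have h4 := G.fr_M hm
    have h5 := G.fr_k hl hm
    have h6 : finrank F (M ⧸ G.E hl) = finrank F (M ⧸ K.toGen.E hl) := rfl
    omega
  · -- `|A_m| ≤ |I_m|`
    have h1 : Nat.card (A m) ≤ Nat.card (I m) := by
      refine Nat.card_le_card_of_injective
        (fun a : A m => (⟨(a : H) • l + l, G.comm hm a.2 l⟩ : I m)) fun a b hab => ?_
      have h2 : (a : H) • l + l = (b : H) • l + l := congrArg Subtype.val hab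
      have h3 := add_right_cancel h2
      have h4 : ((b : H)⁻¹ * a) • l = l := by
        rw [mul_smul, h3, ← mul_smul, inv_mul_cancel, one_smul]
      have h5 := G.opp hm hl hmE (mul_mem (inv_mem b.2) a.2) h4
      exact Subtype.ext (inv_mul_eq_one.1 h5).symm
    rw [G.card_A_eq hm, Module.natCard_eq_pow_finrank (K := F) (V := I m)] at h1
    have h2 := (Nat.pow_le_pow_iff_right (Finite.one_lt_card (α := F))).1 h1
    rw [G.fr_I hl hm, G.fr_k hl hm]
    exact h2

/-- (B7): `k = 1` -/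
theorem k_one (K : GenK F L A I al Kt) {l : M} (hl : l ∈ L) : finrank F (M ⧸ K.toGen.E hl) = 1 := by
  have G := K.toGen
  have two := G.two
  have tl := G.two_left
  by_contra hne
  have hpos : finrank F (M ⧸ K.toGen.E hl) ≠ 0 := by
    intro h0
    obtain ⟨m, hm, h⟩ := G.exists_opp hl
    have h1 := G.card_A_eq hl
    rw [show finrank F (M ⧸ G.E hl) = 0 from h0, pow_zero] at h1
    apply h
    have h2 := (Nat.card_eq_one_iff_unique.1 h1).1
    exact congrArg Subtype.val (h2.elim (⟨al l m, G.al_mem hl m⟩ : A l) 1)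
  have hk : ∀ x (hx : x ∈ L), 2 ≤ finrank F (M ⧸ K.toGen.E hx) := by
    intro x hx
    have := G.fr_k hl hx
    have h6 : finrank F (M ⧸ G.E hl) = finrank F (M ⧸ K.toGen.E hl) := rfl
    have h7 : finrank F (M ⧸ G.E hx) = finrank F (M ⧸ K.toGen.E hx) := rfl
    omega
  -- all sums are in `L`
  have hsum : ∀ x ∈ L, ∀ y ∈ L, x + y = 0 ∨ x + y ∈ L := by
    intro x hx y hy
    by_cases hE : al x y = 1
    · have := G.line_mem hx hy (hk x hx) hE 1
      rwa [one_smul] at this
    · right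
      -- `[y, A_x] = I_x`
      have h1 : Function.Injective (fun a : A x => (⟨(a : H) • y + y, G.comm hx a.2 y⟩ : I x)) := by
        intro a b hab
        have h2 : (a : H) • y + y = (b : H) • y + y := congrArg Subtype.val hab
        have h3 := add_right_cancel h2
        have h4 : ((b : H)⁻¹ * a) • y = y := by
          rw [mul_smul, h3, ← mul_smul, inv_mul_cancel, one_smul]
        have h5 := G.opp hx hy hE (mul_mem (inv_mem b.2) a.2) h4
        exact Subtype.ext (inv_mul_eq_one.1 h5).symm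
      have h2 : Nat.card (A x) = Nat.card (I x) := by
        rw [G.card_A_eq hx, Module.natCard_eq_pow_finrank (K := F) (V := I x), K.b6 hk hx]
      have h3 := (h1.bijective_of_nat_card_le h2.ge).2
      obtain ⟨a, ha⟩ := h3 ⟨x, G.self hx⟩
      have h4 : (a : H) • y + y = x := congrArg Subtype.val ha
      have h5 : x + y = (a : H) • y := by
        have h6 : ((a : H) • y + y) + y = x + y := congrArg (· + y) h4
        rw [add_assoc, two, add_zero] at h6
        exact h6.symm
      rw [h5]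
      exact G.smul _ hy
  have hall : ∀ x : M, x = 0 ∨ x ∈ L := by
    intro x
    have h1 : x ∈ Submodule.span F L := by rw [G.gen]; trivial
    refine Submodule.span_induction (p := fun x _ => x = 0 ∨ x ∈ L) (fun y hy => Or.inr hy) (Or.inl rfl) ?_ ?_ h1
    · rintro y z - - (rfl | hy) (rfl | hz)
      · left; exact add_zero _
      · right; rwa [zero_add]
      · right; rwa [add_zero]
      · exact hsum y hy z hz
    · rintro c y - (rfl | hy)
      · left; exact smul_zero _
      · by_cases hc : c = 0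
        · left; rw [hc, zero_smul]
        · right; exact G.fsm hc hy
  obtain ⟨m, hm, hlm⟩ := G.exists_opp hl
  -- some `x ∉ E_l` has `[m, al l x] ∈ F l`
  let N : Submodule F M := Submodule.span F {l}
  have hlN : l ∈ N := Submodule.mem_span_singleton_self l
  have hNI : N ≤ I l := Submodule.span_le.2 (by rintro x rfl; exact G.self hl)
  obtain ⟨x, hx, hxN⟩ : ∃ x, al l x ≠ 1 ∧ al l x • m + m ∈ N := by
    by_contra hcon
    push Not at hcon
    have h1 := LinearMap.finrank_range_add_finrank_ker (G.Bt hl m N hlN)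
    have h2 : LinearMap.ker (G.Bt hl m N hlN) ≤ G.E hl := by
      intro x hx
      by_contra hxE
      exact hcon x hxE ((G.Bt_zero hl m N hlN x).1 (LinearMap.mem_ker.1 hx))
    have h4 : LinearMap.range (G.Bt hl m N hlN) ≤ (I l).map N.mkQ := by
      rintro _ ⟨x, rfl⟩
      exact ⟨_, G.comm hl (G.al_mem hl x) m, rfl⟩
    have h5 : finrank F ((I l).map N.mkQ) + finrank F N = finrank F (I l) := by
      have h6 := LinearMap.finrank_range_add_finrank_ker (N.mkQ.comp (I l).subtype)
      have h7 : LinearMap.range (N.mkQ.comp (I l).subtype) = (I l).map N.mkQ := by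
        rw [LinearMap.range_comp, Submodule.range_subtype]
      have h8 : LinearMap.ker (N.mkQ.comp (I l).subtype) = N.comap (I l).subtype := by
        rw [LinearMap.ker_comp, Submodule.ker_mkQ]
      rw [h7, h8, (Submodule.comapSubtypeEquivOfLe hNI).finrank_eq] at h6
      exact h6
    have h9 : finrank F N = 1 := finrank_span_singleton (G.ne_zero hl)
    have h10 := Submodule.finrank_mono h2
    have h11 := Submodule.finrank_mono h4
    have h12 := G.fr_M hl
    have h13 : finrank F (I l) = finrank F (M ⧸ G.E hl) := K.b6 hk hl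
    omega
  obtain ⟨c, hc⟩ := Submodule.mem_span_singleton.1 hxN
  obtain ⟨e, he, he'⟩ := G.phi hl (G.al_mem hl x) hx
  have h1 : al l (m + c • e) ≠ 1 := by
    rw [G.al_add hl, G.al_sm_one hl c he, mul_one]
    exact hlm
  have h2 : m + c • e ∈ L := (hall _).resolve_left fun h => h1 (by rw [h]; exact G.al_zero hl)
  refine hx (G.opp hl h2 h1 (G.al_mem hl x) ?_)
  have h3 : al l x • m = m + c • l := by
    rw [hc]; simp only [add_assoc, add_comm, add_left_comm, two, tl, add_zero]
  rw [smul_add, G.lin, he', h3, smul_add]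
  simp only [add_assoc, add_comm, add_left_comm, two, tl, add_zero]

end fin

end GenK

end Cfsg.Agent.Omega.NO3S.OneQ.TIq
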