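import Cfsg.Agent.Omega.TwoFFour.SzNatF

/-!
# NO-3S, `OneSz`: `SzMod` over a given field from `IsoSuzuki` (bb OMEGA #19637 (E4))

* `szCongr` : `Sz F e ≅ Sz K e` for `F ≅ K`;
* `exists_coordF` : coordinates of `J ≅ Sz(q)` over a given field `F` with `|P| = |F|²`;
* `exists_szMod_of` : `SzMod` for `W / Z` over `F` from a homomorphism of `L` onto `J` if `|W : Z| ≤ |F|⁴`.
-/

set_option autoImplicit false
set_option linter.unusedSectionVars false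

namespace Cfsg.Agent.Omega.NO3S.OneQ.TIq

open Subgroup
open Cfsg.Agent.LieRecognition.SzMatrix Cfsg.Agent.ThreePrime.SzRel
open Cfsg.Agent.Omega.TwoFFour

section congr

open Matrix

variable {F K : Type*} [Field F] [Field K]

/-- entrywise application of a field isomorphism -/
noncomputable def glEquiv (σ : F ≃+* K) : GL (Fin 4) F ≃* GL (Fin 4) K :=
  Units.mapEquiv (σ.mapMatrix (m := Fin 4)).toMulEquiv

theorem glEquiv_val (σ : F ≃+* K) (g : GL (Fin 4) F) :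
    ((glEquiv σ g : GL (Fin 4) K) : Matrix (Fin 4) (Fin 4) K) = (g : Matrix (Fin 4) (Fin 4) F).map σ := rfl

theorem glEquiv_symm (σ : F ≃+* K) (g : GL (Fin 4) K) : (glEquiv σ).symm g = glEquiv σ.symm g := by
  apply (glEquiv σ).injective
  rw [MulEquiv.apply_symm_apply]
  apply Units.ext
  ext i j
  rw [glEquiv_val, glEquiv_val]
  simp

theorem alt_map (σ : F ≃+* K) (u v : Fin 4 → F) :
    Cfsg.Lie.altForm4 (fun i => σ (u i)) (fun i => σ (v i)) = σ (Cfsg.Lie.altForm4 u v) := by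
  unfold Cfsg.Lie.altForm4
  simp only [map_add, map_mul]

theorem star_map (σ : F ≃+* K) (g : Matrix (Fin 4) (Fin 4) F) :
    Cfsg.Lie.star4 (g.map σ) = (Cfsg.Lie.star4 g).map σ := by
  ext i j
  simp only [Cfsg.Lie.star4, Matrix.of_apply, Matrix.map_apply, map_sub, map_mul]

theorem sp_map (σ : F ≃+* K) {g : GL (Fin 4) F} (hg : g ∈ Cfsg.Lie.Sp4 F) : glEquiv σ g ∈ Cfsg.Lie.Sp4 K := by
  intro u v
  have key : ∀ w : Fin 4 → K, (Units.coeHom (Matrix (Fin 4) (Fin 4) K) (glEquiv σ g)) *ᵥ w =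
      fun i => σ (((Units.coeHom (Matrix (Fin 4) (Fin 4) F) g) *ᵥ (fun i => σ.symm (w i))) i) := by
    intro w
    funext i
    show ((g : Matrix (Fin 4) (Fin 4) F).map σ *ᵥ w) i = σ (((g : Matrix (Fin 4) (Fin 4) F) *ᵥ (fun i => σ.symm (w i))) i)
    simp only [Matrix.mulVec, dotProduct, Matrix.map_apply, map_sum, map_mul, RingEquiv.apply_symm_apply]
  rw [key, key, alt_map, hg]
  have h1 := alt_map σ (fun i => σ.symm (u i)) (fun i => σ.symm (v i))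
  rw [← h1]
  simp

theorem sz_map_le (σ : F ≃+* K) (e : ℕ) :
    (Cfsg.Lie.Sz F e).map (glEquiv σ).toMonoidHom ≤ Cfsg.Lie.Sz K e := by
  rw [Subgroup.map_le_iff_le_comap]
  unfold Cfsg.Lie.Sz
  rw [closure_le]
  rintro g ⟨h1, h2⟩
  refine subset_closure ⟨sp_map σ h1, ?_⟩
  show Cfsg.Lie.star4 ((g : Matrix (Fin 4) (Fin 4) F).map σ) = ((g : Matrix (Fin 4) (Fin 4) F).map σ).map (fun x => x ^ e)
  rw [star_map, h2]
  ext i j
  simp

theorem szCongr (σ : F ≃+* K) (e : ℕ) : Nonempty (Cfsg.Lie.Sz F e ≃* Cfsg.Lie.Sz K e) := by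
  have h1 : (Cfsg.Lie.Sz F e).map (glEquiv σ).toMonoidHom = Cfsg.Lie.Sz K e := by
    refine le_antisymm (sz_map_le σ e) ?_
    intro x hx
    refine ⟨(glEquiv σ).symm x, ?_, ?_⟩
    · rw [glEquiv_symm]
      exact sz_map_le σ.symm e ⟨x, hx, rfl⟩
    · exact (glEquiv σ).apply_symm_apply x
  exact ⟨((glEquiv σ).subgroupMap (Cfsg.Lie.Sz F e)).trans (MulEquiv.subgroupCongr h1)⟩

end congr

section coord

variable {J : Type*} [Group J]

/-- coordinates over a given field -/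
theorem exists_coord_of [Finite J] {F : Type} [Field F] [Fintype F] {m : ℕ} (hm : 1 ≤ m)
    (hF : Fintype.card F = 2 ^ (2 * m + 1)) (f₀ : J ≃* Cfsg.Lie.Sz F (2 ^ (m + 1))) (P : Sylow 2 J) :
    ∃ f : J ≃* LS F (2 ^ (m + 1)), ∀ x, x ∈ (P : Subgroup J) ↔ ∃ a b, f x = (good hF).u a b := by
  have : Fact (Nat.Prime 2) := ⟨Nat.prime_two⟩
  let R₀ : Cfsg.Agent.ThreePrime.SzRel.Rel J F := (ofGood (good hF)).map f₀.symm
  obtain ⟨P₀, hP₀⟩ := R₀.exists_sylow_eq hm hF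
  obtain ⟨g, hg⟩ := MulAction.exists_smul_eq J P P₀
  refine ⟨(MulAut.conj g).trans f₀, fun x => ?_⟩
  have h1 : x ∈ (P : Subgroup J) ↔ MulAut.conj g x ∈ (P₀ : Subgroup J) := by
    rw [← hg, Sylow.coe_subgroup_smul, Subgroup.mem_pointwise_smul_iff_inv_smul_mem]
    have h2 : (MulAut.conj g)⁻¹ • (MulAut.conj g x) = x := by
      show (MulAut.conj g)⁻¹ (MulAut.conj g x) = x
      rw [MulAut.inv_apply_self]
    show _ ↔ (MulAut.conj g)⁻¹ • (MulAut.conj g x) ∈ (P : Subgroup J)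
    rw [h2]
  rw [h1, hP₀]
  constructor
  · rintro ⟨a, b, hab⟩
    refine ⟨a, b, ?_⟩
    show f₀ (MulAut.conj g x) = _
    rw [hab]
    exact MulEquiv.apply_symm_apply f₀ _
  · rintro ⟨a, b, hab⟩
    refine ⟨a, b, ?_⟩
    show MulAut.conj g x = f₀.symm ((good hF).u a b)
    rw [← hab]
    exact (MulEquiv.symm_apply_apply f₀ _).symm

/-- the order of a Sylow 2-subgroup -/
theorem card_sylow_of [Finite J] {F : Type} [Field F] [Fintype F] {m : ℕ}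
    (hF : Fintype.card F = 2 ^ (2 * m + 1)) {P : Subgroup J} (f : J ≃* LS F (2 ^ (m + 1)))
    (hf : ∀ x, x ∈ P ↔ ∃ a b, f x = (good hF).u a b) : Nat.card P = Nat.card F ^ 2 := by
  rw [pow_two, ← Nat.card_prod]
  refine (Nat.card_congr (Equiv.ofBijective (fun p : F × F =>
    (⟨f.symm ((good hF).u p.1 p.2), (hf _).2 ⟨p.1, p.2, f.apply_symm_apply _⟩⟩ : P)) ⟨?_, ?_⟩)).symm
  · rintro ⟨a, b⟩ ⟨c, d⟩ h
    have h1 := f.symm.injective (congrArg Subtype.val h)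
    have h2 := (good hF).u_inj h1
    exact Prod.ext h2.1 h2.2
  · rintro ⟨x, hx⟩
    obtain ⟨a, b, hab⟩ := (hf x).1 hx
    refine ⟨(a, b), Subtype.ext ?_⟩
    show f.symm ((good hF).u a b) = x
    rw [← hab, f.symm_apply_apply]

/-- **coordinates over a given field `F`, `|P| = |F|²`** -/
theorem exists_coordF [Finite J] (h : Cfsg.Lie.IsoSuzuki J) (P : Sylow 2 J) (F : Type) [Field F] [Fintype F]
    (hPF : Nat.card P = Nat.card F ^ 2) :
    ∃ (m : ℕ) (hF : Fintype.card F = 2 ^ (2 * m + 1)), 1 ≤ m ∧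
      ∃ f : J ≃* LS F (2 ^ (m + 1)), ∀ x, x ∈ (P : Subgroup J) ↔ ∃ a b, f x = (good hF).u a b := by
  obtain ⟨K, iK, iK', m, hm, hK, ⟨f₀⟩⟩ := h
  obtain ⟨f₁, hf₁⟩ := exists_coord_of hm hK f₀ P
  have h1 := card_sylow_of hK f₁ hf₁
  have h2 : Nat.card F = Nat.card K := by
    have h3 : Nat.card F ^ 2 = Nat.card K ^ 2 := by rw [← hPF, ← h1]
    exact Nat.pow_left_injective (by norm_num : 2 ≠ 0) h3
  let σ : K ≃+* F := FiniteField.ringEquivOfCardEq (K := K) (K' := F) (by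
    rw [← Nat.card_eq_fintype_card, ← Nat.card_eq_fintype_card, h2])
  obtain ⟨f₂⟩ := szCongr σ (2 ^ (m + 1))
  have hF : Fintype.card F = 2 ^ (2 * m + 1) := by
    rw [← Nat.card_eq_fintype_card, h2, Nat.card_eq_fintype_card, hK]
  exact ⟨m, hF, hm, exists_coord_of hm hF (f₀.trans f₂) P⟩

end coord

universe u

variable {G : Type u} [Group G] [Finite G]

/-- **`SzMod` over `F`** -/
theorem exists_szMod_of {C L W Z : Subgroup G} {J : Type*} [Group J] [Finite J] (hJ : Cfsg.Lie.IsoSuzuki J)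
    (P : Sylow 2 J) (F : Type) [Field F] [Finite F] (hPF : Nat.card P = Nat.card F ^ 2)
    (ρ : L →* J) (hρ : Function.Surjective ρ) (hLC : L ≤ C) (hCL : ∀ g ∈ C, ∀ l ∈ L, g * l * g⁻¹ ∈ L)
    (hCW : ∀ g ∈ C, ∀ x ∈ W, g * x * g⁻¹ ∈ W) (hCZ : ∀ g ∈ C, ∀ x ∈ Z, g * x * g⁻¹ ∈ Z) (hZW : Z ≤ W)
    (hWZ : ∀ x ∈ W, ∀ z ∈ Z, x * z * x⁻¹ ∈ Z) (hsq : ∀ x ∈ W, x * x ∈ Z)
    (hker : ∀ l : L, ρ l = 1 → ∀ x ∈ W, (l : G) * x * (l : G)⁻¹ * x⁻¹ ∈ Z)
    (hquad : ∀ l l' : L, ρ l ∈ (P : Subgroup J) → ρ l * ρ l = 1 → ρ l' ∈ (P : Subgroup J) → ρ l' * ρ l' = 1 →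
      ∀ x ∈ W, (l : G) * ((l' : G) * x * (l' : G)⁻¹ * x⁻¹) * (l : G)⁻¹ * ((l' : G) * x * (l' : G)⁻¹ * x⁻¹)⁻¹ ∈ Z)
    (hnt : ¬ TrivS L W Z) (hW : Z.relIndex W ≤ Nat.card F ^ 4) :
    ∃ (θ : F →+* F) (e m : ℕ) (H : Good F θ e), 1 ≤ m ∧ Nat.card F = 2 ^ (2 * m + 1) ∧
      Nonempty (SzMod H C W Z) := by
  have hft : Fintype F := Fintype.ofFinite F
  obtain ⟨m, hF, hm, f, hf⟩ := exists_coordF hJ P F hPF
  have hF' : Nat.card F = 2 ^ (2 * m + 1) := by rw [Nat.card_eq_fintype_card, hF]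
  have key : ∀ (b : F) (l : L), f (ρ l) = (good hF).u 0 b → ρ l ∈ (P : Subgroup J) ∧ ρ l * ρ l = 1 := by
    intro b l hl
    refine ⟨(hf _).2 ⟨0, b, hl⟩, f.injective ?_⟩
    rw [map_mul, hl, u_sq, map_one, zero_mul, (good hF).u_zero]
  have h : SzAct (good hF) L W Z (f.toMonoidHom.comp ρ) :=
    { Z_le := hZW
      conjW := fun hg hx => hCW _ (hLC hg) _ hx
      conjZ := fun hg hx => hCZ _ (hLC hg) _ hx
      nZ := fun hx hz => hWZ _ hx _ hz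
      sq := hsq
      surj := f.surjective.comp hρ
      ker := fun l hl x hx => hker l (f.injective (by rw [map_one]; exact hl)) x hx
      quad := fun b c l l' hl hl' x hx =>
        hquad l l' (key b l hl).1 (key b l hl).2 (key c l' hl').1 (key c l' hl').2 x hx }
  have h3 : 3 ≤ Nat.card F := by
    rw [hF']
    calc 3 ≤ 2 ^ 3 := by norm_num
      _ ≤ 2 ^ (2 * m + 1) := Nat.pow_le_pow_right (by norm_num) (by omega)
  obtain ⟨M, -⟩ := h.exists_szMod h3 (h.irr_of_card h3 hnt hW) hnt hLC hCL hCW hCZ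
  exact ⟨_, _, m, good hF, hm, hF', ⟨M⟩⟩

end Cfsg.Agent.Omega.NO3S.OneQ.TIq
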