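import Cfsg.Agent.Omega.NO3S.OneQ.QPlus
import Cfsg.Agent.Omega.NO3S.OneQ.LinF
import Cfsg.Agent.Omega.NO3S.OneQ.TIq.BendG
import Cfsg.Agent.Omega.NO3S.OneQ.TIq.SzEnd

/-!
# NO-3S, `OneSz`: the end over the frame `Co` (bb OMEGA #19637 (E4))

`r : C_G(Z) → H` onto, `H` acts faithfully on `MF = W_Z / rd` through `r`; `Ar r` = the image of `W_{Yp}`.

* `Co.mem_soc` : `r(lx V Z Z) = ⟨(Ar r)^H⟩`;
* `Co.exists_szMod` : if `rd = Z`, `dim_F MF = 4`, `⟨(Ar r)^H⟩` is a Suzuki group with a Sylow 2-subgroup of order `|F|²` whose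
  involutions are in `Ar r`, then `W_Z / Z` is natural for `Sz(|F|)` (`SzMod` over `F` for `N_G(Z)`).
-/

set_option autoImplicit false
set_option linter.unusedSectionVars false

namespace Cfsg.Agent.Omega.NO3S.OneQ

open Subgroup Cfsg.Agent.Omega.NO3S.PT Cfsg.Agent.Omega.NoFF.Basic
open Cfsg.Agent.WeakTI.QuotInv (soc le_soc)
open scoped Pointwise

universe u

namespace Co

variable {G : Type u} [Group G] [Finite G] {F : Type} [Field F] [CharP F 2] {S : Sylow 2 G} {B P V Z : Subgroup G}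
  (h : Co F S B P V Z)
variable {H : Type u} [Group H] [DistribMulAction H h.MF] (r : centralizer (Z : Set G) →* H)

/-- the image of `W_{Yp}` -/
def Ar : Subgroup H := ((ws V h.Yp).subgroupOf (centralizer (Z : Set G))).map r

theorem mem_Ar {x : H} : x ∈ h.Ar r ↔ ∃ g : centralizer (Z : Set G), (g : G) ∈ ws V h.Yp ∧ r g = x := Iff.rfl

variable (hr : ∀ (g : centralizer (Z : Set G)) (m : h.MF), r g • m = h.rep g m)
  (hf : ∀ x : H, (∀ m : h.MF, x • m = m) → x = 1)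
include hr hf

/-- the kernel of `r` -/
theorem r_eq_one {g : centralizer (Z : Set G)} : r g = 1 ↔ ∀ w ∈ ws V Z, (g : G) * w * (g : G)⁻¹ * w⁻¹ ∈ rd V Z := by
  constructor
  · intro h1 w hw
    have h2 := hr g (h.fm ⟨w, hw⟩)
    rw [h1, one_smul, h.rep_fm] at h2
    have h3 : h.fm (⟨g * w * (g : G)⁻¹, h.W_conj (centralizer_le_normalizer _ g.2) hw⟩ * (⟨w, hw⟩ : ws V Z)⁻¹) = 0 := by
      have h4 := h.fm_mul (⟨g * w * (g : G)⁻¹, h.W_conj (centralizer_le_normalizer _ g.2) hw⟩ * (⟨w, hw⟩ : ws V Z)⁻¹)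
        ⟨w, hw⟩
      rw [inv_mul_cancel_right, ← h2] at h4
      exact (right_eq_add.1 h4)
    exact (h.fm_eq_zero _).1 h3
  · intro h1
    refine hf _ fun m => ?_
    obtain ⟨w, rfl⟩ := h.fm_surj m
    rw [hr, h.rep_fm]
    have h2 := (h.fm_eq_zero (⟨g * w * (g : G)⁻¹ * (w : G)⁻¹, mul_mem
      (h.W_conj (centralizer_le_normalizer _ g.2) w.2) (inv_mem w.2)⟩)).2 (h1 w w.2)
    have h3 := h.fm_mul (⟨g * w * (g : G)⁻¹ * (w : G)⁻¹, mul_mem
      (h.W_conj (centralizer_le_normalizer _ g.2) w.2) (inv_mem w.2)⟩) w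
    rw [h2, zero_add] at h3
    rw [← h3]
    exact congrArg h.fm (Subtype.ext (by simp))

/-- `K_Z` is in the kernel -/
theorem r_kx {g : centralizer (Z : Set G)} (hg : (g : G) ∈ kx V Z) : r g = 1 :=
  (h.r_eq_one r hr hf).2 fun _ hw => h.Z_le_rd ((mem_kx.1 hg).2 _ hw)

/-- `r(L_Z) ≤ ⟨(Ar r)^H⟩` -/
theorem lx_soc {g : centralizer (Z : Set G)} (hg : (g : G) ∈ lx V Z Z) : r g ∈ soc (h.Ar r) := by
  have h1 : lx V Z Z ≤ ((soc (h.Ar r)).comap r).map (centralizer (Z : Set G)).subtype := by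
    refine (closure_le _).2 ?_
    rintro a ⟨c, hc, Y, hY, hne, ha⟩
    have hcZ : PT.cj c Z = Z := cj_eq_iff.2 hc
    obtain ⟨c', hc', hcc'⟩ := h.line_eq (L := PT.cj c V) ⟨c, rfl⟩ (by
      have := cj_le_cj (g := c) |>.2 h.one.pl.ZV
      rwa [hcZ] at this)
    have hcZ' : PT.cj c' Z = Z := cj_eq_iff.2 (centralizer_le_normalizer _ hc')
    have hd : PT.cj (c'⁻¹ * c) V = V := by
      rw [← cj_cj, hcc', cj_cj, inv_mul_cancel, cj_one]
    have hdZ : PT.cj (c'⁻¹ * c) Z = Z := by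
      rw [← cj_cj, hcZ]
      have := congrArg (PT.cj c'⁻¹) hcZ'
      rw [cj_cj, inv_mul_cancel, cj_one] at this
      exact this.symm
    have hY1 : Pnt V Z (PT.cj (c'⁻¹ * c) Y) := hY.conj (cj_eq_iff.1 hd)
    have hY1Z : PT.cj (c'⁻¹ * c) Y ≠ Z := by
      intro e
      apply hne
      rw [← hdZ] at e
      exact cj_inj.1 e
    obtain ⟨k, hk, hkY⟩ := h.one.move h.one.self h.pY hY1 h.Yp_ne hY1Z
    -- `a = c' k w k⁻¹ c'⁻¹`
    have h2 : (c' * k)⁻¹ * a * (c' * k) ∈ ws V h.Yp := by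
      have h3 : a ∈ PT.cj (c' * k) (ws V h.Yp) := by
        rw [← ws_cj, ← cj_cj, hkY, cj_cj, mul_inv_cancel_left, ws_cj, PT.mem_cj]
        exact ha
      exact PT.mem_cj.1 h3
    have hkC : k ∈ centralizer (Z : Set G) := kx_le_cent hk
    have h4 : (c' * k)⁻¹ * a * (c' * k) ∈ centralizer (Z : Set G) := 
      centralizer_le h.one.pl.ZV (h.one.W_le_cent h.pY h2)
    have h5 : a = c' * k * ((c' * k)⁻¹ * a * (c' * k)) * (c' * k)⁻¹ := by group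
    have haC : a ∈ centralizer (Z : Set G) := by
      rw [h5]
      exact mul_mem (mul_mem (mul_mem hc' hkC) h4) (inv_mem (mul_mem hc' hkC))
    refine ⟨⟨a, haC⟩, ?_, rfl⟩
    rw [SetLike.mem_coe, mem_comap]
    have h6 : (⟨a, haC⟩ : centralizer (Z : Set G)) =
        ⟨c', hc'⟩ * ⟨k, hkC⟩ * ⟨_, h4⟩ * (⟨c', hc'⟩ * ⟨k, hkC⟩)⁻¹ := Subtype.ext h5
    rw [h6, map_mul, map_mul, map_inv]
    refine normalClosure_normal.conj_mem _ (le_soc ?_) _
    exact ⟨⟨_, h4⟩, h2, rfl⟩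
  obtain ⟨g', hg', e⟩ := h1 hg
  have : g' = g := Subtype.ext e
  rw [← this]
  exact hg'

omit hr hf in
/-- `⟨(Ar r)^H⟩ ≤ r(L_Z)` -/
theorem exists_lx (hs : Function.Surjective r) {x : H} (hx : x ∈ soc (h.Ar r)) :
    ∃ g : centralizer (Z : Set G), (g : G) ∈ lx V Z Z ∧ r g = x := by
  have hn : (((lx V Z Z).subgroupOf (centralizer (Z : Set G))).map r).Normal := by
    refine ⟨?_⟩
    rintro _ ⟨g, hg, rfl⟩ y
    obtain ⟨c, rfl⟩ := hs y
    refine ⟨c * g * c⁻¹, ?_, by rw [map_mul, map_mul, map_inv]⟩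
    exact (mem_normalizer_iff.1 (norm_lx V Z Z (centralizer_le_normalizer _ c.2)) _).1 hg
  have h1 : soc (h.Ar r) ≤ ((lx V Z Z).subgroupOf (centralizer (Z : Set G))).map r := by
    refine normalClosure_le_normal ?_
    rintro _ ⟨g, hg, rfl⟩
    exact ⟨g, W_le_lx h.pY h.Yp_ne hg, rfl⟩
  exact h1 hx

/-- **The end of `OneSz` over `Co`** -/
theorem exists_szMod [Finite F] [Finite H] (hs : Function.Surjective r) (hrd : rd V Z = Z)
    (h4 : Module.finrank F h.MF = 4) (hcomm : ∀ a ∈ h.Ar r, ∀ b ∈ h.Ar r, ∀ m : h.MF, a • (b • m + m) = b • m + m)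
    (hne : h.Ar r ≠ ⊥) (hJ : Cfsg.Lie.IsoSuzuki (soc (h.Ar r))) (Q : Sylow 2 (soc (h.Ar r)))
    (hQ : Nat.card Q = Nat.card F ^ 2) (hQA : ∀ x ∈ Q, x * x = 1 → (x : H) ∈ h.Ar r) :
    ∃ (θ : F →+* F) (e m : ℕ) (T : Cfsg.Agent.LieRecognition.SzMatrix.Good F θ e), 1 ≤ m ∧
      Nat.card F = 2 ^ (2 * m + 1) ∧
      Nonempty (Cfsg.Agent.Omega.TwoFFour.SzMod T (normalizer (Z : Set G)) (ws V Z) Z) := by
  have hLC : lx V Z Z ≤ centralizer (Z : Set G) := h.one.lx_le_C h.one.self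
  have hconj : ∀ {U : Subgroup G}, normalizer (Z : Set G) ≤ normalizer (U : Set G) → ∀ g ∈ normalizer (Z : Set G),
      ∀ x ∈ U, g * x * g⁻¹ ∈ U := fun hU g hg x hx => (mem_normalizer_iff.1 (hU hg) x).1 hx
  let ρ : lx V Z Z →* soc (h.Ar r) :=
    { toFun := fun l => ⟨r ⟨l, hLC l.2⟩, h.lx_soc r hr hf l.2⟩
      map_one' := Subtype.ext (map_one r)
      map_mul' := fun a b => Subtype.ext (map_mul r ⟨a, hLC a.2⟩ ⟨b, hLC b.2⟩) }
  have hρ : Function.Surjective ρ := by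
    rintro ⟨x, hx⟩
    obtain ⟨g, hg, rfl⟩ := h.exists_lx r hs hx
    exact ⟨⟨g, hg⟩, Subtype.ext rfl⟩
  have hZW : Z ≤ ws V Z := h.one.pl.Z_le_ws
  have hsm : ∀ (l : lx V Z Z) (w : ws V Z), r ⟨l, hLC l.2⟩ • h.fm w =
      h.fm ⟨l * w * (l : G)⁻¹, h.W_conj (centralizer_le_normalizer _ (hLC l.2)) w.2⟩ := by
    intro l w
    rw [hr, h.rep_fm]
  have hfmZ : ∀ w : ws V Z, h.fm w = 0 ↔ (w : G) ∈ Z := by
    intro w
    rw [h.fm_eq_zero, hrd]
  refine TIq.exists_szMod_of hJ Q F hQ ρ hρ (hLC.trans (centralizer_le_normalizer _)) (hconj (norm_lx V Z Z))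
    (hconj (normalizer_le_ws V Z)) (hconj le_rfl) hZW ?_ ?_ ?_ ?_ ?_ ?_
  · intro x hx z hz
    rw [h.Z_comm_W hz hx, mul_inv_cancel_right]
    exact hz
  · intro x hx
    rw [h.one.sq_W h.one.self hx]
    exact one_mem _
  · intro l hl x hx
    have h1 : r ⟨l, hLC l.2⟩ = 1 := congrArg Subtype.val hl
    have := (h.r_eq_one r hr hf).1 h1 x hx
    rwa [hrd] at this
  · intro l l' hl hll hl' hll' x hx
    have ha : r ⟨l, hLC l.2⟩ ∈ h.Ar r := hQA _ hl hll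
    have hb : r ⟨l', hLC l'.2⟩ ∈ h.Ar r := hQA _ hl' hll'
    have hW : ∀ {g : G} {y : G}, g ∈ lx V Z Z → y ∈ ws V Z → g * y * g⁻¹ ∈ ws V Z := fun hg hy =>
      h.W_conj (centralizer_le_normalizer _ (hLC hg)) hy
    have hy : (l' : G) * x * (l' : G)⁻¹ * x⁻¹ ∈ ws V Z := mul_mem (hW l'.2 hx) (inv_mem hx)
    have h1 := hcomm _ ha _ hb (h.fm ⟨x, hx⟩)
    have h2 : r ⟨l', hLC l'.2⟩ • h.fm ⟨x, hx⟩ + h.fm ⟨x, hx⟩ = h.fm ⟨_, hy⟩ := by
      rw [hsm l' ⟨x, hx⟩]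
      have h3 : h.fm ⟨x, hx⟩ = h.fm ⟨x⁻¹, inv_mem hx⟩ := by
        congr 1
        exact Subtype.ext (h.one.inv_eq_W h.one.self hx).symm
      rw [h3]
      exact (h.fm_mul ⟨_, hW l'.2 hx⟩ ⟨x⁻¹, inv_mem hx⟩).symm
    rw [h2, hsm l ⟨_, hy⟩] at h1
    have h3 : h.fm ⟨(l : G) * ((l' : G) * x * (l' : G)⁻¹ * x⁻¹) * (l : G)⁻¹ * ((l' : G) * x * (l' : G)⁻¹ * x⁻¹)⁻¹,
        mul_mem (hW l.2 hy) (inv_mem hy)⟩ = 0 := by
      have h4 := h.fm_mul ⟨(l : G) * ((l' : G) * x * (l' : G)⁻¹ * x⁻¹) * (l : G)⁻¹ *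
        ((l' : G) * x * (l' : G)⁻¹ * x⁻¹)⁻¹, mul_mem (hW l.2 hy) (inv_mem hy)⟩ ⟨_, hy⟩
      have h5 : (⟨(l : G) * ((l' : G) * x * (l' : G)⁻¹ * x⁻¹) * (l : G)⁻¹ *
        ((l' : G) * x * (l' : G)⁻¹ * x⁻¹)⁻¹, mul_mem (hW l.2 hy) (inv_mem hy)⟩ : ws V Z) * ⟨_, hy⟩ =
          ⟨(l : G) * ((l' : G) * x * (l' : G)⁻¹ * x⁻¹) * (l : G)⁻¹, hW l.2 hy⟩ :=
        Subtype.ext (inv_mul_cancel_right _ _)
      rw [h5, h1] at h4
      exact right_eq_add.1 h4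
    exact (hfmZ _).1 h3
  · intro ht
    apply hne
    rw [Subgroup.eq_bot_iff_forall]
    rintro _ ⟨g, hg, rfl⟩
    refine (h.r_eq_one r hr hf).2 fun w hw => ?_
    rw [hrd]
    exact ht _ (W_le_lx h.pY h.Yp_ne hg) w hw
  · -- the order of `W / Z`
    have : Finite h.MF := Finite.of_surjective h.fm h.fm_surj
    have h1 : Nat.card h.MF = Nat.card F ^ 4 := by
      rw [← h4]
      exact Module.natCard_eq_pow_finrank
    have h2 : Z.relIndex (ws V Z) = Nat.card h.MF := by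
      have hN : (Z.subgroupOf (ws V Z)).Normal := by
        refine ⟨fun n hn g => ?_⟩
        rw [mem_subgroupOf] at hn ⊢
        have : ((g * n * g⁻¹ : ws V Z) : G) = n := by
          show (g : G) * n * (g : G)⁻¹ = n
          rw [h.Z_comm_W hn g.2, mul_inv_cancel_right]
        rw [this]
        exact hn
      rw [Subgroup.relIndex, Subgroup.index]
      refine Nat.card_congr (Equiv.ofBijective (fun q : ws V Z ⧸ Z.subgroupOf (ws V Z) =>
        Quotient.liftOn' q h.fm fun a b hab => ?_) ⟨?_, ?_⟩)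
      · have h3 : a⁻¹ * b ∈ Z.subgroupOf (ws V Z) := QuotientGroup.leftRel_apply.1 hab
        have h4 := h.fm_mul a (a⁻¹ * b)
        rw [mul_inv_cancel_left, (hfmZ _).2 (mem_subgroupOf.1 h3), add_zero] at h4
        exact h4.symm
      · intro p q
        refine Quotient.inductionOn₂' p q fun a b hab => ?_
        have h3 : h.fm a = h.fm b := hab
        refine Quotient.sound' (QuotientGroup.leftRel_apply.2 ?_)
        rw [mem_subgroupOf]
        refine (hfmZ _).1 ?_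
        have h4 := h.fm_mul a (a⁻¹ * b)
        rw [mul_inv_cancel_left, ← h3] at h4
        exact left_eq_add.1 h4
      · intro m
        obtain ⟨w, hw⟩ := h.fm_surj m
        exact ⟨QuotientGroup.mk w, hw⟩
    rw [h2, h1]

end Co

end Cfsg.Agent.Omega.NO3S.OneQ
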