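import Cfsg.Agent.Omega.NO3S.OneQ.TIq.Base

/-!
# NO-3S, `OneSz` (`q ≥ 4`, `n = 1`), case (N): from one vector to all line vectors, pure form

`H` acts `F`-linearly on `M`; `v0` the vector of one line, `A0`, `I0`, `al0`, `Kt0` the data of this line.

* `Loc F v0 A0 I0 al0` : the facts at `v0`; `LocK` : with `Kt0`;
* `LL F H v0` : the vectors `c • x • v0`; `AA`, `II`, `AL`, `KT` : the data at every `l ∈ LL`;
* `Loc.at_*` : every fact at every `l ∈ LL F H v0`; `Loc.at_fixI`, `Loc.at_ti`, `Loc.at_cop`, `Loc.at_alpha`,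
  `Loc.at_plane` : the facts which are not in `Loc`, from their form at `v0`;
* **`Loc.toGen`**, **`LocK.toGenK`** : `TIq.Gen`, `TIq.GenK`.
-/

set_option autoImplicit false
set_option linter.unusedSectionVars false

namespace Cfsg.Agent.Omega.NO3S.OneQ.TIq

section defs

variable (F : Type*) {M : Type*} (H : Type*) [Field F] [AddCommGroup M] [Module F M] [Group H] [DistribMulAction H M]

/-- the line vectors -/
def LL (v0 : M) : Set M := {m | ∃ (x : H) (c : F), c ≠ 0 ∧ m = c • x • v0}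

open Classical in
/-- an element which maps `v0` into `F l` -/
noncomputable def rr (v0 l : M) : H := if hl : ∃ (x : H) (c : F), c ≠ 0 ∧ l = c • x • v0 then hl.choose else 1

theorem mem_LL {v0 l : M} : l ∈ LL F H v0 ↔ ∃ (x : H) (c : F), c ≠ 0 ∧ l = c • x • v0 := Iff.rfl

theorem rr_spec {v0 l : M} (hl : l ∈ LL F H v0) : ∃ c : F, c ≠ 0 ∧ l = c • rr F H v0 l • v0 := by
  have hl' : ∃ (x : H) (c : F), c ≠ 0 ∧ l = c • x • v0 := hl
  unfold rr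
  rw [dif_pos hl']
  exact hl'.choose_spec

variable {H}

/-- `A_l` -/
noncomputable def AA (v0 : M) (A0 : Subgroup H) (l : M) : Subgroup H :=
  A0.map (MulAut.conj (rr F H v0 l)).toMonoidHom

/-- `Ī_l` -/
noncomputable def II [SMulCommClass H F M] (v0 : M) (I0 : Submodule F M) (l : M) : Submodule F M :=
  I0.map (DistribSMul.toLinearMap F M (rr F H v0 l))

/-- `M → A_l` -/
noncomputable def AL (v0 : M) (al0 : M → H) (l m : M) : H :=
  rr F H v0 l * al0 ((rr F H v0 l)⁻¹ • m) * (rr F H v0 l)⁻¹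

end defs

/-- the facts at one vector -/
structure Loc (F : Type*) {M H : Type*} [Field F] [AddCommGroup M] [Module F M] [Group H] [DistribMulAction H M]
    (v0 : M) (A0 : Subgroup H) (I0 : Submodule F M) (al0 : M → H) : Prop where
  two : ∀ m : M, m + m = 0
  ne0 : v0 ≠ 0
  gen : Submodule.span F (Set.range fun x : H => x • v0) = ⊤
  sA : ∀ {x a : H} {c : F}, x • v0 = c • v0 → a ∈ A0 → x * a * x⁻¹ ∈ A0
  sI : ∀ {x : H} {c : F} {u : M}, x • v0 = c • v0 → u ∈ I0 → x • u ∈ I0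
  sq : ∀ {a : H}, a ∈ A0 → a * a = 1
  ne : ∃ a ∈ A0, a ≠ 1
  self : v0 ∈ I0
  comm : ∀ {a : H}, a ∈ A0 → ∀ m : M, a • m + m ∈ I0
  fix : ∀ {a : H} {u : M}, a ∈ A0 → u ∈ I0 → a • u = u
  al_mem : ∀ m, al0 m ∈ A0
  al_add : ∀ m m', al0 (m + m') = al0 m * al0 m'
  al_surj : ∀ {a : H}, a ∈ A0 → ∃ m, al0 m = a
  al_conj : ∀ {x : H}, x • v0 = v0 → ∀ m, al0 (x • m) = x * al0 m * x⁻¹
  al_ker : ∀ m, al0 m = 1 ↔ ∀ a ∈ A0, ∃ c : F, a • m = m + c • v0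
  sy : ∀ m m', ∃ c : F, al0 m' • m + m + (al0 m • m' + m') = c • v0
  phl : ∀ (c : F) (e x : M), al0 e = 1 → al0 (c • x) • e + e = c • (al0 x • e + e)
  bl : ∀ (c : F) (m x : M), ∃ d : F, al0 (c • x) • m + m = c • (al0 x • m + m) + d • v0
  dual : ∀ f : M →ₗ[F] F, (∀ e, al0 e = 1 → f e = 0) → ∃ e, al0 e = 1 ∧ ∀ x, al0 x • e + e = f x • v0

/-- the facts at one vector, with `Kt0` -/
structure LocK (F : Type*) {M H : Type*} [Field F] [AddCommGroup M] [Module F M] [Group H] [DistribMulAction H M]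
    (v0 : M) (A0 : Subgroup H) (I0 : Submodule F M) (al0 : M → H) (Kt0 : Subgroup H) : Prop
    extends Loc F v0 A0 I0 al0 where
  faith : ∀ x : H, (∀ m : M, x • m = m) → x = 1
  sK : ∀ {x t : H} {c : F}, x • v0 = c • v0 → t ∈ Kt0 → x * t * x⁻¹ ∈ Kt0
  Kt_two : IsPGroup 2 Kt0
  A_le_Kt : A0 ≤ Kt0
  Kt_fix : ∀ {t : H}, t ∈ Kt0 → t • v0 = v0
  Kt_A : ∀ {t a : H}, t ∈ Kt0 → a ∈ A0 → t * a = a * t
  Kt_E : ∀ {t : H} {e : M}, t ∈ Kt0 → al0 e = 1 → t • e + e ∈ I0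
  Kt_I : ∀ {t : H} {u : M}, t ∈ Kt0 → u ∈ I0 → ∃ c : F, t • u + u = c • v0
  Kt_hom : ∀ {u : M}, u ∈ I0 → NP F v0 u → ∃ t ∈ Kt0, t • u = u + v0

namespace Loc

variable {F M H : Type*} [Field F] [AddCommGroup M] [Module F M] [Group H] [DistribMulAction H M]
  [SMulCommClass H F M] {v0 : M} {A0 : Subgroup H} {I0 : Submodule F M} {al0 : M → H}

section nofact

theorem lin (x : H) (c : F) (m : M) : x • (c • m) = c • (x • m) := smul_comm x c m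

theorem self_mem : v0 ∈ LL F H v0 := ⟨1, 1, one_ne_zero, by rw [one_smul, one_smul]⟩

theorem smul_mem (x : H) {l : M} (hl : l ∈ LL F H v0) : x • l ∈ LL F H v0 := by
  obtain ⟨y, c, hc, rfl⟩ := hl
  exact ⟨x * y, c, hc, by rw [lin, mul_smul]⟩

theorem fsm_mem {c : F} {l : M} (hc : c ≠ 0) (hl : l ∈ LL F H v0) : c • l ∈ LL F H v0 := by
  obtain ⟨y, d, hd, rfl⟩ := hl
  exact ⟨y, c * d, mul_ne_zero hc hd, (mul_smul c d _).symm⟩

theorem trans {l m : M} (hl : l ∈ LL F H v0) (hm : m ∈ LL F H v0) : ∃ (h : H) (c : F), c ≠ 0 ∧ h • l = c • m := by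
  obtain ⟨x, c, hc, rfl⟩ := hl
  obtain ⟨y, d, hd, rfl⟩ := hm
  refine ⟨y * x⁻¹, c * d⁻¹, mul_ne_zero hc (inv_ne_zero hd), ?_⟩
  rw [lin, smul_smul, inv_mul_cancel_right, smul_smul, inv_mul_cancel_right₀ hd]

end nofact

variable (D : Loc F v0 A0 I0 al0)
include D

theorem zero_notMem : (0 : M) ∉ LL F H v0 := by
  rintro ⟨x, c, hc, h0⟩
  rcases smul_eq_zero.1 h0.symm with e | e
  · exact hc e
  · exact D.ne0 ((smul_eq_zero_iff_eq x).1 e)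

theorem span_LL : Submodule.span F (LL F H v0) = ⊤ := by
  rw [eq_top_iff, ← D.gen]
  refine Submodule.span_mono ?_
  rintro _ ⟨x, rfl⟩
  exact ⟨x, 1, one_ne_zero, (one_smul F _).symm⟩

/-- two representatives of the same point -/
theorem stab {x y : H} {c d : F} (_hc : c ≠ 0) (hd : d ≠ 0) (h : c • x • v0 = d • y • v0) :
    (x⁻¹ * y) • v0 = (d⁻¹ * c) • v0 := by
  have h1 : y • v0 = (d⁻¹ * c) • x • v0 := by
    rw [mul_smul, h, smul_smul, inv_mul_cancel₀ hd, one_smul]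
  rw [mul_smul, h1, lin, inv_smul_smul]

theorem stab' {x y : H} {c d : F} (hc : c ≠ 0) (hd : d ≠ 0) (h : c • x • v0 = d • y • v0) :
    (y⁻¹ * x) • v0 = (c⁻¹ * d) • v0 := D.stab hd hc h.symm

theorem mem_AA {l : M} {x a : H} {c : F} (hc : c ≠ 0) (hx : l = c • x • v0) :
    a ∈ AA F v0 A0 l ↔ x⁻¹ * a * x ∈ A0 := by
  have hl : l ∈ LL F H v0 := ⟨x, c, hc, hx⟩
  obtain ⟨d, hd, hg⟩ := rr_spec F H hl
  unfold AA
  obtain ⟨g, hgd⟩ : ∃ g, g = rr F H v0 l := ⟨_, rfl⟩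
  rw [← hgd] at hg ⊢
  have h0 : a ∈ A0.map (MulAut.conj g).toMonoidHom ↔ g⁻¹ * a * g ∈ A0 := by
    rw [Subgroup.mem_map]
    constructor
    · rintro ⟨b, hb, rfl⟩
      have e : g⁻¹ * ((MulAut.conj g).toMonoidHom b) * g = b := by
        change g⁻¹ * (g * b * g⁻¹) * g = b
        group
      rw [e]; exact hb
    · intro hb
      refine ⟨_, hb, ?_⟩
      change g * (g⁻¹ * a * g) * g⁻¹ = a
      group
  rw [h0]
  have e1 := hx.symm.trans hg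
  constructor
  · intro ha
    have := D.sA (D.stab' hd hc e1.symm) ha
    have e : x⁻¹ * g * (g⁻¹ * a * g) * (x⁻¹ * g)⁻¹ = x⁻¹ * a * x := by group
    rwa [e] at this
  · intro ha
    have := D.sA (D.stab' hc hd e1) ha
    have e : g⁻¹ * x * (x⁻¹ * a * x) * (g⁻¹ * x)⁻¹ = g⁻¹ * a * g := by group
    rwa [e] at this

theorem mem_II {l u : M} {x : H} {c : F} (hc : c ≠ 0) (hx : l = c • x • v0) :
    u ∈ II F (H := H) v0 I0 l ↔ x⁻¹ • u ∈ I0 := by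
  have hl : l ∈ LL F H v0 := ⟨x, c, hc, hx⟩
  obtain ⟨d, hd, hg⟩ := rr_spec F H hl
  unfold II
  obtain ⟨g, hgd⟩ : ∃ g, g = rr F H v0 l := ⟨_, rfl⟩
  rw [← hgd] at hg ⊢
  have h0 : u ∈ I0.map (DistribSMul.toLinearMap F M g) ↔ g⁻¹ • u ∈ I0 := by
    rw [Submodule.mem_map]
    constructor
    · rintro ⟨b, hb, rfl⟩
      change g⁻¹ • (g • b) ∈ I0
      rw [inv_smul_smul]; exact hb
    · intro hb
      exact ⟨_, hb, smul_inv_smul g u⟩
  rw [h0]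
  have e1 := hx.symm.trans hg
  constructor
  · intro ha
    have := D.sI (D.stab' hd hc e1.symm) ha
    rwa [smul_smul, mul_inv_cancel_right] at this
  · intro ha
    have := D.sI (D.stab' hc hd e1) ha
    rwa [smul_smul, mul_inv_cancel_right] at this

/-! ### the facts at every line vector -/

theorem at_A_sm {c : F} {l : M} (hc : c ≠ 0) (hl : l ∈ LL F H v0) : AA F v0 A0 (c • l) = AA F v0 A0 l := by
  obtain ⟨x, d, hd, hx⟩ := hl
  ext a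
  rw [D.mem_AA (mul_ne_zero hc hd) (by rw [hx, smul_smul]), D.mem_AA hd hx]

theorem at_I_sm {c : F} {l : M} (hc : c ≠ 0) (hl : l ∈ LL F H v0) :
    II F (H := H) v0 I0 (c • l) = II F (H := H) v0 I0 l := by
  obtain ⟨x, d, hd, hx⟩ := hl
  ext a
  rw [D.mem_II (mul_ne_zero hc hd) (by rw [hx, smul_smul]), D.mem_II hd hx]

theorem at_A_conj (y : H) {l : M} {a : H} (hl : l ∈ LL F H v0) (ha : a ∈ AA F v0 A0 l) :
    y * a * y⁻¹ ∈ AA F v0 A0 (y • l) := by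
  obtain ⟨x, d, hd, hx⟩ := hl
  rw [D.mem_AA hd hx] at ha
  rw [D.mem_AA (x := y * x) hd (by rw [hx, lin, mul_smul])]
  have e : (y * x)⁻¹ * (y * a * y⁻¹) * (y * x) = x⁻¹ * a * x := by group
  rw [e]; exact ha

theorem at_I_conj (y : H) {l u : M} (hl : l ∈ LL F H v0) (hu : u ∈ II F (H := H) v0 I0 l) :
    y • u ∈ II F (H := H) v0 I0 (y • l) := by
  obtain ⟨x, d, hd, hx⟩ := hl
  rw [D.mem_II hd hx] at hu
  rw [D.mem_II (x := y * x) hd (by rw [hx, lin, mul_smul]), smul_smul]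
  have e : (y * x)⁻¹ * y = x⁻¹ := by group
  rw [e]; exact hu

theorem at_sq {l : M} {a : H} (hl : l ∈ LL F H v0) (ha : a ∈ AA F v0 A0 l) : a * a = 1 := by
  obtain ⟨x, d, hd, hx⟩ := hl
  rw [D.mem_AA hd hx] at ha
  have := D.sq ha
  calc a * a = x * ((x⁻¹ * a * x) * (x⁻¹ * a * x)) * x⁻¹ := by group
    _ = 1 := by rw [this]; group

theorem at_ne {l : M} (hl : l ∈ LL F H v0) : ∃ a ∈ AA F v0 A0 l, a ≠ 1 := by
  obtain ⟨x, d, hd, hx⟩ := hl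
  obtain ⟨a, ha, ha1⟩ := D.ne
  refine ⟨x * a * x⁻¹, ?_, fun e => ha1 (conj_eq_one_iff.1 e)⟩
  rw [D.mem_AA hd hx]
  have e : x⁻¹ * (x * a * x⁻¹) * x = a := by group
  rw [e]; exact ha

theorem at_self {l : M} (hl : l ∈ LL F H v0) : l ∈ II F (H := H) v0 I0 l := by
  obtain ⟨x, d, hd, hx⟩ := hl
  rw [D.mem_II hd hx, hx, lin, inv_smul_smul]
  exact I0.smul_mem d D.self

theorem at_comm {l : M} {a : H} (hl : l ∈ LL F H v0) (ha : a ∈ AA F v0 A0 l) (m : M) :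
    a • m + m ∈ II F (H := H) v0 I0 l := by
  obtain ⟨x, d, hd, hx⟩ := hl
  rw [D.mem_AA hd hx] at ha
  rw [D.mem_II hd hx]
  have := D.comm ha (x⁻¹ • m)
  have e : (x⁻¹ * a * x) • x⁻¹ • m + x⁻¹ • m = x⁻¹ • (a • m + m) := by
    rw [smul_add, smul_smul, smul_smul]
    congr 2
    group
  rwa [e] at this

theorem at_fix {l : M} {a : H} {u : M} (hl : l ∈ LL F H v0) (ha : a ∈ AA F v0 A0 l)
    (hu : u ∈ II F (H := H) v0 I0 l) : a • u = u := by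
  obtain ⟨x, d, hd, hx⟩ := hl
  rw [D.mem_AA hd hx] at ha
  rw [D.mem_II hd hx] at hu
  have := D.fix ha hu
  have e : (x⁻¹ * a * x) • x⁻¹ • u = x⁻¹ • (a • u) := by
    rw [smul_smul, smul_smul]
    congr 1
    group
  rw [e] at this
  exact smul_left_cancel x⁻¹ this

/-- conjugation into `A0` -/
theorem mem_AA_rr {l : M} {a : H} (hl : l ∈ LL F H v0) :
    a ∈ AA F v0 A0 l ↔ (rr F H v0 l)⁻¹ * a * rr F H v0 l ∈ A0 := by
  obtain ⟨c, hc, hg⟩ := rr_spec F H hl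
  exact D.mem_AA hc hg

theorem at_al_mem {l : M} (hl : l ∈ LL F H v0) (m : M) : AL F v0 al0 l m ∈ AA F v0 A0 l := by
  rw [D.mem_AA_rr hl, AL]
  have e : (rr F H v0 l)⁻¹ * (rr F H v0 l * al0 ((rr F H v0 l)⁻¹ • m) * (rr F H v0 l)⁻¹) * rr F H v0 l =
      al0 ((rr F H v0 l)⁻¹ • m) := by group
  rw [e]
  exact D.al_mem _

theorem at_al_add {l : M} (m m' : M) : AL F v0 al0 l (m + m') = AL F v0 al0 l m * AL F v0 al0 l m' := by
  unfold AL
  rw [smul_add, D.al_add]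
  group

theorem at_al_surj {l : M} {a : H} (hl : l ∈ LL F H v0) (ha : a ∈ AA F v0 A0 l) : ∃ m, AL F v0 al0 l m = a := by
  rw [D.mem_AA_rr hl] at ha
  obtain ⟨m, hm⟩ := D.al_surj ha
  refine ⟨rr F H v0 l • m, ?_⟩
  rw [AL, inv_smul_smul, hm]
  group

theorem at_al_one {l m : M} : AL F v0 al0 l m = 1 ↔ al0 ((rr F H v0 l)⁻¹ • m) = 1 := conj_eq_one_iff

theorem at_al_conj {l : M} {y : H} (hl : l ∈ LL F H v0) (hy : y • l = l) (m : M) :
    AL F v0 al0 l (y • m) = y * AL F v0 al0 l m * y⁻¹ := by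
  obtain ⟨c, hc, hg⟩ := rr_spec F H hl
  unfold AL
  obtain ⟨g, hgd⟩ : ∃ g, g = rr F H v0 l := ⟨_, rfl⟩
  rw [← hgd] at hg ⊢
  have hs : (g⁻¹ * y * g) • v0 = v0 := by
    have h1 : g • v0 = c⁻¹ • l := by rw [hg, smul_smul, inv_mul_cancel₀ hc, one_smul]
    rw [mul_smul, mul_smul, h1, lin y, hy, ← h1, inv_smul_smul]
  have h2 := D.al_conj hs (g⁻¹ • m)
  have e : (g⁻¹ * y * g) • g⁻¹ • m = g⁻¹ • y • m := by
    rw [smul_smul, smul_smul]
    congr 1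
    group
  rw [e] at h2
  rw [h2]
  group

/-- action of `a ∈ A_l` in terms of `A0` -/
theorem act (g a : H) (m : M) : a • m = g • ((g⁻¹ * a * g) • g⁻¹ • m) := by
  have e : g * (g⁻¹ * a * g) * g⁻¹ = a := by group
  rw [smul_smul, smul_smul, e]

/-- action of `AL l x` in terms of `al0` -/
theorem act_AL (l m x : M) :
    AL F v0 al0 l x • m = rr F H v0 l • (al0 ((rr F H v0 l)⁻¹ • x) • (rr F H v0 l)⁻¹ • m) := by
  unfold AL
  rw [smul_smul, smul_smul]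

theorem act_AL' (l m x : M) : AL F v0 al0 l x • m + m =
    rr F H v0 l • (al0 ((rr F H v0 l)⁻¹ • x) • (rr F H v0 l)⁻¹ • m + (rr F H v0 l)⁻¹ • m) := by
  rw [D.act_AL, smul_add, smul_inv_smul]

/-- `g • v0` is a multiple of `l` -/
theorem rr_v0 {l : M} (hl : l ∈ LL F H v0) : ∃ c : F, c ≠ 0 ∧ rr F H v0 l • v0 = c • l := by
  obtain ⟨c, hc, hg⟩ := rr_spec F H hl
  refine ⟨c⁻¹, inv_ne_zero hc, ?_⟩
  have h1 : c⁻¹ • l = c⁻¹ • c • rr F H v0 l • v0 := congrArg (fun w => c⁻¹ • w) hg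
  rw [h1, smul_smul, inv_mul_cancel₀ hc, one_smul]

theorem at_al_ker {l : M} (hl : l ∈ LL F H v0) (m : M) :
    AL F v0 al0 l m = 1 ↔ ∀ a ∈ AA F v0 A0 l, ∃ c : F, a • m = m + c • l := by
  obtain ⟨c, hc, hg⟩ := D.rr_v0 hl
  rw [D.at_al_one, D.al_ker]
  obtain ⟨g, hgd⟩ : ∃ g, g = rr F H v0 l := ⟨_, rfl⟩
  constructor
  · intro h1 a ha
    rw [D.mem_AA_rr hl] at ha
    obtain ⟨d, hd⟩ := h1 _ ha
    refine ⟨d * c, ?_⟩
    rw [D.act (rr F H v0 l) a m, hd, smul_add, smul_inv_smul, lin, hg, smul_smul]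
  · intro h1 a ha
    have h2 : rr F H v0 l * a * (rr F H v0 l)⁻¹ ∈ AA F v0 A0 l := by
      rw [D.mem_AA_rr hl]
      have e : (rr F H v0 l)⁻¹ * (rr F H v0 l * a * (rr F H v0 l)⁻¹) * rr F H v0 l = a := by group
      rw [e]; exact ha
    obtain ⟨d, hd⟩ := h1 _ h2
    refine ⟨d * c⁻¹, ?_⟩
    have h4 : a • (rr F H v0 l)⁻¹ • m = (rr F H v0 l)⁻¹ • ((rr F H v0 l * a * (rr F H v0 l)⁻¹) • m) := by
      rw [smul_smul, smul_smul]
      congr 1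
      group
    have h5 : (rr F H v0 l)⁻¹ • l = c⁻¹ • v0 := by
      have h6 : v0 = c • (rr F H v0 l)⁻¹ • l := by
        calc v0 = (rr F H v0 l)⁻¹ • rr F H v0 l • v0 := (inv_smul_smul _ _).symm
          _ = c • (rr F H v0 l)⁻¹ • l := by rw [hg, lin]
      calc (rr F H v0 l)⁻¹ • l = c⁻¹ • c • (rr F H v0 l)⁻¹ • l := by
            rw [smul_smul, inv_mul_cancel₀ hc, one_smul]
        _ = c⁻¹ • v0 := by rw [← h6]
    rw [h4, hd, smul_add, lin, h5, smul_smul]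

theorem at_sy {l : M} (hl : l ∈ LL F H v0) (m m' : M) :
    ∃ c : F, AL F v0 al0 l m' • m + m + (AL F v0 al0 l m • m' + m') = c • l := by
  obtain ⟨c, hc, hg⟩ := D.rr_v0 hl
  obtain ⟨d, hd⟩ := D.sy ((rr F H v0 l)⁻¹ • m) ((rr F H v0 l)⁻¹ • m')
  refine ⟨d * c, ?_⟩
  rw [D.act_AL', D.act_AL', ← smul_add, hd, lin, hg, smul_smul]

theorem at_phl {l : M} (c : F) (e x : M) (he : AL F v0 al0 l e = 1) :
    AL F v0 al0 l (c • x) • e + e = c • (AL F v0 al0 l x • e + e) := by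
  rw [D.at_al_one] at he
  rw [D.act_AL', D.act_AL', lin, D.phl c _ _ he, lin]

theorem at_bl {l : M} (hl : l ∈ LL F H v0) (c : F) (m x : M) :
    ∃ d : F, AL F v0 al0 l (c • x) • m + m = c • (AL F v0 al0 l x • m + m) + d • l := by
  obtain ⟨c', hc', hg⟩ := D.rr_v0 hl
  obtain ⟨d, hd⟩ := D.bl c ((rr F H v0 l)⁻¹ • m) ((rr F H v0 l)⁻¹ • x)
  refine ⟨d * c', ?_⟩
  rw [D.act_AL', D.act_AL', lin, hd, smul_add, lin, lin, hg, smul_smul d c' l]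

theorem at_dual {l : M} (hl : l ∈ LL F H v0) (f : M →ₗ[F] F) (hf : ∀ e, AL F v0 al0 l e = 1 → f e = 0) :
    ∃ e, AL F v0 al0 l e = 1 ∧ ∀ x, AL F v0 al0 l x • e + e = f x • l := by
  obtain ⟨c, hc, hg⟩ := D.rr_v0 hl
  obtain ⟨e, he, hex⟩ := D.dual (f.comp (DistribSMul.toLinearMap F M (rr F H v0 l))) (fun e he => hf _ (by
    rw [D.at_al_one]
    change al0 ((rr F H v0 l)⁻¹ • rr F H v0 l • e) = 1
    rw [inv_smul_smul]; exact he))
  refine ⟨c⁻¹ • rr F H v0 l • e, ?_, fun x => ?_⟩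
  · rw [D.at_al_one, lin, inv_smul_smul, D.al_ker]
    intro a ha
    obtain ⟨d, hd⟩ := (D.al_ker e).1 he a ha
    exact ⟨c⁻¹ * d, by rw [lin, hd, smul_add, smul_smul]⟩
  · have h1 := hex ((rr F H v0 l)⁻¹ • x)
    have h2 : (f.comp (DistribSMul.toLinearMap F M (rr F H v0 l))) ((rr F H v0 l)⁻¹ • x) = f x := by
      change f (rr F H v0 l • (rr F H v0 l)⁻¹ • x) = f x
      rw [smul_inv_smul]
    rw [h2] at h1
    rw [D.act_AL', lin, inv_smul_smul, lin, ← smul_add, h1, lin, lin, hg, smul_smul, smul_smul]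
    congr 1
    rw [mul_comm c⁻¹, mul_assoc, inv_mul_cancel₀ hc, mul_one]

/-! ### the facts which are not in `Loc` -/

/-- `D_x = I` -/
theorem at_fixI (hf : ∀ u : M, (∀ a ∈ A0, a • u = u) → u ∈ I0) {l u : M} (hl : l ∈ LL F H v0)
    (h1 : ∀ a ∈ AA F v0 A0 l, a • u = u) : u ∈ II F (H := H) v0 I0 l := by
  obtain ⟨x, d, hd, hx⟩ := hl
  rw [D.mem_II hd hx]
  refine hf _ fun a ha => ?_
  have h2 : x * a * x⁻¹ ∈ AA F v0 A0 l := by
    rw [D.mem_AA hd hx]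
    have e : x⁻¹ * (x * a * x⁻¹) * x = a := by group
    rw [e]; exact ha
  have h3 := h1 _ h2
  have h4 : a • x⁻¹ • u = x⁻¹ • ((x * a * x⁻¹) • u) := by
    rw [smul_smul, smul_smul]
    congr 1
    group
  rw [h4, h3]

/-- TI -/
theorem at_ti (ht : ∀ {x a : H}, a ∈ A0 → x⁻¹ * a * x ∈ A0 → a ≠ 1 → ∃ c : F, x • v0 = c • v0) {l m : M} {a : H}
    (hl : l ∈ LL F H v0) (hm : m ∈ LL F H v0) (ha : a ∈ AA F v0 A0 l) (ham : a ∈ AA F v0 A0 m) (ha1 : a ≠ 1) :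
    ∃ c : F, m = c • l := by
  obtain ⟨x, c, hc, hx⟩ := hl
  obtain ⟨y, d, hd, hy⟩ := hm
  rw [D.mem_AA hc hx] at ha
  rw [D.mem_AA hd hy] at ham
  obtain ⟨b, hb⟩ := ht (x := x⁻¹ * y) ha (by
    have e : (x⁻¹ * y)⁻¹ * (x⁻¹ * a * x) * (x⁻¹ * y) = y⁻¹ * a * y := by group
    rw [e]; exact ham) (fun e => ha1 (by
      calc a = x * (x⁻¹ * a * x) * x⁻¹ := by group
        _ = 1 := by rw [e]; group))
  refine ⟨d * b * c⁻¹, ?_⟩
  have h1 : y • v0 = b • x • v0 := by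
    rw [← lin, ← hb, smul_smul, mul_inv_cancel_left]
  rw [hy, h1, hx, smul_smul, smul_smul]
  congr 1
  rw [inv_mul_cancel_right₀ hc]

/-- THEOREM P: `N_H(A_l)` fixes the point -/
theorem at_norm (hn : ∀ {x : H}, (∀ a ∈ A0, x * a * x⁻¹ ∈ A0) → ∃ c : F, x • v0 = c • v0) {l : M} {y : H}
    (hl : l ∈ LL F H v0) (hy : ∀ a ∈ AA F v0 A0 l, y * a * y⁻¹ ∈ AA F v0 A0 l) : ∃ c : F, y • l = c • l := by
  obtain ⟨x, c, hc, hx⟩ := hl
  obtain ⟨b, hb⟩ := hn (x := x⁻¹ * y * x) (fun a ha => by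
    have h2 := hy (x * a * x⁻¹) (by
      rw [D.mem_AA hc hx]
      have e : x⁻¹ * (x * a * x⁻¹) * x = a := by group
      rw [e]; exact ha)
    rw [D.mem_AA hc hx] at h2
    have e : x⁻¹ * y * x * a * (x⁻¹ * y * x)⁻¹ = x⁻¹ * (y * (x * a * x⁻¹) * y⁻¹) * x := by group
    rw [e]; exact h2)
  refine ⟨b, ?_⟩
  have h1 : y • x • v0 = b • x • v0 := by
    rw [← lin, ← hb, smul_smul, smul_smul]
    congr 1
    group
  rw [hx, lin, h1, smul_smul, smul_smul, mul_comm]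

/-- planes -/
theorem at_plane (hp : ∀ {x : H} (c : F), x • v0 ∈ I0 → v0 + c • x • v0 = 0 ∨ v0 + c • x • v0 ∈ LL F H v0) {l m : M}
    (hl : l ∈ LL F H v0) (hm : m ∈ LL F H v0) (hml : m ∈ II F (H := H) v0 I0 l) (c : F) :
    l + c • m = 0 ∨ l + c • m ∈ LL F H v0 := by
  obtain ⟨x, d, hd, hx⟩ := hl
  obtain ⟨y, b, hb, hy⟩ := hm
  rw [D.mem_II hd hx, hy, lin, smul_smul] at hml
  have h1 : (x⁻¹ * y) • v0 ∈ I0 := by
    have := I0.smul_mem b⁻¹ hml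
    rwa [smul_smul, inv_mul_cancel₀ hb, one_smul] at this
  have h2 : l + c • m = d • x • (v0 + (d⁻¹ * c * b) • (x⁻¹ * y) • v0) := by
    rw [smul_add, smul_add, lin, smul_smul x, mul_inv_cancel_left, smul_smul d, ← hx, hy, smul_smul c b]
    congr 2
    rw [mul_assoc d⁻¹, ← mul_assoc d, mul_inv_cancel₀ hd, one_mul]
  rw [h2]
  rcases hp (d⁻¹ * c * b) h1 with e | e
  · left; rw [e, smul_zero, smul_zero]
  · right; exact fsm_mem hd (smul_mem x e)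

/-- `g⁻¹ m` for a second line vector -/
theorem exists_rep {l m : M} (hm : m ∈ LL F H v0) :
    ∃ (x : H) (c : F), c ≠ 0 ∧ (rr F H v0 l)⁻¹ • m = c • x • v0 ∧ m = c • (rr F H v0 l * x) • v0 := by
  obtain ⟨y, c, hc, rfl⟩ := hm
  refine ⟨(rr F H v0 (l : M))⁻¹ * y, c, hc, ?_, ?_⟩
  · rw [lin, mul_smul]
  · rw [mul_inv_cancel_left]

/-- coplanar -/
theorem at_cop (hc0 : ∀ {x : H} {u : M}, x • v0 ∈ I0 → u ∈ I0 → al0 (x • u) = 1) {l m u : M} (hl : l ∈ LL F H v0)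
    (hm : m ∈ LL F H v0) (hml : m ∈ II F (H := H) v0 I0 l) (hu : u ∈ II F (H := H) v0 I0 m) :
    AL F v0 al0 l u = 1 := by
  obtain ⟨d, hd, hx⟩ := rr_spec F H hl
  obtain ⟨x, c, hc, h1, h2⟩ := D.exists_rep (l := l) hm
  rw [D.mem_II hd hx, h1] at hml
  rw [D.mem_II hc h2] at hu
  rw [D.at_al_one]
  have h3 : x • v0 ∈ I0 := by
    have := I0.smul_mem c⁻¹ hml
    rwa [smul_smul, inv_mul_cancel₀ hc, one_smul] at this
  have h4 := hc0 h3 hu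
  have e : x • (rr F H v0 l * x)⁻¹ • u = (rr F H v0 l)⁻¹ • u := by
    rw [smul_smul]
    congr 1
    group
  rwa [e] at h4

theorem np_of {l m : M} (hl : l ∈ LL F H v0) (hnp : NP F l m) {x : H} {c : F}
    (hm : m = c • (rr F H v0 l * x) • v0) : NP F v0 (x • v0) := by
  obtain ⟨d, hd, hx⟩ := rr_spec F H hl
  intro b hb
  refine hnp (c * b * d⁻¹) ?_
  have h1 : (c * b * d⁻¹) • l = (c * b * d⁻¹) • d • rr F H v0 l • v0 := congrArg (fun w => (c * b * d⁻¹) • w) hx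
  rw [h1, hm, mul_smul (rr F H v0 l) x, hb, lin, smul_smul, smul_smul, inv_mul_cancel_right₀ hd]

/-- ALPHA -/
theorem at_alpha (ha : ∀ {x : H} {u : M} (c : F), c ≠ 0 → NP F v0 (x • v0) → u ∈ I0 → x⁻¹ • u ∈ I0 → u ≠ 0 →
      al0 (c • x • v0) • x • v0 = x • v0) {l m u : M} (hl : l ∈ LL F H v0)
    (hm : m ∈ LL F H v0) (hnp : NP F l m) (hul : u ∈ II F (H := H) v0 I0 l) (hum : u ∈ II F (H := H) v0 I0 m)
    (hu : u ≠ 0) : AL F v0 al0 l m • m = m := by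
  obtain ⟨d, hd, hx⟩ := rr_spec F H hl
  obtain ⟨x, c, hc, h1, h2⟩ := D.exists_rep (l := l) hm
  rw [D.mem_II hd hx] at hul
  rw [D.mem_II hc h2] at hum
  have h3 := ha c hc (D.np_of hl hnp h2) hul (by
    have e : x⁻¹ • (rr F H v0 l)⁻¹ • u = (rr F H v0 l * x)⁻¹ • u := by
      rw [smul_smul]
      congr 1
      group
    rw [e]; exact hum) (fun e => hu ((smul_eq_zero_iff_eq _).1 e))
  rw [D.act_AL, h1, lin, h3, lin, ← mul_smul, ← h2]

/-- KAPPA -/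
theorem at_far {l m : M} (hm : m ∈ LL F H v0) (h : AL F v0 al0 l m ≠ 1) :
    ∃ (x : H) (c : F), c ≠ 0 ∧ m = c • (rr F H v0 l * x) • v0 ∧ al0 (c • x • v0) ≠ 1 := by
  obtain ⟨x, c, hc, h1, h2⟩ := D.exists_rep (l := l) hm
  refine ⟨x, c, hc, h2, fun e => h ?_⟩
  rw [D.at_al_one, h1]; exact e

/-- **the record `TIq.Gen`** -/
theorem toGen (hfix : ∀ u : M, (∀ a ∈ A0, a • u = u) → u ∈ I0)
    (hti : ∀ {x a : H}, a ∈ A0 → x⁻¹ * a * x ∈ A0 → a ≠ 1 → ∃ c : F, x • v0 = c • v0)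
    (hpl : ∀ {x : H} (c : F), x • v0 ∈ I0 → v0 + c • x • v0 = 0 ∨ v0 + c • x • v0 ∈ LL F H v0)
    (hcop : ∀ {x : H} {u : M}, x • v0 ∈ I0 → u ∈ I0 → al0 (x • u) = 1)
    (halpha : ∀ {x : H} {u : M} (c : F), c ≠ 0 → NP F v0 (x • v0) → u ∈ I0 → x⁻¹ • u ∈ I0 → u ≠ 0 →
      al0 (c • x • v0) • x • v0 = x • v0) :
    Gen F (LL F H v0) (AA F v0 A0) (II F (H := H) v0 I0) (AL F v0 al0) where
  two := D.two
  lin := lin
  zero := D.zero_notMem
  gen := D.span_LL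
  smul := fun x _ hl => smul_mem x hl
  fsm := fsm_mem
  A_sm := D.at_A_sm
  I_sm := D.at_I_sm
  trans := trans
  A_conj := D.at_A_conj
  I_conj := D.at_I_conj
  sq := D.at_sq
  ne := D.at_ne
  self := D.at_self
  comm := D.at_comm
  fix := D.at_fix
  fixI := D.at_fixI hfix
  ti := D.at_ti hti
  plane := D.at_plane hpl
  cop := D.at_cop hcop
  al_mem := D.at_al_mem
  al_add := fun _ => D.at_al_add
  al_surj := D.at_al_surj
  al_conj := D.at_al_conj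
  al_ker := D.at_al_ker
  sy := D.at_sy
  phl := fun _ => D.at_phl
  bl := D.at_bl
  dual := D.at_dual
  alpha := D.at_alpha halpha

end Loc

namespace LocK

variable {F M H : Type*} [Field F] [AddCommGroup M] [Module F M] [Group H] [DistribMulAction H M]
  [SMulCommClass H F M] {v0 : M} {A0 : Subgroup H} {I0 : Submodule F M} {al0 : M → H} {Kt0 : Subgroup H}
  (D : LocK F v0 A0 I0 al0 Kt0)
include D

open Loc (lin)

theorem mem_KT {l : M} {x a : H} {c : F} (hc : c ≠ 0) (hx : l = c • x • v0) :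
    a ∈ AA F v0 Kt0 l ↔ x⁻¹ * a * x ∈ Kt0 := by
  have hl : l ∈ LL F H v0 := ⟨x, c, hc, hx⟩
  obtain ⟨d, hd, hg⟩ := rr_spec F H hl
  unfold AA
  obtain ⟨g, hgd⟩ : ∃ g, g = rr F H v0 l := ⟨_, rfl⟩
  rw [← hgd] at hg ⊢
  have h0 : a ∈ Kt0.map (MulAut.conj g).toMonoidHom ↔ g⁻¹ * a * g ∈ Kt0 := by
    rw [Subgroup.mem_map]
    constructor
    · rintro ⟨b, hb, rfl⟩
      have e : g⁻¹ * ((MulAut.conj g).toMonoidHom b) * g = b := by
        change g⁻¹ * (g * b * g⁻¹) * g = b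
        group
      rw [e]; exact hb
    · intro hb
      refine ⟨_, hb, ?_⟩
      change g * (g⁻¹ * a * g) * g⁻¹ = a
      group
  rw [h0]
  have e1 := hx.symm.trans hg
  constructor
  · intro ha
    have := D.sK (D.stab' hd hc e1.symm) ha
    have e : x⁻¹ * g * (g⁻¹ * a * g) * (x⁻¹ * g)⁻¹ = x⁻¹ * a * x := by group
    rwa [e] at this
  · intro ha
    have := D.sK (D.stab' hc hd e1) ha
    have e : g⁻¹ * x * (x⁻¹ * a * x) * (g⁻¹ * x)⁻¹ = g⁻¹ * a * g := by group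
    rwa [e] at this

theorem at_Kt_sm {c : F} {l : M} (hc : c ≠ 0) (hl : l ∈ LL F H v0) : AA F v0 Kt0 (c • l) = AA F v0 Kt0 l := by
  obtain ⟨x, d, hd, hx⟩ := hl
  ext a
  rw [D.mem_KT (mul_ne_zero hc hd) (by rw [hx, smul_smul]), D.mem_KT hd hx]

theorem at_Kt_two (l : M) : IsPGroup 2 (AA F v0 Kt0 l) := D.Kt_two.map _

theorem at_Kt_conj (y : H) {l : M} {a : H} (hl : l ∈ LL F H v0) (ha : a ∈ AA F v0 Kt0 l) :
    y * a * y⁻¹ ∈ AA F v0 Kt0 (y • l) := by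
  obtain ⟨x, d, hd, hx⟩ := hl
  rw [D.mem_KT hd hx] at ha
  rw [D.mem_KT (x := y * x) hd (by rw [hx, lin, mul_smul])]
  have e : (y * x)⁻¹ * (y * a * y⁻¹) * (y * x) = x⁻¹ * a * x := by group
  rw [e]; exact ha

theorem at_A_le_Kt {l : M} (hl : l ∈ LL F H v0) : AA F v0 A0 l ≤ AA F v0 Kt0 l := by
  obtain ⟨x, d, hd, hx⟩ := hl
  intro a ha
  rw [D.mem_AA hd hx] at ha
  rw [D.mem_KT hd hx]
  exact D.A_le_Kt ha

theorem at_Kt_fix {l : M} {t : H} (hl : l ∈ LL F H v0) (ht : t ∈ AA F v0 Kt0 l) : t • l = l := by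
  obtain ⟨x, d, hd, hx⟩ := hl
  rw [D.mem_KT hd hx] at ht
  have h1 := D.Kt_fix ht
  rw [hx, lin]
  congr 1
  calc t • x • v0 = x • (x⁻¹ * t * x) • v0 := by
        rw [smul_smul, smul_smul]
        congr 1
        group
    _ = x • v0 := by rw [h1]

theorem at_Kt_A {l : M} {t a : H} (hl : l ∈ LL F H v0) (ht : t ∈ AA F v0 Kt0 l) (ha : a ∈ AA F v0 A0 l) :
    t * a = a * t := by
  obtain ⟨x, d, hd, hx⟩ := hl
  rw [D.mem_KT hd hx] at ht
  rw [D.mem_AA hd hx] at ha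
  have h1 := D.Kt_A ht ha
  calc t * a = x * ((x⁻¹ * t * x) * (x⁻¹ * a * x)) * x⁻¹ := by group
    _ = x * ((x⁻¹ * a * x) * (x⁻¹ * t * x)) * x⁻¹ := by rw [h1]
    _ = a * t := by group

theorem at_Kt_E {l : M} {t : H} {e : M} (hl : l ∈ LL F H v0) (ht : t ∈ AA F v0 Kt0 l) (he : AL F v0 al0 l e = 1) :
    t • e + e ∈ II F (H := H) v0 I0 l := by
  obtain ⟨d, hd, hx⟩ := rr_spec F H hl
  rw [D.mem_KT hd hx] at ht
  rw [D.mem_II hd hx]
  rw [D.at_al_one] at he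
  have h1 := D.Kt_E ht he
  have e1 : (rr F H v0 l)⁻¹ • (t • e + e) =
      ((rr F H v0 l)⁻¹ * t * rr F H v0 l) • (rr F H v0 l)⁻¹ • e + (rr F H v0 l)⁻¹ • e := by
    rw [smul_add, smul_smul, smul_smul]
    congr 2
    group
  rw [e1]; exact h1

theorem at_Kt_I {l : M} {t : H} {u : M} (hl : l ∈ LL F H v0) (ht : t ∈ AA F v0 Kt0 l)
    (hu : u ∈ II F (H := H) v0 I0 l) : ∃ c : F, t • u + u = c • l := by
  obtain ⟨x, d, hd, hx⟩ := hl
  rw [D.mem_KT hd hx] at ht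
  rw [D.mem_II hd hx] at hu
  obtain ⟨c, hc⟩ := D.Kt_I ht hu
  refine ⟨c * d⁻¹, ?_⟩
  have e1 : t • u + u = x • ((x⁻¹ * t * x) • x⁻¹ • u + x⁻¹ • u) := by
    rw [smul_add, smul_inv_smul, smul_smul, smul_smul]
    congr 2
    group
  rw [e1, hc, lin, hx, smul_smul, inv_mul_cancel_right₀ hd]

theorem at_Kt_hom {l u : M} (hl : l ∈ LL F H v0) (hu : u ∈ II F (H := H) v0 I0 l) (hnp : NP F l u) :
    ∃ t ∈ AA F v0 Kt0 l, t • u = u + l := by
  obtain ⟨x, d, hd, hx⟩ := hl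
  have hu' := (D.mem_II hd hx).1 hu
  -- `u' = d⁻¹ x⁻¹ u`
  have h1 : d⁻¹ • x⁻¹ • u ∈ I0 := I0.smul_mem _ hu'
  obtain ⟨t, ht, htu⟩ := D.Kt_hom h1 (fun c hc => hnp c (by
    have h2 : u = d • x • d⁻¹ • x⁻¹ • u := by
      rw [lin, smul_smul d, mul_inv_cancel₀ hd, one_smul, smul_inv_smul]
    rw [h2, hc, hx, lin, smul_smul, smul_smul, mul_comm]))
  refine ⟨x * t * x⁻¹, ?_, ?_⟩
  · rw [D.mem_KT hd hx]
    have e : x⁻¹ * (x * t * x⁻¹) * x = t := by group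
    rw [e]; exact ht
  · have h3 := congrArg (fun w => d • x • w) htu
    simp only [lin, smul_add] at h3
    rw [smul_smul d d⁻¹, mul_inv_cancel₀ hd, one_smul, smul_inv_smul, ← hx, smul_smul d d⁻¹, mul_inv_cancel₀ hd,
      one_smul] at h3
    rw [mul_smul, mul_smul]
    exact h3

/-- planes -/
theorem pl {x : H} (c : F) (hx : x • v0 ∈ I0) : v0 + c • x • v0 = 0 ∨ v0 + c • x • v0 ∈ LL F H v0 := by
  by_cases hnp : NP F v0 (c • x • v0)
  · right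
    obtain ⟨t, -, ht⟩ := D.Kt_hom (I0.smul_mem c hx) hnp
    have hc : c ≠ 0 := by
      rintro rfl
      exact hnp 0 (by rw [zero_smul, zero_smul])
    refine ⟨t * x, c, hc, ?_⟩
    rw [add_comm, ← ht, mul_smul, lin]
  · unfold NP at hnp
    push Not at hnp
    obtain ⟨b, hb⟩ := hnp
    rw [hb]
    by_cases h0 : 1 + b = 0
    · left
      have e : v0 + b • v0 = (1 + b) • v0 := by rw [add_smul, one_smul]
      rw [e, h0, zero_smul]
    · right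
      exact ⟨1, 1 + b, h0, by rw [one_smul, add_smul, one_smul]⟩

/-- **the record `TIq.GenK`** -/
theorem toGenK (hfix : ∀ u : M, (∀ a ∈ A0, a • u = u) → u ∈ I0)
    (hti : ∀ {x a : H}, a ∈ A0 → x⁻¹ * a * x ∈ A0 → a ≠ 1 → ∃ c : F, x • v0 = c • v0)
    (hcop : ∀ {x : H} {u : M}, x • v0 ∈ I0 → u ∈ I0 → al0 (x • u) = 1)
    (halpha : ∀ {x : H} {u : M} (c : F), c ≠ 0 → NP F v0 (x • v0) → u ∈ I0 → x⁻¹ • u ∈ I0 → u ≠ 0 →
      al0 (c • x • v0) • x • v0 = x • v0) :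
    GenK F (LL F H v0) (AA F v0 A0) (II F (H := H) v0 I0) (AL F v0 al0) (AA F v0 Kt0) where
  toGen := D.toGen hfix hti (fun c hx => D.pl c hx) hcop halpha
  faith := D.faith
  Kt_sm := D.at_Kt_sm
  Kt_two := fun {l} _ => D.at_Kt_two l
  Kt_conj := D.at_Kt_conj
  A_le_Kt := D.at_A_le_Kt
  Kt_fix := D.at_Kt_fix
  Kt_A := D.at_Kt_A
  Kt_E := D.at_Kt_E
  Kt_I := D.at_Kt_I
  Kt_hom := D.at_Kt_hom

end LocK

end Cfsg.Agent.Omega.NO3S.OneQ.TIq
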