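import Cfsg.Agent.Omega.NO3S.OneQ.TIq.BigEnd

/-!
# NO-3S, `OneSz`, the TI world, `D_x = I`, `k = 1`: basics, dimensions, planes are dead (bb OMEGA #19856 (3))

* `Gen.E_max`, `Gen.nfix`, `Gen.no_part` : `k = 1`
* `GenK.fr_two`, `GenK.fr_four` : `dim Ibar = 2`, `dim M = 4`
* `GenK.no_plane` : `q ≥ 3` ⟹ no planes
-/

set_option autoImplicit false
set_option linter.unusedSimpArgs false
set_option linter.unusedSectionVars false

namespace Cfsg.Agent.Omega.NO3S.OneQ.TIq

open Module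

namespace Gen

variable {F M H : Type*} [Field F] [AddCommGroup M] [Module F M] [Group H] [DistribMulAction H M] {L : Set M}
    {A : M → Subgroup H} {I : M → Submodule F M} {al : M → M → H}

section fin

variable [Finite F] [Finite M] [Finite H]

/-- `Ebar_l` is maximal -/
theorem E_max (G : Gen F L A I al) {l y : M} (hl : l ∈ L) (h1 : finrank F (M ⧸ G.E hl) = 1) {N : Submodule F M}
    (hN : G.E hl ≤ N) (hy : y ∈ N) (hyE : al l y ≠ 1) (z : M) : z ∈ N := by
  have h2 : G.E hl < N := lt_of_le_of_ne hN (by rintro rfl; exact hyE hy)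
  have h3 := Submodule.finrank_lt_finrank_of_lt h2
  have h4 := G.fr_M hl
  have h5 : finrank F N ≤ finrank F M := Submodule.finrank_le _
  have h6 : N = ⊤ := Submodule.eq_top_of_finrank_eq (by omega)
  rw [h6]
  trivial

/-- `x ∉ Ebar_l`, `1 ≠ a ∈ A_l` ⟹ `[x, a] ∉ F l` -/
theorem nfix (G : Gen F L A I al) {l x : M} {a : H} (hl : l ∈ L) (h1 : finrank F (M ⧸ G.E hl) = 1)
    (hx : al l x ≠ 1) (ha : a ∈ A l) (ha1 : a ≠ 1) : a • x + x ∉ Submodule.span F {l} := by
  intro h
  apply hx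
  obtain ⟨y, rfl⟩ := G.al_surj hl ha
  let N : Submodule F M := Submodule.span F {l}
  have hlN : l ∈ N := Submodule.mem_span_singleton_self l
  have hE : G.E hl ≤ LinearMap.ker (G.Bt hl x N hlN) := by
    intro e he
    rw [LinearMap.mem_ker, G.Bt_zero hl, show al l e = 1 from he, one_smul, G.two]
    exact zero_mem _
  have hy : y ∈ LinearMap.ker (G.Bt hl x N hlN) := by
    rw [LinearMap.mem_ker, G.Bt_zero hl]
    exact h
  rw [G.al_ker hl]
  intro b hb
  obtain ⟨z, rfl⟩ := G.al_surj hl hb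
  have hz := G.E_max hl h1 hE hy ha1 z
  rw [LinearMap.mem_ker, G.Bt_zero hl] at hz
  obtain ⟨c, hc⟩ := Submodule.mem_span_singleton.1 hz
  refine ⟨c, ?_⟩
  rw [hc, add_comm (al l z • x) x, G.two_left]

/-- `1 ≠ a ∈ A_l` fixes only `Ibar_l` -/
theorem fix_mem (G : Gen F L A I al) {l x : M} {a : H} (hl : l ∈ L) (h1 : finrank F (M ⧸ G.E hl) = 1)
    (ha : a ∈ A l) (ha1 : a ≠ 1) (h : a • x = x) : x ∈ I l := by
  by_cases hx : al l x = 1
  · obtain ⟨y, rfl⟩ := G.al_surj hl ha
    rw [show x = ((⟨x, hx⟩ : G.E hl) : M) from rfl, ← G.Phi_zero_iff hl]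
    have h2 : y ∈ LinearMap.ker (G.Phi hl ⟨x, hx⟩) := by
      rw [LinearMap.mem_ker]
      apply G.Phi_eq hl
      rw [zero_smul, add_zero]
      exact h
    ext z
    exact LinearMap.mem_ker.1 (G.E_max hl h1 (G.Phi_E hl _) h2 ha1 z)
  · exfalso
    apply G.nfix hl h1 hx ha ha1
    rw [h, G.two]
    exact zero_mem _

theorem card_A_one (G : Gen F L A I al) {l : M} (hl : l ∈ L) (h1 : finrank F (M ⧸ G.E hl) = 1) :
    Nat.card (A l) = Nat.card F := by
  rw [G.card_A_eq hl, h1, pow_one]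

/-- `dim Ibar = 2` -/
theorem fr_two (G : Gen F L A I al) {l : M} (hl : l ∈ L) (h1 : finrank F (M ⧸ G.E hl) = 1) :
    finrank F (I l) = 2 := by
  have h2 := G.i_le hl
  rw [h1] at h2
  have h3 : Submodule.span F {l} ≤ I l := Submodule.span_le.2 (by rintro x rfl; exact G.self hl)
  have h4 := Submodule.finrank_mono h3
  have h5 := finrank_span_singleton (K := F) (G.ne_zero hl)
  rw [h5] at h4
  by_contra hne
  have h6 : Submodule.span F {l} = I l := Submodule.eq_of_le_of_finrank_le h3 (by omega)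
  obtain ⟨m, hm, hlm⟩ := G.exists_opp hl
  obtain ⟨a, ha, ha1⟩ := G.ne hl
  apply G.nfix hl h1 hlm ha ha1
  rw [h6]
  exact G.comm hl ha m

theorem fr_four (G : Gen F L A I al) {l : M} (hl : l ∈ L) (h1 : finrank F (M ⧸ G.E hl) = 1) :
    finrank F M = 4 := by
  have h2 := G.fr_two hl h1
  have h3 := G.fr_M hl
  have h4 := G.fr_E hl
  omega

theorem fr_E3 (G : Gen F L A I al) {l : M} (hl : l ∈ L) (h1 : finrank F (M ⧸ G.E hl) = 1) :
    finrank F (G.E hl) = 3 := by
  have h2 := G.fr_two hl h1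
  have h4 := G.fr_E hl
  omega

/-- a 2-dimensional space is spanned by two independent vectors -/
theorem span_two {Y : Submodule F M} (hY : finrank F Y = 2) {l u : M} (hl0 : l ≠ 0) (hl : l ∈ Y) (hu : u ∈ Y)
    (hlu : u ∉ Submodule.span F {l}) {y : M} (hy : y ∈ Y) : ∃ c d : F, y = c • l + d • u := by
  have h1 : Submodule.span F {l} < Submodule.span F {l} ⊔ Submodule.span F {u} :=
    lt_of_le_of_ne le_sup_left (fun h => hlu (by
      rw [h]
      exact (le_sup_right : _ ≤ Submodule.span F {l} ⊔ Submodule.span F {u}) (Submodule.mem_span_singleton_self u)))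
  have h2 := Submodule.finrank_lt_finrank_of_lt h1
  rw [finrank_span_singleton hl0] at h2
  have h3 : Submodule.span F {l} ⊔ Submodule.span F {u} ≤ Y :=
    sup_le (Submodule.span_le.2 (by rintro x rfl; exact hl)) (Submodule.span_le.2 (by rintro x rfl; exact hu))
  have h4 := Submodule.eq_of_le_of_finrank_le h3 (by omega)
  rw [← h4] at hy
  obtain ⟨p, hp, s, hs, e⟩ := Submodule.mem_sup.1 hy
  obtain ⟨c, rfl⟩ := Submodule.mem_span_singleton.1 hp
  obtain ⟨d, rfl⟩ := Submodule.mem_span_singleton.1 hs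
  exact ⟨c, d, e.symm⟩

theorem notMem_span (l u : M) (h : NP F l u) : u ∉ Submodule.span F {l} := by
  intro h1
  obtain ⟨c, hc⟩ := Submodule.mem_span_singleton.1 h1
  exact h c hc.symm

theorem np_of_notMem (l u : M) (h : u ∉ Submodule.span F {l}) : NP F l u := by
  rintro c rfl
  exact h (Submodule.smul_mem _ _ (Submodule.mem_span_singleton_self l))

end fin

end Gen

namespace GenK

variable {F M H : Type*} [Field F] [AddCommGroup M] [Module F M] [Group H] [DistribMulAction H M] {L : Set M}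
    {A : M → Subgroup H} {I : M → Submodule F M} {al : M → M → H} {Kt : M → Subgroup H}

section plane

variable [Finite F] [Finite M] [Finite H]

/-- all vectors of `Ibar_l` are in `L` -/
theorem pl_all (K : GenK F L A I al Kt) {l m : M} (hl : l ∈ L) (hm : m ∈ L) (hlm : NP F l m) (hI : m ∈ I l)
    {l' : M} (hl' : l' ∈ L) {y : M} (hy : y ∈ I l') (hy0 : y ≠ 0) : y ∈ L := by
  have G := K.toGen
  have h1 : ∀ y ∈ I l, y ≠ 0 → y ∈ L := by
    intro y hy hy0
    obtain ⟨c, d, rfl⟩ := Gen.span_two (G.fr_two hl (K.k_one hl)) (G.ne_zero hl) (G.self hl) hI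
      (Gen.notMem_span l m hlm) hy
    by_cases hc : c = 0
    · rw [hc, zero_smul, zero_add] at hy0 ⊢
      exact G.fsm' hm hy0
    · have h2 : c • l + d • m = c • (l + (c⁻¹ * d) • m) := by
        rw [smul_add, smul_smul, ← mul_assoc, mul_inv_cancel₀ hc, one_mul]
      rw [h2] at hy0 ⊢
      rcases G.plane hl hm hI (c⁻¹ * d) with h | h
      · rw [h, smul_zero] at hy0
        exact absurd rfl hy0
      · exact G.fsm hc h
  obtain ⟨h, c, hc, e⟩ := G.trans hl' hl
  have h2 : h • y ∈ I l := by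
    have := G.I_conj h hl' hy
    rwa [e, G.I_sm hc hl] at this
  have h3 : h • y ≠ 0 := by
    intro h0
    apply hy0
    rw [← inv_smul_smul h y, h0, smul_zero]
  have h4 := G.smul h⁻¹ (h1 _ h2 h3)
  rwa [inv_smul_smul] at h4

theorem pl_I (K : GenK F L A I al Kt) {l m : M} (hl : l ∈ L) (hm : m ∈ L) (hlm : NP F l m) (hI : m ∈ I l)
    {l' : M} (hl' : l' ∈ L) {y : M} (hy : y ∈ I l') (hy0 : y ≠ 0) : I y = I l' := by
  have G := K.toGen
  have hyL := K.pl_all hl hm hlm hI hl' hy hy0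
  by_cases h1 : NP F l' y
  · symm
    refine Submodule.eq_of_le_of_finrank_le ?_ (by rw [G.fr_two hyL (K.k_one hyL), G.fr_two hl' (K.k_one hl')])
    intro x hx
    obtain ⟨c, d, rfl⟩ := Gen.span_two (G.fr_two hl' (K.k_one hl')) (G.ne_zero hl') (G.self hl') hy
      (Gen.notMem_span l' y h1) hx
    exact add_mem ((I y).smul_mem c (G.I_symm hl' hyL hy)) ((I y).smul_mem d (G.self hyL))
  · unfold NP at h1
    push Not at h1
    obtain ⟨c, rfl⟩ := h1
    exact G.I_sm (by rintro rfl; exact hy0 (zero_smul _ _)) hl'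

/-- an involution which centralises `Y = Ibar_l` and a vector of `L - Y` is trivial -/
theorem pl_one (K : GenK F L A I al Kt) {l m : M} (hl : l ∈ L) (hm : m ∈ L) (hlm : NP F l m) (hI : m ∈ I l)
    {t : H} (ht : t * t = 1) (htY : ∀ y ∈ I l, t • y = y) {v : M} (hv : v ∈ L) (hvY : v ∉ I l) (htv : t • v = v) :
    t = 1 := by
  have G := K.toGen
  have two := G.two
  have tl := G.two_left
  have hk := K.k_one hv
  have htt : ∀ x : M, t • t • x = x := fun x => by rw [← mul_smul, ht, one_smul]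
  have hinf : I l ⊓ I v = ⊥ := by
    rw [eq_bot_iff]
    rintro y ⟨hy, hy'⟩
    rw [Submodule.mem_bot]
    by_contra hy0
    apply hvY
    rw [← K.pl_I hl hm hlm hI hl hy hy0, K.pl_I hl hm hlm hI hv hy' hy0]
    exact G.self hv
  have hsup : I l ⊔ I v = ⊤ := by
    apply Submodule.eq_top_of_finrank_eq
    have h1 := Submodule.finrank_sup_add_finrank_inf_eq (I l) (I v)
    rw [hinf, finrank_bot, G.fr_two hl (K.k_one hl), G.fr_two hv hk] at h1
    rw [G.fr_four hl (K.k_one hl)]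
    omega
  have htE : ∀ e, al v e = 1 → al v (t • e) = 1 := by
    intro e he
    rw [G.al_conj hv htv, he]
    group
  have hcomm : ∀ x, al v (t • x + x) = 1 := by
    intro x
    by_contra hy
    have h1 : t • (t • x + x) = t • x + x := by rw [smul_add, htt, add_comm]
    have h2 := G.E_max hv hk (N := G.E hv ⊔ Submodule.span F {t • x + x}) le_sup_left
      ((le_sup_right : _ ≤ G.E hv ⊔ Submodule.span F {t • x + x}) (Submodule.mem_span_singleton_self _)) hy x
    obtain ⟨e, he, z, hz, h3⟩ := Submodule.mem_sup.1 h2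
    obtain ⟨c, rfl⟩ := Submodule.mem_span_singleton.1 hz
    have h4 : t • x = t • e + c • (t • x + x) := by
      calc t • x = t • (e + c • (t • x + x)) := by rw [h3]
        _ = t • e + c • (t • x + x) := by rw [smul_add, G.lin, h1]
    apply hy
    have h5 : t • x + x = t • e + e := by
      calc t • x + x = (t • e + c • (t • x + x)) + (e + c • (t • x + x)) := by rw [← h4, h3]
        _ = t • e + e + (c • (t • x + x) + c • (t • x + x)) := by abel
        _ = t • e + e := by rw [two, add_zero]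
    have he' : al v e = 1 := he
    rw [h5, G.al_add hv, htE e he', he', one_mul]
  have hta : ∀ a ∈ A v, t * a = a * t := by
    intro a ha
    obtain ⟨x, rfl⟩ := G.al_surj hv ha
    have h1 := hcomm x
    rw [G.al_add hv, G.al_conj hv htv] at h1
    have h2 := inv_eq_of_mul_eq_one_left h1
    rw [G.inv hv (G.al_mem hv x)] at h2
    calc t * al v x = t * al v x * t⁻¹ * t := by group
      _ = al v x * t := by rw [← h2]
  obtain ⟨y, hy, hyE⟩ : ∃ y ∈ I l, al v y ≠ 1 := by
    by_contra hcon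
    push Not at hcon
    have h1 : (⊤ : Submodule F M) ≤ G.E hv := by
      rw [← hsup]
      exact sup_le (fun y hy => hcon y hy) (G.I_le_E hv)
    obtain ⟨a, ha, ha1⟩ := G.ne hv
    obtain ⟨x, rfl⟩ := G.al_surj hv ha
    exact ha1 (h1 (Submodule.mem_top (x := x)))
  obtain ⟨a, ha, ha1⟩ := G.ne hv
  have hw := G.nfix hv hk hyE ha ha1
  have hwI := G.comm hv ha y
  have htw : t • (a • y + y) = a • y + y := by
    rw [smul_add, ← mul_smul, hta a ha, mul_smul, htY y hy]
  apply K.faith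
  intro x
  have hx : x ∈ I l ⊔ I v := by rw [hsup]; trivial
  obtain ⟨y₁, hy₁, y₂, hy₂, rfl⟩ := Submodule.mem_sup.1 hx
  obtain ⟨c, d, rfl⟩ := Gen.span_two (G.fr_two hv hk) (G.ne_zero hv) (G.self hv) hwI hw hy₂
  rw [smul_add, smul_add, G.lin, G.lin, htY y₁ hy₁, htv, htw]

/-- the elements centralising `Y` and `M / Y` -/
def AY (_K : GenK F L A I al Kt) (l : M) : Set H :=
  {r | (∀ y ∈ I l, r • y = y) ∧ ∀ x : M, r • x + x ∈ I l}

theorem AY_mul (K : GenK F L A I al Kt) {l : M} {r s : H} (hr : r ∈ K.AY l) (hs : s ∈ K.AY l) :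
    r * s ∈ K.AY l ∧ ∀ x : M, (r * s) • x + x = (r • x + x) + (s • x + x) := by
  have G := K.toGen
  have two := G.two
  have tl := G.two_left
  have h1 : ∀ x : M, (r * s) • x + x = (r • x + x) + (s • x + x) := by
    intro x
    have h2 := hr.1 _ (hs.2 x)
    rw [smul_add] at h2
    have h3 : r • s • x = s • x + x + r • x := by
      rw [← h2, add_assoc, two, add_zero]
    rw [mul_smul, h3]
    abel
  refine ⟨⟨fun y hy => by rw [mul_smul, hs.1 y hy, hr.1 y hy], fun x => ?_⟩, h1⟩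
  rw [h1]
  exact add_mem (hr.2 x) (hs.2 x)

theorem AY_sq (K : GenK F L A I al Kt) {l : M} {r : H} (hr : r ∈ K.AY l) : r * r = 1 := by
  have G := K.toGen
  apply K.faith
  intro x
  have h1 := (K.AY_mul hr hr).2 x
  rw [G.two] at h1
  exact G.eq_of_add h1

theorem AY_A (K : GenK F L A I al Kt) {l : M} (hl : l ∈ L) {a : H} (ha : a ∈ A l) : a ∈ K.AY l :=
  ⟨fun _ hy => K.fix hl ha hy, fun x => K.comm hl ha x⟩

theorem AY_I (K : GenK F L A I al Kt) {l m : M} (h : I l = I m) : K.AY l = K.AY m := by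
  unfold AY
  rw [h]

theorem AY_conj (K : GenK F L A I al Kt) {l : M} (hl : l ∈ L) {c r : H} (hc : c • l = l) (hr : r ∈ K.AY l) :
    c * r * c⁻¹ ∈ K.AY l := by
  have G := K.toGen
  have hc' : c⁻¹ • l = l := by
    rw [inv_smul_eq_iff]; exact hc.symm
  refine ⟨fun y hy => ?_, fun x => ?_⟩
  · have h1 := G.I_conj' hl hy hc'
    rw [mul_smul, mul_smul, hr.1 _ h1, smul_inv_smul]
  · have h1 := G.I_conj' hl (hr.2 (c⁻¹ • x)) hc
    rwa [smul_add, smul_inv_smul, ← mul_smul, ← mul_smul] at h1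

/-- no planes -/
theorem no_plane (K : GenK F L A I al Kt) (hq : 3 ≤ Nat.card F) {l m : M} (hl : l ∈ L) (hm : m ∈ L)
    (hI : m ∈ I l) : ∃ c : F, m = c • l := by
  have G := K.toGen
  have two := G.two
  have tl := G.two_left
  by_contra hcon
  push Not at hcon
  have hlm : NP F l m := hcon
  have hk := K.k_one hl
  have hIm : I m = I l := K.pl_I hl hm hlm hI hl hI (G.ne_zero hm)
  -- `r ∈ AY` which fixes a vector of `L - Y`
  have hone : ∀ r ∈ K.AY l, ∀ v ∈ L, v ∉ I l → r • v = v → r = 1 := fun r hr v hv hvY h =>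
    K.pl_one hl hm hlm hI (K.AY_sq hr) hr.1 hv hvY h
  have hmul := fun {r s : H} (hr : r ∈ K.AY l) (hs : s ∈ K.AY l) => K.AY_mul hr hs
  -- transitivity on `v + Y`
  have htr : ∀ v ∈ L, v ∉ I l → ∀ z ∈ I l, ∃ r ∈ K.AY l, r • v = v + z := by
    intro v hv hvY z hz
    have hAm : ∀ a ∈ A m, a ∈ K.AY l := fun a ha => K.AY_I hIm ▸ K.AY_A hm ha
    let f : A l × A m → I l := fun p =>
      ⟨((p.1 : H) * (p.2 : H)) • v + v, (hmul (K.AY_A hl p.1.2) (hAm _ p.2.2)).1.2 v⟩
    have hf : Function.Injective f := by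
      rintro ⟨a, b⟩ ⟨a₂, b₂⟩ h
      have h1 : ((a : H) * (b : H)) • v + v = ((a₂ : H) * (b₂ : H)) • v + v := congrArg Subtype.val h
      have h2 := add_right_cancel h1
      have hp := (hmul (K.AY_A hl a.2) (hAm _ b.2)).1
      have hp₂ := (hmul (K.AY_A hl a₂.2) (hAm _ b₂.2)).1
      have h3 := (hmul hp hp₂).2 v
      have h4 : ((a : H) * b * (a₂ * b₂)) • v = v := by
        rw [h2, two] at h3
        exact G.eq_of_add h3
      have h5 := hone _ (hmul hp hp₂).1 v hv hvY h4
      have h6 : (a : H) * b = a₂ * b₂ := by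
        have h7 := inv_eq_of_mul_eq_one_left h5
        rw [inv_eq_of_mul_eq_one_left (K.AY_sq hp₂)] at h7
        exact h7.symm
      have h7 : (a₂ : H)⁻¹ * a = b₂ * (b : H)⁻¹ := by
        rw [inv_mul_eq_iff_eq_mul, ← mul_assoc, ← h6, mul_assoc, mul_inv_cancel, mul_one]
      have h8 : (a₂ : H)⁻¹ * a = 1 := by
        by_contra hne
        have h9 := mul_mem (inv_mem a₂.2) a.2
        obtain ⟨c, hc⟩ := G.ti hl hm h9 (h7 ▸ mul_mem b₂.2 (inv_mem b.2)) hne
        exact hlm c hc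
      have h9 : (a : H) = a₂ := (inv_mul_eq_one.1 h8).symm
      rw [h9] at h6
      have h10 : (b : H) = b₂ := mul_left_cancel h6
      rw [Prod.mk.injEq]
      exact ⟨Subtype.ext h9, Subtype.ext h10⟩
    have hcard : Nat.card (I l) ≤ Nat.card (A l × A m) := by
      rw [Nat.card_prod, G.card_A_one hl hk, G.card_A_one hm (K.k_one hm),
        Module.natCard_eq_pow_finrank (K := F) (V := I l), G.fr_two hl hk, sq]
    obtain ⟨⟨a, b⟩, hab⟩ := (hf.bijective_of_nat_card_le hcard).2 ⟨z, hz⟩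
    have h1 : ((a : H) * (b : H)) • v + v = z := congrArg Subtype.val hab
    refine ⟨_, (hmul (K.AY_A hl a.2) (hAm _ b.2)).1, ?_⟩
    rw [← h1, add_comm v, add_assoc, two, add_zero]
  -- everything outside `Y` is in `L`
  obtain ⟨m₁, hm₁, hm₁E⟩ := G.exists_opp hl
  have hm₁Y : m₁ ∉ I l := fun h => hm₁E (G.al_I_one hl h)
  have hinf : I l ⊓ I m₁ = ⊥ := by
    rw [eq_bot_iff]
    rintro y ⟨hy, hy'⟩
    rw [Submodule.mem_bot]
    by_contra hy0
    apply hm₁Y
    rw [← K.pl_I hl hm hlm hI hl hy hy0, K.pl_I hl hm hlm hI hm₁ hy' hy0]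
    exact G.self hm₁
  have hsup : I l ⊔ I m₁ = ⊤ := by
    apply Submodule.eq_top_of_finrank_eq
    have h1 := Submodule.finrank_sup_add_finrank_inf_eq (I l) (I m₁)
    rw [hinf, finrank_bot, G.fr_two hl hk, G.fr_two hm₁ (K.k_one hm₁)] at h1
    rw [G.fr_four hl hk]
    omega
  have hall : ∀ x, x ∉ I l → x ∈ L := by
    intro x hx
    have hx' : x ∈ I l ⊔ I m₁ := by rw [hsup]; trivial
    obtain ⟨y, hy, y', hy', rfl⟩ := Submodule.mem_sup.1 hx'
    have hy'0 : y' ≠ 0 := by
      rintro rfl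
      rw [add_zero] at hx
      exact hx hy
    have h1 := K.pl_all hl hm hlm hI hm₁ hy' hy'0
    have h2 : y' ∉ I l := by
      intro h
      have h3 : y' ∈ I l ⊓ I m₁ := ⟨h, hy'⟩
      rw [hinf] at h3
      exact hy'0 h3
    obtain ⟨r, -, hr⟩ := htr y' h1 h2 y hy
    rw [add_comm, ← hr]
    exact G.smul r h1
  obtain ⟨a₀, ha₀, ha₀1⟩ := G.ne hl
  obtain ⟨e, he, he'⟩ := G.phi hl ha₀ ha₀1
  have heY : e ∉ I l := by
    intro h
    rw [G.fix hl ha₀ h] at he'
    exact G.ne_zero hl (left_eq_add.1 he')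
  obtain ⟨k, hk'⟩ : ∃ k, k = a₀ • m₁ + m₁ := ⟨_, rfl⟩
  have hkY : k ∈ I l := hk' ▸ G.comm hl ha₀ m₁
  have hkl : k ∉ Submodule.span F {l} := hk' ▸ G.nfix hl hk hm₁E ha₀ ha₀1
  have ha₀A := K.AY_A hl ha₀
  -- the main computation
  have main : ∀ z : F, z ≠ 0 → ∀ r ∈ K.AY l, r • e + e = z • k → ∃ y : F, r • m₁ + m₁ = y • l + k := by
    intro z hz r hr hre
    obtain ⟨y, w, hrm⟩ := Gen.span_two (G.fr_two hl hk) (G.ne_zero hl) (G.self hl) hkY hkl (hr.2 m₁)
    have hzk : NP F l (z • k) := by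
      intro c hc
      apply hkl
      have : k = z⁻¹ • z • k := by rw [smul_smul, inv_mul_cancel₀ hz, one_smul]
      rw [this, hc]
      exact Submodule.smul_mem _ _ (Submodule.smul_mem _ _ (Submodule.mem_span_singleton_self l))
    obtain ⟨c, hc, hcu⟩ := K.Kt_hom hl ((I l).smul_mem z hkY) hzk
    have hcl := K.Kt_fix hl hc
    have hck : c • k = k + z⁻¹ • l := by
      have : c • (z⁻¹ • (z • k)) = z⁻¹ • (z • k + l) := by rw [G.lin, hcu]
      rw [smul_smul z⁻¹, inv_mul_cancel₀ hz, one_smul, smul_add, smul_smul z⁻¹, inv_mul_cancel₀ hz, one_smul] at this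
      exact this
    have hca := K.Kt_A hl hc ha₀
    -- `c m₁ = m₁ + z⁻¹ e` mod `Y`
    obtain ⟨s, hs⟩ : ∃ s, s = c • m₁ + m₁ + z⁻¹ • e := ⟨_, rfl⟩
    have hsY : s ∈ I l := by
      have h1 : a₀ • s = s := by
        have h2 : a₀ • m₁ = m₁ + k := by rw [hk', add_comm (a₀ • m₁), tl]
        have h3 : a₀ • c • m₁ = c • m₁ + k + z⁻¹ • l := by
          rw [← mul_smul, ← hca, mul_smul, h2, smul_add, hck, add_assoc]
        rw [hs, smul_add, smul_add, h2, h3, G.lin, he', smul_add]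
        calc c • m₁ + k + z⁻¹ • l + (m₁ + k) + (z⁻¹ • e + z⁻¹ • l)
            = c • m₁ + m₁ + z⁻¹ • e + (k + k) + (z⁻¹ • l + z⁻¹ • l) := by abel
          _ = _ := by rw [two, two, add_zero, add_zero]
      exact G.fix_mem hl hk ha₀ ha₀1 h1
    obtain ⟨y₁, hy₁⟩ : ∃ y₁, y₁ = c • e + e := ⟨_, rfl⟩
    have hy₁Y : y₁ ∈ I l := hy₁ ▸ K.Kt_E hl hc he
    have hce : c • e = e + y₁ := by rw [hy₁, add_comm (c • e), tl]
    have hcm : c • m₁ = m₁ + z⁻¹ • e + s := by
      rw [hs]
      calc c • m₁ = c • m₁ + (m₁ + m₁) + (z⁻¹ • e + z⁻¹ • e) := by rw [two, two, add_zero, add_zero]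
        _ = _ := by abel
    obtain ⟨r', hr'⟩ : ∃ r', r' = c * r * c⁻¹ := ⟨_, rfl⟩
    have hr'A : r' ∈ K.AY l := hr' ▸ K.AY_conj hl hcl hr
    have hT : ∀ x : M, r' • (c • x) + c • x = c • (r • x + x) := by
      intro x
      rw [hr', mul_smul, inv_smul_smul, mul_smul, ← smul_add]
    -- `T_{r'} e`
    have h1 : r' • e + e = z • k + l := by
      have h2 := hT e
      rw [hce, smul_add, hr'A.1 y₁ hy₁Y, hre, hcu] at h2
      rw [← h2]
      calc r' • e + e = r' • e + e + (y₁ + y₁) := by rw [two, add_zero]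
        _ = _ := by abel
    have h2 : r' • m₁ + m₁ = y • l + w • k + (w * z⁻¹) • l + (k + z⁻¹ • l) := by
      have h3 := hT m₁
      have h3' : c • (y • l + w • k) = y • l + w • k + (w * z⁻¹) • l := by
        rw [smul_add, G.lin, G.lin, hcl, hck, smul_add, smul_smul]
        abel
      rw [hcm, smul_add, smul_add, hr'A.1 s hsY, G.lin, hrm, h3'] at h3
      have h4 : r' • (z⁻¹ • e) = z⁻¹ • e + (k + z⁻¹ • l) := by
        have h5 : r' • e = e + (z • k + l) := by rw [← h1, add_comm (r' • e), tl]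
        rw [G.lin, h5, smul_add, smul_add z⁻¹ (z • k), smul_smul z⁻¹ z, inv_mul_cancel₀ hz, one_smul]
      rw [← G.lin, h4] at h3
      rw [← h3]
      calc r' • m₁ + m₁ = r' • m₁ + m₁ + (z⁻¹ • e + z⁻¹ • e) + (s + s) + ((k + z⁻¹ • l) + (k + z⁻¹ • l)) := by
            rw [two, two, two, add_zero, add_zero, add_zero]
        _ = _ := by abel
    -- `t = r r' = a₀`
    obtain ⟨ht, htT⟩ := hmul hr hr'A
    obtain ⟨ht', htT'⟩ := hmul ha₀A ht
    have h3 : (a₀ * (r * r')) • e + e = 0 := by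
      rw [htT', htT, he', hre, h1]
      calc e + l + e + (z • k + (z • k + l)) = (e + e) + (l + l) + (z • k + z • k) := by abel
        _ = 0 := by simp only [two, add_zero]
    have h4 := hone _ ht' e (hall e heY) heY (G.eq_of_add h3)
    have h5 : (a₀ * (r * r')) • m₁ + m₁ = 0 := by rw [h4, one_smul, two]
    rw [htT', htT, ← hk', hrm, h2] at h5
    have h6 : ((w + 1) * z⁻¹) • l = 0 := by
      rw [← h5]
      calc ((w + 1) * z⁻¹) • l = (w * z⁻¹) • l + z⁻¹ • l := by rw [add_mul, add_smul, one_mul]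
        _ = (w * z⁻¹) • l + z⁻¹ • l + (k + k) + (y • l + y • l) + (w • k + w • k) := by
            rw [two, two, two, add_zero, add_zero, add_zero]
        _ = _ := by abel
    have h7 := (smul_eq_zero.1 h6).resolve_right (G.ne_zero hl)
    have h8 : w + 1 = 0 := (mul_eq_zero.1 h7).resolve_right (inv_ne_zero hz)
    have h9 : w • k = k := by
      have : (w + 1) • k = 0 := by rw [h8, zero_smul]
      rw [add_smul, one_smul] at this
      exact G.eq_of_add this
    exact ⟨y, by rw [hrm, h9]⟩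
  -- the end
  obtain ⟨d, hd0, hd1⟩ : ∃ d : F, d ≠ 0 ∧ d ≠ 1 := by
    by_contra hcon
    push Not at hcon
    have h1 : Nat.card F ≤ Nat.card Bool := by
      classical
      refine Nat.card_le_card_of_injective (fun x : F => decide (x = 0)) fun x y hxy => ?_
      simp only [decide_eq_decide] at hxy
      by_cases hx : x = 0
      · rw [hx, hxy.1 hx]
      · have hy : y ≠ 0 := fun h => hx (hxy.2 h)
        rw [hcon x hx, hcon y hy]
    have h2 : Nat.card Bool = 2 := by rw [Nat.card_eq_fintype_card, Fintype.card_bool]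
    omega
  have hd1' : (1 : F) + d ≠ 0 := by
    intro h
    apply hd1
    have h1 : ((1 : F) + d) • l = 0 := by rw [h, zero_smul]
    rw [add_smul, one_smul] at h1
    have h2 := G.eq_of_add h1
    have h3 : (d - 1) • l = 0 := by rw [sub_smul, one_smul, ← h2, sub_self]
    exact sub_eq_zero.1 ((smul_eq_zero.1 h3).resolve_right (G.ne_zero hl))
  have heL := hall e heY
  obtain ⟨r, hr, hre⟩ := htr e heL heY k hkY
  obtain ⟨s, hs, hse⟩ := htr e heL heY (d • k) ((I l).smul_mem d hkY)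
  have h1 : r • e + e = (1 : F) • k := by
    rw [hre, one_smul, add_comm e k, add_assoc, two, add_zero]
  have h2 : s • e + e = d • k := by
    rw [hse, add_comm e (d • k), add_assoc, two, add_zero]
  obtain ⟨hrs, hrsT⟩ := hmul hr hs
  have h3 : (r * s) • e + e = ((1 : F) + d) • k := by rw [hrsT, h1, h2, add_smul]
  obtain ⟨y₁, h4⟩ := main 1 one_ne_zero r hr h1
  obtain ⟨y₂, h5⟩ := main d hd0 s hs h2
  obtain ⟨y₃, h6⟩ := main _ hd1' _ hrs h3
  rw [hrsT, h4, h5] at h6
  apply hkl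
  have h7 : k = (y₁ + y₂ + y₃) • l := by
    rw [add_smul, add_smul]
    calc k = (y₃ • l + k) + y₃ • l := by
          rw [add_comm (y₃ • l) k, add_assoc, two, add_zero]
      _ = (y₁ • l + k + (y₂ • l + k)) + y₃ • l := by rw [h6]
      _ = y₁ • l + y₂ • l + y₃ • l + (k + k) := by abel
      _ = _ := by rw [two, add_zero]
  rw [h7]
  exact Submodule.smul_mem _ _ (Submodule.mem_span_singleton_self l)

end plane

end GenK

end Cfsg.Agent.Omega.NO3S.OneQ.TIq
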