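import Cfsg.Agent.Omega.NO3S.OneQ.TIq.One

/-!
# NO-3S, `OneSz`, the TI world, `D_x = I`: the end (bb OMEGA #19637 (E), #19856 (4))

* `GenK.e2` : `Ibar_l ∩ Ibar_m = 0` for different points
* `GenK.two_fix` : a 2-element which fixes `l` and `m ∉ Ebar_l` is trivial
* `GenK.card_Kt` : `|K~_l| = q ^ 2`
* `GenK.orbit` : `K~_l` is transitive on the points `≠ F l`
* `GenK.fin` : the summary
-/

set_option autoImplicit false
set_option linter.unusedSimpArgs false
set_option linter.unusedSectionVars false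

namespace Cfsg.Agent.Omega.NO3S.OneQ.TIq

open Module

namespace GenK

variable {F M H : Type*} [Field F] [AddCommGroup M] [Module F M] [Group H] [DistribMulAction H M] {L : Set M}
    {A : M → Subgroup H} {I : M → Submodule F M} {al : M → M → H} {Kt : M → Subgroup H}

section fin

variable [Finite F] [Finite M] [Finite H]

/-- a vector of `L` in `Ibar_l` is in `F l` -/
theorem np_I (K : GenK F L A I al Kt) (hq : 3 ≤ Nat.card F) {l m : M} (hl : l ∈ L) (hm : m ∈ L)
    (hlm : NP F l m) : m ∉ I l := by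
  intro hI
  obtain ⟨c, hc⟩ := K.no_plane hq hl hm hI
  exact hlm c hc

/-- different points are opposite -/
theorem opp' (K : GenK F L A I al Kt) (hq : 3 ≤ Nat.card F) {l m : M} (hl : l ∈ L) (hm : m ∈ L)
    (hlm : NP F l m) {b : H} (hb : b ∈ A l) (hbm : b • m = m) : b = 1 := by
  by_contra hb1
  exact K.np_I hq hl hm hlm (K.toGen.fix_mem hl (K.k_one hl) hb hb1 hbm)

/-- (E2) -/
theorem e2 (K : GenK F L A I al Kt) (hq : 3 ≤ Nat.card F) {l m : M} (hl : l ∈ L) (hm : m ∈ L)
    (hlm : NP F l m) : I l ⊓ I m = ⊥ := by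
  have G := K.toGen
  have two := G.two
  have tl := G.two_left
  have hml := G.np_symm hl hm hlm
  have hmI := K.np_I hq hl hm hlm
  have hlI := K.np_I hq hm hl hml
  rw [eq_bot_iff]
  intro u hu
  rw [Submodule.mem_bot]
  by_contra hu0
  have hE' : al m l = 1 := K.opp' hq hm hl hml (G.al_mem hm l) (G.alpha hm hl hml hu.2 hu.1 hu0)
  have hmu : NP F m u := by
    rintro c rfl
    have hc : c ≠ 0 := by
      rintro rfl
      exact hu0 (zero_smul _ _)
    exact hmI (((I l).smul_mem_iff hc).1 hu.1)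
  have hlu : NP F l u := by
    rintro c rfl
    have hc : c ≠ 0 := by
      rintro rfl
      exact hu0 (zero_smul _ _)
    exact hlI (((I m).smul_mem_iff hc).1 hu.2)
  obtain ⟨t, ht, htu⟩ := K.Kt_hom hm hu.2 hmu
  obtain ⟨x, y, hxy⟩ := Gen.span_two (G.fr_two hm (K.k_one hm)) (G.ne_zero hm) (G.self hm) hu.2
    (Gen.notMem_span m u hmu) (K.Kt_E hm ht hE')
  obtain ⟨a, ha, hal⟩ := G.d3_move hm (G.pex hm hlI) hE' x
  have htl : t • l = l + (x • m + y • u) := by rw [← hxy, add_comm (t • l), tl]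
  have hatl : (a * t) • l = l + y • u := by
    rw [mul_smul, htl, smul_add, smul_add, G.lin, G.lin, hal, G.A_fix hm ha, G.fix hm ha hu.2]
    calc l + x • m + (x • m + y • u) = l + y • u + (x • m + x • m) := by abel
      _ = _ := by rw [two, add_zero]
  have hatu : (a * t) • u = u + m := by
    rw [mul_smul, htu, smul_add, G.A_fix hm ha, G.fix hm ha hu.2]
  by_cases hy : y = 0
  · rw [hy, zero_smul, add_zero] at hatl
    have h1 := G.I_conj' hl hu.1 hatl
    rw [hatu] at h1
    have h2 := add_mem hu.1 h1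
    rw [tl] at h2
    exact hmI h2
  · have h1 := G.smul (a * t) hl
    rw [hatl] at h1
    obtain ⟨c, hc⟩ := K.no_plane hq hl h1 (add_mem (G.self hl) ((I l).smul_mem y hu.1))
    apply hlu (y⁻¹ * (c + 1))
    have h2 : y • u = (c + 1) • l := by
      rw [add_smul, one_smul, ← hc, add_comm l (y • u), add_assoc, two, add_zero]
    rw [mul_smul, ← h2, smul_smul, inv_mul_cancel₀ hy, one_smul]

/-- `c ^ (2 ^ n) = 1` ⟹ `c = 1` -/
theorem pow_one' (K : GenK F L A I al Kt) {l : M} (hl : l ∈ L) {c : F} (n : ℕ) (h : c ^ 2 ^ n = 1) : c = 1 := by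
  induction n with
  | zero => rwa [pow_zero, pow_one] at h
  | succ n ih =>
    apply ih
    apply K.toGen.sq_one hl
    rw [← sq, ← pow_mul, ← pow_succ, h, one_smul]

theorem smul_pow' (K : GenK F L A I al Kt) {m : M} {t : H} {c : F} (h : t • m = c • m) (n : ℕ) :
    t ^ n • m = c ^ n • m := by
  induction n with
  | zero => rw [pow_zero, pow_zero, one_smul, one_smul]
  | succ n ih =>
    rw [pow_succ, mul_smul, h, K.lin, ih, smul_smul, pow_succ, mul_comm]

/-- a 2-element which fixes the point fixes the vector -/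
theorem fix_vec (K : GenK F L A I al Kt) {m : M} (hm : m ∈ L) {t : H} {n : ℕ} (ht : t ^ 2 ^ n = 1) {c : F}
    (h : t • m = c • m) : t • m = m := by
  have h1 := K.smul_pow' h (2 ^ n)
  rw [ht, one_smul] at h1
  have h2 : (c ^ 2 ^ n - 1) • m = 0 := by rw [sub_smul, one_smul, ← h1, sub_self]
  have h3 := sub_eq_zero.1 ((smul_eq_zero.1 h2).resolve_right (K.toGen.ne_zero hm))
  rw [h, K.pow_one' hm n h3, one_smul]

/-- a 2-element which fixes `l` centralises `A_l` -/
theorem two_A (K : GenK F L A I al Kt) {l : M} (hl : l ∈ L) {t : H} {n : ℕ} (ht : t ^ 2 ^ n = 1)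
    (htl : t • l = l) {a : H} (ha : a ∈ A l) : t * a = a * t := by
  have G := K.toGen
  have two := G.two
  have tl := G.two_left
  have hk := K.k_one hl
  obtain ⟨x, rfl⟩ := G.al_surj hl ha
  by_cases hxE : al l x = 1
  · rw [hxE, mul_one, one_mul]
  have htE : ∀ e, al l e = 1 → al l (t • e) = 1 := by
    intro e he
    rw [G.al_conj hl htl, he]
    group
  have h1 := G.E_max hl hk (N := G.E hl ⊔ Submodule.span F {x}) le_sup_left
    ((le_sup_right : _ ≤ G.E hl ⊔ Submodule.span F {x}) (Submodule.mem_span_singleton_self _)) hxE (t • x)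
  obtain ⟨e, he, z, hz, h2⟩ := Submodule.mem_sup.1 h1
  obtain ⟨c, rfl⟩ := Submodule.mem_span_singleton.1 hz
  have hpow : ∀ j : ℕ, t ^ j • x - c ^ j • x ∈ G.E hl := by
    intro j
    induction j with
    | zero => rw [pow_zero, pow_zero, one_smul, one_smul, sub_self]; exact zero_mem _
    | succ j ih =>
      have h3 : t ^ (j + 1) • x - c ^ (j + 1) • x = t • (t ^ j • x - c ^ j • x) + c ^ j • e := by
        rw [pow_succ', mul_smul, smul_sub, G.lin, ← h2, pow_succ, smul_add, mul_smul]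
        abel
      rw [h3]
      exact add_mem (htE _ ih) (Submodule.smul_mem _ _ he)
  have h3 := hpow (2 ^ n)
  rw [ht, one_smul] at h3
  have h4 : c ^ 2 ^ n = 1 := by
    by_contra hne
    apply hxE
    have h5 : (1 - c ^ 2 ^ n) • x ∈ G.E hl := by rw [sub_smul, one_smul]; exact h3
    exact ((G.E hl).smul_mem_iff (sub_ne_zero.2 (Ne.symm hne))).1 h5
  have h5 := K.pow_one' hl n h4
  rw [h5, one_smul] at h2
  have h6 := G.al_conj hl htl x
  have he' : al l e = 1 := he
  rw [← h2, G.al_add hl, he', one_mul] at h6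
  calc t * al l x = t * al l x * t⁻¹ * t := by group
    _ = al l x * t := by rw [← h6]

/-- a 2-element which fixes `l` and `m ∉ Ebar_l` is trivial -/
theorem two_fix (K : GenK F L A I al Kt) (hq : 3 ≤ Nat.card F) {l m : M} (hl : l ∈ L) (hm : m ∈ L)
    (hlm : al l m ≠ 1) {t : H} {n : ℕ} (ht : t ^ 2 ^ n = 1) (htl : t • l = l) (htm : t • m = m) : t = 1 := by
  have G := K.toGen
  have two := G.two
  have tl := G.two_left
  have hk := K.k_one hl
  have hNP := G.np_of_E hl hlm
  have hA : ∀ a ∈ A l, t * a = a * t := fun a ha => K.two_A hl ht htl ha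
  obtain ⟨a, ha, ha1⟩ := G.ne hl
  have hw := G.nfix hl hk hlm ha ha1
  have htw : t • (a • m + m) = a • m + m := by
    rw [smul_add, ← mul_smul, hA a ha, mul_smul, htm]
  have hI : ∀ u ∈ I l, t • u = u := by
    intro u hu
    obtain ⟨c, d, rfl⟩ := Gen.span_two (G.fr_two hl hk) (G.ne_zero hl) (G.self hl) (G.comm hl ha m) hw hu
    rw [smul_add, G.lin, G.lin, htl, htw]
  have hx : ∀ x : M, t • x + x ∈ I l := by
    intro x
    refine G.fixI hl fun b hb => ?_
    have h1 := hI _ (G.comm hl hb x)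
    calc b • (t • x + x) = t • (b • x) + b • x := by rw [smul_add, ← mul_smul, ← hA b hb, mul_smul]
      _ = t • ((b • x + x) + x) + b • x := by rw [add_assoc, two, add_zero]
      _ = t • x + x + (b • x + b • x) := by rw [smul_add, h1]; abel
      _ = t • x + x := by rw [two, add_zero]
  have hI' : ∀ u ∈ I m, t • u = u := by
    intro u hu
    have h1 : t • u + u ∈ I l ⊓ I m := ⟨hx u, add_mem (G.I_conj' hm hu htm) hu⟩
    rw [K.e2 hq hl hm hNP] at h1
    exact G.eq_of_add h1
  have hsup : I l ⊔ I m = ⊤ := by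
    apply Submodule.eq_top_of_finrank_eq
    have h1 := Submodule.finrank_sup_add_finrank_inf_eq (I l) (I m)
    rw [K.e2 hq hl hm hNP, finrank_bot, G.fr_two hl hk, G.fr_two hm (K.k_one hm)] at h1
    rw [G.fr_four hl hk]
    omega
  apply K.faith
  intro x
  have hx' : x ∈ I l ⊔ I m := by rw [hsup]; trivial
  obtain ⟨y, hy, y', hy', rfl⟩ := Submodule.mem_sup.1 hx'
  rw [smul_add, hI y hy, hI' y' hy']

/-- a family of vectors in different points has at most `q ^ 2 + 1` elements -/
theorem spread (K : GenK F L A I al Kt) (hq : 3 ≤ Nat.card F) {J : Type*} [Finite J] (s : J → M)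
    (hs : ∀ j, s j ∈ L) (hne : ∀ i j, i ≠ j → NP F (s i) (s j)) : Nat.card J ≤ Nat.card F ^ 2 + 1 := by
  classical
  have G := K.toGen
  rcases isEmpty_or_nonempty J with hJ | ⟨⟨j₀⟩⟩
  · simp
  have hcI : ∀ j, Nat.card (I (s j)) = Nat.card F ^ 2 := fun j => by
    rw [Module.natCard_eq_pow_finrank (K := F) (V := I (s j)), G.fr_two (hs j) (K.k_one (hs j))]
  have hcM : Nat.card M = Nat.card F ^ 4 := by
    rw [Module.natCard_eq_pow_finrank (K := F) (V := M), G.fr_four (hs j₀) (K.k_one (hs j₀))]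
  have hsub : ∀ j, Nat.card {u : I (s j) // u ≠ 0} = Nat.card F ^ 2 - 1 := by
    intro j
    have : Fintype (I (s j)) := Fintype.ofFinite _
    rw [← hcI j, Nat.card_eq_fintype_card, Nat.card_eq_fintype_card, Fintype.card_subtype_compl,
      Fintype.card_subtype_eq]
  have hsubM : Nat.card {u : M // u ≠ 0} = Nat.card F ^ 4 - 1 := by
    have : Fintype M := Fintype.ofFinite _
    rw [← hcM, Nat.card_eq_fintype_card, Nat.card_eq_fintype_card, Fintype.card_subtype_compl,
      Fintype.card_subtype_eq]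
  let f : (Σ j : J, {u : I (s j) // u ≠ 0}) → {u : M // u ≠ 0} := fun p =>
    ⟨(p.2.1 : M), fun h => p.2.2 (Subtype.ext h)⟩
  have hf : Function.Injective f := by
    rintro ⟨i, ⟨u, hu⟩, hu0⟩ ⟨j, ⟨v, hv⟩, hv0⟩ h
    have h1 : u = v := congrArg Subtype.val h
    subst h1
    have hij : i = j := by
      by_contra hij
      have h2 : u ∈ I (s i) ⊓ I (s j) := ⟨hu, hv⟩
      rw [K.e2 hq (hs i) (hs j) (hne i j hij)] at h2
      exact hu0 (Subtype.ext h2)
    subst hij
    rfl
  have h1 := Nat.card_le_card_of_injective f hf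
  have : Fintype J := Fintype.ofFinite _
  rw [hsubM, Nat.card_sigma] at h1
  simp only [hsub, Finset.sum_const, Finset.card_univ, smul_eq_mul] at h1
  rw [Nat.card_eq_fintype_card]
  obtain ⟨q, hq'⟩ : ∃ q, q = Nat.card F ^ 2 := ⟨_, rfl⟩
  have h4 : Nat.card F ^ 4 = q * q := by rw [hq']; ring
  rw [← hq', h4] at h1
  rw [← hq']
  have hq9 : 9 ≤ q := by rw [hq']; nlinarith
  have h5 : q * q - 1 = (q + 1) * (q - 1) := by
    obtain ⟨k, rfl⟩ : ∃ k, q = k + 1 := ⟨q - 1, by omega⟩
    have : (k + 1) * (k + 1) = (k + 1 + 1) * k + 1 := by ring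
    rw [Nat.add_sub_cancel, this, Nat.add_sub_cancel]
  rw [h5] at h1
  exact Nat.le_of_mul_le_mul_right h1 (by omega)

theorem t_pow (K : GenK F L A I al Kt) {l : M} (hl : l ∈ L) {t : H} (ht : t ∈ Kt l) : ∃ n : ℕ, t ^ 2 ^ n = 1 := by
  obtain ⟨n, hn⟩ := K.Kt_two hl ⟨t, ht⟩
  exact ⟨n, congrArg Subtype.val hn⟩

/-- `K~_l` is semiregular on the points outside `Ebar_l` -/
theorem semireg (K : GenK F L A I al Kt) (hq : 3 ≤ Nat.card F) {l m : M} (hl : l ∈ L) (hm : m ∈ L)
    (hlm : al l m ≠ 1) {t : H} (ht : t ∈ Kt l) {c : F} (h : t • m = c • m) : t = 1 := by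
  obtain ⟨n, hn⟩ := K.t_pow hl ht
  exact K.two_fix hq hl hm hlm hn (K.Kt_fix hl ht) (K.fix_vec hm hn h)

/-- `q ^ 2 ≤ |K~_l|` -/
theorem card_Kt_ge (K : GenK F L A I al Kt) {l : M} (hl : l ∈ L) : Nat.card F ^ 2 ≤ Nat.card (Kt l) := by
  classical
  have G := K.toGen
  have two := G.two
  obtain ⟨m, hm, hlm⟩ := G.exists_opp hl
  obtain ⟨a, ha, ha1⟩ := G.ne hl
  have hw := G.nfix hl (K.k_one hl) hlm ha ha1
  obtain ⟨u, hu⟩ : ∃ u, u = a • m + m := ⟨_, rfl⟩
  have huI : u ∈ I l := hu ▸ G.comm hl ha m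
  rw [← hu] at hw
  have hT : ∀ c : F, ∃ t ∈ Kt l, t • u = u + c • l := by
    intro c
    by_cases hc : c = 0
    · exact ⟨1, one_mem _, by rw [hc, zero_smul, add_zero, one_smul]⟩
    · have h1 : NP F l (c⁻¹ • u) := by
        intro d hd
        apply hw
        have : u = c • c⁻¹ • u := by rw [smul_smul, mul_inv_cancel₀ hc, one_smul]
        rw [this, hd]
        exact Submodule.smul_mem _ _ (Submodule.smul_mem _ _ (Submodule.mem_span_singleton_self l))
      obtain ⟨t, ht, h2⟩ := K.Kt_hom hl ((I l).smul_mem c⁻¹ huI) h1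
      refine ⟨t, ht, ?_⟩
      have h3 : c • t • (c⁻¹ • u) = c • (c⁻¹ • u + l) := by rw [h2]
      rwa [← G.lin, smul_smul, mul_inv_cancel₀ hc, one_smul, smul_add, smul_smul, mul_inv_cancel₀ hc, one_smul] at h3
  choose T hT hTu using hT
  have h1 : Nat.card (F × A l) ≤ Nat.card (Kt l) := by
    refine Nat.card_le_card_of_injective
      (fun p : F × A l => (⟨T p.1 * p.2, mul_mem (hT p.1) (K.A_le_Kt hl p.2.2)⟩ : Kt l)) ?_
    rintro ⟨c, b⟩ ⟨c', b'⟩ h
    have h2 : T c * b = T c' * b' := congrArg Subtype.val h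
    have h3 : (T c * b) • u = (T c' * b') • u := by rw [h2]
    rw [mul_smul, mul_smul, G.fix hl b.2 huI, G.fix hl b'.2 huI, hTu, hTu] at h3
    have h4 := add_left_cancel h3
    have h5 : (c - c') • l = 0 := by rw [sub_smul, h4, sub_self]
    have h6 := sub_eq_zero.1 ((smul_eq_zero.1 h5).resolve_right (G.ne_zero hl))
    subst h6
    rw [Prod.mk.injEq]
    exact ⟨rfl, Subtype.ext (mul_left_cancel h2)⟩
  rwa [Nat.card_prod, G.card_A_one hl (K.k_one hl), ← sq] at h1

/-- `|K~_l| = q ^ 2` -/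
theorem card_Kt (K : GenK F L A I al Kt) (hq : 3 ≤ Nat.card F) {l : M} (hl : l ∈ L) :
    Nat.card (Kt l) = Nat.card F ^ 2 := by
  classical
  have G := K.toGen
  refine le_antisymm ?_ (K.card_Kt_ge hl)
  obtain ⟨m, hm, hlm⟩ := G.exists_opp hl
  have hNP := G.np_of_E hl hlm
  let s : Option (Kt l) → M := fun o => o.elim l fun t => (t : H) • m
  have h1 := K.spread hq (J := Option (Kt l)) s
    (by rintro (_ | t); exacts [hl, G.smul _ hm])
    (by
      have h2 : ∀ t : Kt l, NP F l ((t : H) • m) := by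
        intro t c hc
        apply hNP c
        have : m = (t : H)⁻¹ • (t : H) • m := by rw [inv_smul_smul]
        rw [this, hc, G.lin]
        congr 1
        rw [inv_smul_eq_iff]
        exact (K.Kt_fix hl t.2).symm
      rintro (_ | t) (_ | t') hne
      · exact absurd rfl hne
      · exact h2 t'
      · exact G.np_symm hl (G.smul _ hm) (h2 t)
      · intro c hc
        change (t' : H) • m = c • (t : H) • m at hc
        apply hne
        congr 1
        have h3 : ((t : H)⁻¹ * t') • m = c • m := by rw [mul_smul, hc, G.lin, inv_smul_smul]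
        have h4 := K.semireg hq hl hm hlm (mul_mem (inv_mem t.2) t'.2) h3
        exact Subtype.ext (inv_mul_eq_one.1 h4))
  rw [Finite.card_option] at h1
  omega

/-- `K~_l` is transitive on the points `≠ F l` -/
theorem orbit (K : GenK F L A I al Kt) (hq : 3 ≤ Nat.card F) {l m m' : M} (hl : l ∈ L) (hm : m ∈ L)
    (hlm : al l m ≠ 1) (hm' : m' ∈ L) (hlm' : NP F l m') : ∃ t ∈ Kt l, ∃ c : F, m' = c • t • m := by
  classical
  have G := K.toGen
  by_contra hcon
  push Not at hcon
  have hNP := G.np_of_E hl hlm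
  let s : Option (Option (Kt l)) → M := fun o => o.elim m' fun o => o.elim l fun t => (t : H) • m
  have h1 := K.spread hq (J := Option (Option (Kt l))) s
    (by rintro (_ | _ | t); exacts [hm', hl, G.smul _ hm])
    (by
      have h2 : ∀ t : Kt l, NP F l ((t : H) • m) := by
        intro t c hc
        apply hNP c
        have : m = (t : H)⁻¹ • (t : H) • m := by rw [inv_smul_smul]
        rw [this, hc, G.lin]
        congr 1
        rw [inv_smul_eq_iff]
        exact (K.Kt_fix hl t.2).symm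
      have h5 : ∀ t : Kt l, NP F ((t : H) • m) m' := fun t c => hcon t t.2 c
      rintro (_ | _ | t) (_ | _ | t') hne
      · exact absurd rfl hne
      · exact G.np_symm hl hm' hlm'
      · exact G.np_symm (G.smul _ hm) hm' (h5 t')
      · exact hlm'
      · exact absurd rfl hne
      · exact h2 t'
      · exact h5 t
      · exact G.np_symm hl (G.smul _ hm) (h2 t)
      · intro c hc
        change (t' : H) • m = c • (t : H) • m at hc
        apply hne
        congr 2
        have h3 : ((t : H)⁻¹ * t') • m = c • m := by rw [mul_smul, hc, G.lin, inv_smul_smul]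
        have h4 := K.semireg hq hl hm hlm (mul_mem (inv_mem t.2) t'.2) h3
        exact Subtype.ext (inv_mul_eq_one.1 h4))
  rw [Finite.card_option, Finite.card_option, K.card_Kt hq hl] at h1
  omega

/-- no other point is in `Ebar_l` -/
theorem np_E (K : GenK F L A I al Kt) (hq : 3 ≤ Nat.card F) {l m : M} (hl : l ∈ L) (hm : m ∈ L)
    (hlm : NP F l m) : al l m ≠ 1 := by
  have G := K.toGen
  obtain ⟨m₀, hm₀, h0⟩ := G.exists_opp hl
  obtain ⟨t, ht, c, rfl⟩ := K.orbit hq hl hm₀ h0 hm hlm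
  intro h1
  have hc : c ≠ 0 := by
    rintro rfl
    exact G.ne_zero hm (zero_smul _ _)
  have h2 := G.al_sm_one hl c⁻¹ h1
  rw [smul_smul, inv_mul_cancel₀ hc, one_smul, G.al_conj hl (K.Kt_fix hl ht)] at h2
  apply h0
  calc al l m₀ = t⁻¹ * (t * al l m₀ * t⁻¹) * t := by group
    _ = 1 := by rw [h2]; group

/-- THEOREM Z, the pure part -/
theorem fin (K : GenK F L A I al Kt) (hq : 3 ≤ Nat.card F) {l : M} (hl : l ∈ L) :
    finrank F M = 4 ∧ finrank F (I l) = 2 ∧ Nat.card (A l) = Nat.card F ∧ Nat.card (Kt l) = Nat.card F ^ 2 ∧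
      (∀ m ∈ L, m ∈ I l → ∃ c : F, m = c • l) ∧
      (∀ m ∈ L, NP F l m → I l ⊓ I m = ⊥) ∧
      (∀ m ∈ L, NP F l m → ∀ (t : H) (n : ℕ) (c d : F), t ^ 2 ^ n = 1 → t • l = c • l → t • m = d • m → t = 1) ∧
      (∀ m ∈ L, NP F l m → ∀ m' ∈ L, NP F l m' → ∃ t ∈ Kt l, ∃ c : F, m' = c • t • m) :=
  ⟨K.toGen.fr_four hl (K.k_one hl), K.toGen.fr_two hl (K.k_one hl), K.toGen.card_A_one hl (K.k_one hl),
    K.card_Kt hq hl, fun _ hm h => K.no_plane hq hl hm h, fun _ hm h => K.e2 hq hl hm h,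
    fun _ hm h _ _ _ _ ht h1 h2 => K.two_fix hq hl hm (K.np_E hq hl hm h) ht (K.fix_vec hl ht h1) (K.fix_vec hm ht h2),
    fun _ hm h _ hm' h' => K.orbit hq hl hm (K.np_E hq hl hm h) hm' h'⟩

end fin

end GenK

end Cfsg.Agent.Omega.NO3S.OneQ.TIq
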