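import Cfsg.Agent.Omega.NO3S.OneQ.TIq.Phi

/-!
# NO-3S, `OneSz`, the TI world, `D_x = I`: partial pairs (bb OMEGA #19856 (1))

* `Gen.step`, `Gen.key` : `[[b, a'], a] = p(a, a') b` in the `F`-structure of `A l`
* `Gen.exists_one`, `Gen.b3` : `[l, a'] ∈ F m + C_1`, `[m, a] ∈ F l + C_1`
* `Gen.c3` : `n ∈ A l`, `n • m = m`, `[M, n] ≤ F l + C_1` ⟹ `n = 1`
* `Gen.d3` : a partial pair has `m ∈ Ebar_l`
-/

set_option autoImplicit false
set_option linter.unusedSimpArgs false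
set_option linter.unusedSectionVars false

namespace Cfsg.Agent.Omega.NO3S.OneQ.TIq

namespace Gen

variable {F M H : Type*} [Field F] [AddCommGroup M] [Module F M] [Group H] [DistribMulAction H M] {L : Set M}
    {A : M → Subgroup H} {I : M → Submodule F M} {al : M → M → H}

section

variable (G : Gen F L A I al)
include G

/-- two elements of `A l` which agree on `Ebar_l` are equal -/
theorem A_ext {l : M} {a b : H} (hl : l ∈ L) (ha : a ∈ A l) (hb : b ∈ A l)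
    (h : ∀ e, al l e = 1 → a • e = b • e) : a = b := by
  by_contra hne
  have h1 : a * b ≠ 1 := by
    intro h1
    apply hne
    have := inv_eq_of_mul_eq_one_right h1
    rw [G.inv hl ha] at this
    exact this
  obtain ⟨e, he, h2⟩ := G.phi hl (mul_mem ha hb) h1
  rw [mul_smul, ← h e he, ← mul_smul, G.sq hl ha, one_smul] at h2
  exact G.ne_zero hl (left_eq_add.1 h2)

theorem smul_notMem {N : Submodule F M} {l : M} (hl : l ∉ N) {c : F} (h : c • l ∈ N) : c = 0 := by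
  by_contra hc
  exact hl ((N.smul_mem_iff hc).1 h)

/-- the basic step -/
theorem step {l m e : M} {a a' b β : H} {c₀ : F} (hl : l ∈ L) (hm : m ∈ L) (ha : a ∈ A l) (ha' : a' ∈ A m)
    (hb : b ∈ A l) (hbm : b • m = m) (hbe : b • e + e = c₀ • l) (hβ : β = b * (a' * b * a')) :
    ∃ c ∈ I l ⊓ I m, (β * (a * β * a)) • e + e = c₀ • (a • (a' • l + l) + (a' • l + l)) + c := by
  have two := G.two
  have tl := G.two_left
  have c1 := G.cc hl hm hb hbm ha' e
  rw [← hβ, hbe, G.lin, ← smul_add] at c1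
  obtain ⟨hβm, hβl⟩ := G.bracket hm hl ha' hb hbm
  rw [← hβ] at hβm hβl
  have c2 := G.cc hm hl hβm hβl ha e
  obtain ⟨r, hr⟩ : ∃ r, r = a' • l + l := ⟨_, rfl⟩
  rw [← hr] at c1 ⊢
  obtain ⟨c, hc⟩ : ∃ c, c = β • e + e + c₀ • r := ⟨_, rfl⟩
  rw [← hc] at c1
  have e1 : β • e + e = c₀ • r + c := by
    rw [hc]; simp only [add_comm, add_left_comm, two, tl, add_zero]
  have e2 : a • c = c := G.fix hl ha c1.1
  rw [e1, smul_add, e2, G.lin] at c2
  rw [inf_comm] at c2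
  refine ⟨_, c2, ?_⟩
  rw [smul_add]
  simp only [add_assoc, add_comm, add_left_comm, two, tl, add_zero]

/-- `[[b, a'], a] = p(a, a') b` in the `F`-structure of `A l` -/
theorem key {l m : M} {a a' b₀ : H} (hl : l ∈ L) (hm : m ∈ L) (ha' : a' ∈ A m) (hal : a' • l ≠ l)
    (hb₀ : b₀ ∈ A l) (hb1 : b₀ ≠ 1) (hbm : b₀ • m = m) (ha : a ∈ A l) :
    ∃ p : F, (∃ c ∈ I l ⊓ I m, a • (a' • l + l) + (a' • l + l) = p • l + c) ∧
      ∀ x β, al l x • m = m → β = al l x * (a' * al l x * a') → β * (a * β * a) = al l (p • x) := by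
  have two := G.two
  have tl := G.two_left
  have hlm : l ∉ I m := fun h => hal (G.fix hm ha' h)
  obtain ⟨e, he, he'⟩ := G.phi hl hb₀ hb1
  have hbe : b₀ • e + e = (1 : F) • l := by
    rw [he', one_smul]; simp only [add_comm, add_left_comm, two, tl, add_zero]
  obtain ⟨c, hc, h1⟩ := G.step hl hm ha ha' hb₀ hbm hbe rfl
  obtain ⟨hβm, hβl⟩ := G.bracket hm hl ha' hb₀ hbm
  obtain ⟨hβ2, -⟩ := G.bracket hl hm ha hβm hβl
  obtain ⟨p, hp⟩ := (G.al_ker hl e).1 he _ hβ2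
  obtain ⟨r, hr⟩ : ∃ r, r = a' • l + l := ⟨_, rfl⟩
  rw [← hr] at h1 ⊢
  have h2 : a • r + r = p • l + c := by
    rw [hp, one_smul] at h1
    have : p • l = a • r + r + c := by
      rw [← h1]; simp only [add_assoc, add_comm, add_left_comm, two, tl, add_zero]
    rw [this]; simp only [add_assoc, add_comm, add_left_comm, two, tl, add_zero]
  refine ⟨p, ⟨c, hc, h2⟩, fun x β hx hβ => ?_⟩
  obtain ⟨hxm, hxl⟩ := G.bracket hm hl ha' (G.al_mem hl x) hx
  rw [← hβ] at hxm hxl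
  obtain ⟨hx2, -⟩ := G.bracket hl hm ha hxm hxl
  refine G.A_ext hl hx2 (G.al_mem hl _) fun f hf => ?_
  obtain ⟨c₀, h3⟩ := G.phi_ex hl hf x
  obtain ⟨c', hc', h4⟩ := G.step hl hm ha ha' (G.al_mem hl x) hx h3 hβ
  rw [← hr, h2] at h4
  obtain ⟨c₂, h5⟩ := (G.al_ker hl f).1 hf _ hx2
  have h6 := G.phl hl p f x hf
  rw [h3] at h6
  have h7 : (c₂ - c₀ * p) • l ∈ I m := by
    have : (c₂ - c₀ * p) • l = c₀ • c + c' := by
      rw [h5] at h4
      have h8 : c₂ • l = c₀ • (p • l + c) + c' := by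
        rw [← h4]; simp only [add_assoc, add_comm, add_left_comm, two, tl, add_zero]
      rw [sub_smul, h8, smul_add, smul_smul]
      abel
    rw [this]
    exact add_mem ((I m).smul_mem _ hc.2) hc'.2
  have h8 := sub_eq_zero.1 (G.smul_notMem hlm h7)
  have h9 : al l (p • x) • f = f + (p • c₀ • l) := by
    rw [← h6]; simp only [add_assoc, add_comm, add_left_comm, two, tl, add_zero]
  rw [h5, h9, h8, smul_smul, mul_comm]

/-- there is `a` with `p(a, a') = 1` -/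
theorem exists_one [Finite F] {l m x₀ : M} {a' b₀ : H} (hl : l ∈ L) (hm : m ∈ L) (ha' : a' ∈ A m)
    (hal : a' • l ≠ l) (hb₀ : b₀ ∈ A l) (hb1 : b₀ ≠ 1) (hbm : b₀ • m = m) (hx₀ : al l x₀ • m ≠ m) :
    ∃ a ∈ A l, (∃ c ∈ I l ⊓ I m, a • (a' • l + l) + (a' • l + l) = l + c) ∧
      ∀ b β, b ∈ A l → b • m = m → β = b * (a' * b * a') → β * (a * β * a) = b := by
  classical
  let P : F → F := fun c => (G.key hl hm ha' hal hb₀ hb1 hbm (G.al_mem hl (c • x₀))).choose
  have hP := fun c : F => (G.key hl hm ha' hal hb₀ hb1 hbm (G.al_mem hl (c • x₀))).choose_spec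
  let S : Set F := {c | ∀ x, al l x • m = m → al l (c • x) • m = m}
  have hPS : ∀ c, P c ∈ S := by
    intro c x hx
    have h1 := (hP c).2 x _ hx rfl
    change al l (P c • x) • m = m
    rw [← h1]
    obtain ⟨hxm, hxl⟩ := G.bracket hm hl ha' (G.al_mem hl x) hx
    exact (G.bracket hl hm (G.al_mem hl _) hxm hxl).2
  have hone : (1 : F) ∈ S := fun x hx => by rw [one_smul]; exact hx
  have hadd : ∀ c ∈ S, ∀ d ∈ S, c + d ∈ S := by
    intro c hc d hd x hx
    rw [add_smul, G.al_add hl, mul_smul, hd x hx, hc x hx]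
  have hmul : ∀ c ∈ S, ∀ d ∈ S, c * d ∈ S := by
    intro c hc d hd x hx
    rw [mul_smul]
    exact hc _ (hd x hx)
  have hinv : ∀ c ∈ S, c ≠ 0 → c⁻¹ ∈ S := by
    intro c hc hc0
    let f : S → S := fun s => ⟨c * s, hmul c hc s s.2⟩
    have hf : Function.Injective f := fun s t hst =>
      Subtype.ext (mul_left_cancel₀ hc0 (congrArg Subtype.val hst))
    obtain ⟨s, hs⟩ := (Finite.injective_iff_surjective.1 hf) ⟨1, hone⟩
    have h1 : c * s = 1 := congrArg Subtype.val hs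
    rw [← eq_inv_of_mul_eq_one_right h1]
    exact s.2
  obtain ⟨x₁, hx₁⟩ := G.al_surj hl hb₀
  have hinj : ∀ c ∈ S, ∀ d ∈ S, P c = P d → c = d := by
    intro c hc d hd hcd
    have h1 := (hP c).2 x₁ _ (hx₁ ▸ hbm) rfl
    have h2 := (hP d).2 x₁ _ (hx₁ ▸ hbm) rfl
    have hcd' : (G.key hl hm ha' hal hb₀ hb1 hbm (G.al_mem hl (c • x₀))).choose =
      (G.key hl hm ha' hal hb₀ hb1 hbm (G.al_mem hl (d • x₀))).choose := hcd
    rw [hcd', ← h2, hx₁] at h1
    obtain ⟨β, hβ⟩ : ∃ β, β = b₀ * (a' * b₀ * a') := ⟨_, rfl⟩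
    rw [← hβ] at h1
    have hβ1 : β ≠ 1 := hβ ▸ G.br_ne hl hm ha' hal hb₀ hb1
    have hβm : β ∈ A m := hβ ▸ (G.bracket hm hl ha' hb₀ hbm).1
    obtain ⟨p, hp⟩ : ∃ p, p = al l (c • x₀) := ⟨_, rfl⟩
    obtain ⟨s, hs⟩ : ∃ s, s = al l (d • x₀) := ⟨_, rfl⟩
    have hpA : p ∈ A l := hp ▸ G.al_mem hl _
    have hsA : s ∈ A l := hs ▸ G.al_mem hl _
    rw [← hp, ← hs] at h1
    have h3 : p * β * p = s * β * s := mul_left_cancel h1
    have h4 : s * p * β = β * (s * p) := by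
      calc s * p * β = s * (p * β * p) * p := by
            have := G.sq hl hpA
            calc s * p * β = s * p * β * (p * p) := by rw [this, mul_one]
              _ = _ := by group
        _ = s * (s * β * s) * p := by rw [h3]
        _ = (s * s) * β * (s * p) := by group
        _ = β * (s * p) := by rw [G.sq hl hsA, one_mul]
    have h5 := G.cent hm hβm hβ1 (G.sq hl (mul_mem hsA hpA)) h4
    by_contra hne
    have h6 : d + c ≠ 0 := by
      intro h0
      apply hne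
      have h7 : (d + c) • l = 0 := by rw [h0, zero_smul]
      rw [add_smul] at h7
      have h8 := G.eq_of_add h7
      have h9 : (c - d) • l = 0 := by rw [sub_smul, h8, sub_self]
      exact sub_eq_zero.1 ((smul_eq_zero.1 h9).resolve_right (G.ne_zero hl))
    have h7 : al l ((d + c) • x₀) • m = m := by
      rw [add_smul, G.al_add hl, ← hp, ← hs]; exact h5
    have h8 := hinv _ (hadd d hd c hc) h6 _ h7
    rw [smul_smul, inv_mul_cancel₀ h6, one_smul] at h8
    exact hx₀ h8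
  let f : S → S := fun s => ⟨P s, hPS s⟩
  have hf : Function.Injective f := fun s t hst =>
    Subtype.ext (hinj s s.2 t t.2 (congrArg Subtype.val hst))
  obtain ⟨s, hs⟩ := (Finite.injective_iff_surjective.1 hf) ⟨1, hone⟩
  have h1 : P s = 1 := congrArg Subtype.val hs
  have h2 := hP s
  have h1' : (G.key hl hm ha' hal hb₀ hb1 hbm (G.al_mem hl ((s : F) • x₀))).choose = 1 := h1
  rw [h1'] at h2
  obtain ⟨⟨c, hc, h3⟩, h4⟩ := h2
  refine ⟨al l ((s : F) • x₀), G.al_mem hl _, ⟨c, hc, ?_⟩, fun b β hb hbm' hβ => ?_⟩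
  · rw [h3, one_smul]
  · obtain ⟨x, hx⟩ := G.al_surj hl hb
    have h5 := h4 x β (hx ▸ hbm') (hx ▸ hβ)
    rw [h5, one_smul, hx]

/-- `l ^ (a' a) = m` -/
theorem r_eq [Finite F] [Finite H] {l m : M} {a' b₀ : H} (hl : l ∈ L) (hm : m ∈ L) (hlm : NP F l m)
    (hex : ∃ a ∈ A l, a • m ≠ m) (ha' : a' ∈ A m) (hal : a' • l ≠ l) (hb₀ : b₀ ∈ A l) (hb1 : b₀ ≠ 1)
    (hbm : b₀ • m = m) : ∃ d : F, d ≠ 0 ∧ ∃ c ∈ I l ⊓ I m, a' • l + l = d • m + c := by
  have two := G.two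
  have tl := G.two_left
  obtain ⟨a₀, ha₀, ha₀m⟩ := hex
  obtain ⟨x₀, rfl⟩ := G.al_surj hl ha₀
  obtain ⟨a, ha, ⟨c, hc, h1⟩, h2⟩ := G.exists_one hl hm ha' hal hb₀ hb1 hbm ha₀m
  obtain ⟨β, hβ⟩ : ∃ β, β = b₀ * (a' * b₀ * a') := ⟨_, rfl⟩
  have h3 := h2 b₀ β hb₀ hbm hβ
  have hβ1 : β ≠ 1 := hβ ▸ G.br_ne hl hm ha' hal hb₀ hb1
  obtain ⟨hβm, hβl⟩ := G.bracket hm hl ha' hb₀ hbm
  rw [← hβ] at hβm hβl
  have h4 := G.bb_comm hl hm hlm hb₀ hbm hβm hβl
  have haa := G.sq hl ha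
  have haa' := G.sq hm ha'
  have hbb := G.sq hl hb₀
  have hββ := G.sq hm hβm
  have h5 : a * β * a = a' * b₀ * a' := by
    calc a * β * a = β * β * (a * β * a) := by rw [hββ, one_mul]
      _ = β * (β * (a * β * a)) := by group
      _ = b₀ * β := by rw [h3, h4]
      _ = b₀ * b₀ * (a' * b₀ * a') := by rw [hβ]; group
      _ = a' * b₀ * a' := by rw [hbb, one_mul]
  have h6 : (a * a') * b₀ * (a * a')⁻¹ = β := by
    rw [mul_inv_rev, G.inv hl ha, G.inv hm ha']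
    calc a * a' * b₀ * (a' * a) = a * (a' * b₀ * a') * a := by group
      _ = a * a * β * (a * a) := by rw [← h5]; group
      _ = β := by rw [haa, one_mul, mul_one]
  have h7 := G.A_conj (a * a') hl hb₀
  rw [h6] at h7
  obtain ⟨d, h8⟩ := G.ti (G.smul _ hl) hm h7 hβm hβ1
  obtain ⟨r, hr⟩ : ∃ r, r = a' • l + l := ⟨_, rfl⟩
  rw [← hr] at h1 ⊢
  have e1 : a' • l = l + r := by rw [hr]; simp only [add_comm, add_left_comm, two, tl, add_zero]
  have e2 : a • r = r + (l + c) := by rw [← h1]; simp only [add_comm, add_left_comm, two, tl, add_zero]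
  have e3 : (a * a') • l = r + c := by
    rw [mul_smul, e1, smul_add, e2, G.A_fix hl ha]
    simp only [add_assoc, add_comm, add_left_comm, two, tl, add_zero]
  rw [e3] at h8
  have hd : d ≠ 0 := by
    rintro rfl
    rw [zero_smul] at h8
    exact G.ne_zero hm h8
  refine ⟨d⁻¹, inv_ne_zero hd, c, hc, ?_⟩
  rw [h8, smul_smul, inv_mul_cancel₀ hd, one_smul]
  simp only [add_assoc, add_comm, add_left_comm, two, tl, add_zero]

/-- (3b) -/
theorem b3 [Finite F] [Finite H] {l m : M} {b₀ : H} (hl : l ∈ L) (hm : m ∈ L) (hlm : NP F l m)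
    (hex : ∃ a ∈ A l, a • m ≠ m) (hb₀ : b₀ ∈ A l) (hb1 : b₀ ≠ 1) (hbm : b₀ • m = m) :
    ∀ a ∈ A l, ∃ p : F, ∃ c ∈ I l ⊓ I m, a • m + m = p • l + c := by
  have two := G.two
  have tl := G.two_left
  intro a ha
  obtain ⟨a₀, ha₀, ha₀m⟩ := id hex
  obtain ⟨a', ha', hal⟩ := G.exists_move hl hm ha₀ ha₀m
  obtain ⟨d, hd, c, hc, h1⟩ := G.r_eq hl hm hlm hex ha' hal hb₀ hb1 hbm
  obtain ⟨p, ⟨c', hc', h2⟩, -⟩ := G.key hl hm ha' hal hb₀ hb1 hbm ha
  refine ⟨d⁻¹ * p, d⁻¹ • c', Submodule.smul_mem _ _ hc', ?_⟩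
  have h3 : m = d⁻¹ • ((a' • l + l) + c) := by
    rw [h1]
    have : d • m + c + c = d • m := by simp only [add_assoc, add_comm, add_left_comm, two, tl, add_zero]
    rw [this, smul_smul, inv_mul_cancel₀ hd, one_smul]
  obtain ⟨r, hr⟩ : ∃ r, r = a' • l + l := ⟨_, rfl⟩
  rw [← hr] at h2 h3
  have h4 : a • c = c := G.fix hl ha hc.1
  calc a • m + m = d⁻¹ • (a • r + c) + d⁻¹ • (r + c) := by
        rw [h3, G.lin, smul_add, h4]
    _ = d⁻¹ • (a • r + r) := by
        rw [← smul_add]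
        congr 1
        simp only [add_assoc, add_comm, add_left_comm, two, tl, add_zero]
    _ = _ := by rw [h2, smul_add, smul_smul]

/-- (3c) -/
theorem c3 {l m : M} {n a' : H} (hl : l ∈ L) (hm : m ∈ L) (ha' : a' ∈ A m) (hal : a' • l ≠ l) (hn : n ∈ A l)
    (hnm : n • m = m) (hall : ∀ m₀, ∃ c ∈ I l ⊓ I m, ∃ d : F, n • m₀ + m₀ = c + d • l) : n = 1 := by
  have two := G.two
  have tl := G.two_left
  by_contra hn1
  have haa := G.sq hm ha'
  have hnn := G.sq hl hn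
  -- `n` does not centralise `a'`
  have hna : ¬ a' * n = n * a' := fun h => hal (G.cent hl hn hn1 haa h)
  have hc1 : ∀ c ∈ I l ⊓ I m, al m c = 1 := fun c hc => G.al_I_one hm hc.2
  -- `l` is not in `E m`
  have hlE : al m l ≠ 1 := by
    intro h1
    obtain ⟨p, hp⟩ := G.al_surj hm ha'
    obtain ⟨c, hc, d, h2⟩ := hall p
    have h3 : al m (n • p + p) = 1 := by
      rw [h2, G.al_add hm, hc1 c hc, G.al_sm_one hm d h1, one_mul]
    rw [G.al_add hm, G.al_conj hm hnm, hp, G.inv hl hn] at h3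
    apply hna
    calc a' * n = (n * a' * n * a') * (a' * n) := by rw [h3, one_mul]
      _ = n * a' * n * (a' * a') * n := by group
      _ = n * a' * (n * n) := by rw [haa]; group
      _ = n * a' := by rw [hnn, mul_one]
  have h2 : n * a' * n ∈ A m := G.A_conj' hm ha' hnn hnm
  have h3 : a' * (n * a' * n) ∈ A m := mul_mem ha' h2
  have h4 : a' * (n * a' * n) ≠ 1 := by
    intro h
    apply hna
    calc a' * n = (a' * (n * a' * n))  * (a' * n) := by rw [h, one_mul]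
      _ = (n * a' * n) * a' * (a' * n) := by rw [G.A_comm hm ha' h2]
      _ = n * a' * n * (a' * a') * n := by group
      _ = n * a' * (n * n) := by rw [haa]; group
      _ = n * a' := by rw [hnn, mul_one]
  obtain ⟨e, he1, he⟩ := G.phi hm h3 h4
  obtain ⟨c, hc, d, h5⟩ := hall e
  have h6 : al m (n • e + e) = 1 := by
    rw [G.al_add hm, G.al_conj hm hnm, he1]
    group
  have hd : d = 0 := by
    by_contra hd
    apply hlE
    rw [h5, G.al_add hm, hc1 c hc, one_mul] at h6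
    have := G.al_sm_one hm d⁻¹ h6
    rwa [smul_smul, inv_mul_cancel₀ hd, one_smul] at this
  have h7 : n • e = e + c := by
    rw [hd, zero_smul, add_zero] at h5
    rw [← h5]; simp only [add_assoc, add_comm, add_left_comm, two, tl, add_zero]
  have h8 : n • c = c := G.fix hl hn hc.1
  have h9 : a' • c = c := G.fix hm ha' hc.2
  have h10 : a' • m = m := G.A_fix hm ha'
  have h11 : (a' * (n * a' * n)) • e = e := by
    obtain ⟨d', h⟩ := (G.al_ker hm e).1 he1 a' ha'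
    rw [mul_smul, mul_smul, mul_smul, h7, smul_add, h9, h]
    simp only [smul_add, G.lin, h7, h8, hnm, h9, h10, h]
    simp only [add_assoc, add_comm, add_left_comm, two, tl, add_zero]
  rw [h11] at he
  exact G.ne_zero hm (left_eq_add.1 he)

/-- a partial pair has `m ∈ Ebar_l` -/
theorem d3 [Finite F] [Finite H] {l m : M} {b₀ : H} (hl : l ∈ L) (hm : m ∈ L) (hlm : NP F l m)
    (hex : ∃ a ∈ A l, a • m ≠ m) (hb₀ : b₀ ∈ A l) (hb1 : b₀ ≠ 1) (hbm : b₀ • m = m) : al l m = 1 := by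
  have two := G.two
  have tl := G.two_left
  have h0 := G.b3 hl hm hlm hex hb₀ hb1 hbm
  by_cases hC : ∃ u ∈ I l ⊓ I m, u ≠ 0
  · obtain ⟨u, hu, hu0⟩ := hC
    have h1 := G.alpha hl hm hlm hu.1 hu.2 hu0
    obtain ⟨a₀, ha₀, ha₀m⟩ := id hex
    obtain ⟨a', ha', hal⟩ := G.exists_move hl hm ha₀ ha₀m
    refine G.c3 hl hm ha' hal (G.al_mem hl m) h1 fun m₀ => ?_
    obtain ⟨d, h2⟩ := G.sy hl m m₀
    obtain ⟨p, c, hc, h3⟩ := h0 _ (G.al_mem hl m₀)
    rw [h3] at h2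
    refine ⟨c, hc, p + d, ?_⟩
    have h4 : al l m • m₀ + m₀ = p • l + c + d • l := by
      rw [← h2]; simp only [add_assoc, add_comm, add_left_comm, two, tl, add_zero]
    rw [h4, add_smul]
    simp only [add_assoc, add_comm, add_left_comm]
  · push Not at hC
    rw [G.al_ker hl]
    intro a ha
    obtain ⟨p, c, hc, h3⟩ := h0 a ha
    rw [hC c hc, add_zero] at h3
    refine ⟨p, ?_⟩
    rw [← h3]; simp only [add_assoc, add_comm, add_left_comm, two, tl, add_zero]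

/-- a partial pair: all `m + c l` are conjugate to `m` under `A l` -/
theorem d3_move {l m : M} (hl : l ∈ L) (hex : ∃ a ∈ A l, a • m ≠ m) (h : al l m = 1) (c : F) :
    ∃ a ∈ A l, a • m = m + c • l := by
  have two := G.two
  have tl := G.two_left
  obtain ⟨a, ha, ham⟩ := hex
  obtain ⟨x, rfl⟩ := G.al_surj hl ha
  obtain ⟨p, hp⟩ := G.phi_ex hl h x
  have hp0 : p ≠ 0 := by
    rintro rfl
    rw [zero_smul] at hp
    exact ham (G.eq_of_add hp)
  refine ⟨al l ((c * p⁻¹) • x), G.al_mem hl _, ?_⟩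
  have h1 := G.phl hl (c * p⁻¹) m x h
  rw [hp, smul_smul, mul_assoc, inv_mul_cancel₀ hp0, mul_one] at h1
  rw [← h1]; simp only [add_assoc, add_comm, add_left_comm, two, tl, add_zero]

/-- the other side of a partial pair -/
theorem part_symm' [Finite H] {l m : M} {b₀ : H} (hl : l ∈ L) (hm : m ∈ L)
    (hex : ∃ a ∈ A l, a • m ≠ m) (hb₀ : b₀ ∈ A l) (hb1 : b₀ ≠ 1) (hbm : b₀ • m = m) :
    (∃ a' ∈ A m, a' • l ≠ l) ∧ ∃ b' ∈ A m, b' ≠ 1 ∧ b' • l = l := by
  obtain ⟨a₀, ha₀, ha₀m⟩ := hex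
  exact ⟨G.exists_move hl hm ha₀ ha₀m, G.part_symm hl hm hb₀ hb1 hbm⟩

/-- `(1a)`: `al l (I m) ≤ B` -/
theorem al_I {l m i : M} {b' : H} (hl : l ∈ L) (hm : m ∈ L) (hb' : b' ∈ A m) (hb1 : b' ≠ 1) (hbl : b' • l = l)
    (hi : i ∈ I m) : al l i • m = m := by
  refine G.cent hm hb' hb1 (G.sq hl (G.al_mem hl i)) ?_
  have h1 := G.al_conj hl hbl i
  rw [G.fix hm hb' hi] at h1
  calc al l i * b' = b' * al l i * b'⁻¹ * b' := by rw [← h1]
    _ = b' * al l i := by group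

end

end Gen

end Cfsg.Agent.Omega.NO3S.OneQ.TIq
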