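import Cfsg.Agent.Omega.NO3S.OneQ.TIq.Base

/-!
# NO-3S, `OneSz`, the TI world, `D_x = I`: the pairing `Ebar_l × M → F` and dimensions

* `Gen.E` : `Ebar_l`; `Gen.Phi` : `Ebar_l → M → F`, `[e, al l x] = Phi e x • l`
* `Gen.fr_E`, `Gen.fr_M` : `dim E = dim I + k`, `dim M = dim E + k`, `k = dim M / E`
* `Gen.card_A_eq` : `|A l| = q ^ k`
-/

set_option autoImplicit false
set_option linter.unusedSimpArgs false
set_option linter.unusedSectionVars false

namespace Cfsg.Agent.Omega.NO3S.OneQ.TIq

open Module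

/-- the coefficient of `v` in the point `F l` -/
noncomputable def coef (F : Type*) {M : Type*} [Field F] [AddCommGroup M] [Module F M] (l v : M) : F :=
  open Classical in if h : ∃ c : F, v = c • l then h.choose else 0

theorem coef_smul {F M : Type*} [Field F] [AddCommGroup M] [Module F M] {l : M} (hl : l ≠ 0) (c : F) :
    coef F l (c • l) = c := by
  have h : ∃ d : F, c • l = d • l := ⟨c, rfl⟩
  unfold coef
  rw [dif_pos h]
  have := h.choose_spec
  have h2 : (c - h.choose) • l = 0 := by rw [sub_smul, ← this, sub_self]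
  exact (sub_eq_zero.1 ((smul_eq_zero.1 h2).resolve_right hl)).symm

theorem coef_spec {F M : Type*} [Field F] [AddCommGroup M] [Module F M] {l v : M} (h : ∃ c : F, v = c • l) :
    v = coef F l v • l := by
  unfold coef
  rw [dif_pos h]
  exact h.choose_spec

namespace Gen

variable {F M H : Type*} [Field F] [AddCommGroup M] [Module F M] [Group H] [DistribMulAction H M] {L : Set M}
    {A : M → Subgroup H} {I : M → Submodule F M} {al : M → M → H}

/-- `Ebar_l` -/
def E (G : Gen F L A I al) {l : M} (hl : l ∈ L) : Submodule F M where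
  carrier := {e | al l e = 1}
  add_mem' := fun {a b} ha hb => by
    change al l (a + b) = 1
    rw [G.al_add hl]
    rw [show al l a = 1 from ha, show al l b = 1 from hb, one_mul]
  zero_mem' := G.al_zero hl
  smul_mem' := fun c _ hx => G.al_sm_one hl c hx

theorem mem_E (G : Gen F L A I al) {l e : M} (hl : l ∈ L) : e ∈ G.E hl ↔ al l e = 1 := Iff.rfl

theorem I_le_E (G : Gen F L A I al) {l : M} (hl : l ∈ L) : I l ≤ G.E hl := fun _ hu => G.al_I_one hl hu

theorem phi_ex (G : Gen F L A I al) {l e : M} (hl : l ∈ L) (he : al l e = 1) (x : M) :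
    ∃ c : F, al l x • e + e = c • l := by
  obtain ⟨c, hc⟩ := (G.al_ker hl e).1 he _ (G.al_mem hl x)
  exact ⟨c, by rw [hc, add_comm, ← add_assoc, G.two, zero_add]⟩

/-- the pairing -/
noncomputable def Phi (G : Gen F L A I al) {l : M} (hl : l ∈ L) : G.E hl →ₗ[F] M →ₗ[F] F :=
  LinearMap.mk₂ F (fun e x => coef F l (al l x • (e : M) + e))
    (fun e e' x => by
      obtain ⟨c, hc⟩ := G.phi_ex hl e.2 x
      obtain ⟨c', hc'⟩ := G.phi_ex hl e'.2 x
      have : al l x • ((e + e' : G.E hl) : M) + ((e + e' : G.E hl) : M) = (c + c') • l := by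
        rw [Submodule.coe_add, smul_add, add_smul, ← hc, ← hc']; abel
      rw [this, hc, hc', coef_smul (G.ne_zero hl), coef_smul (G.ne_zero hl), coef_smul (G.ne_zero hl)])
    (fun d e x => by
      obtain ⟨c, hc⟩ := G.phi_ex hl e.2 x
      have : al l x • ((d • e : G.E hl) : M) + ((d • e : G.E hl) : M) = (d * c) • l := by
        rw [Submodule.coe_smul, G.lin, ← smul_add, hc, smul_smul]
      rw [this, hc, coef_smul (G.ne_zero hl), coef_smul (G.ne_zero hl), smul_eq_mul])
    (fun e x x' => by
      obtain ⟨c, hc⟩ := G.phi_ex hl e.2 x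
      obtain ⟨c', hc'⟩ := G.phi_ex hl e.2 x'
      have h1 : al l x' • (e : M) = e + c' • l := by
        rw [← hc', add_comm (al l x' • (e : M)) _, G.two_left]
      have h2 : al l x • (e : M) = e + c • l := by
        rw [← hc, add_comm (al l x • (e : M)) _, G.two_left]
      have : al l (x + x') • (e : M) + (e : M) = (c + c') • l := by
        rw [G.al_add hl, mul_smul, h1, smul_add, h2, G.lin, G.A_fix hl (G.al_mem hl x), add_smul]
        have := G.two (e : M)
        calc (e : M) + c • l + c' • l + e = (e + e) + (c • l + c' • l) := by abel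
          _ = c • l + c' • l := by rw [this, zero_add]
      rw [this, hc, hc', coef_smul (G.ne_zero hl), coef_smul (G.ne_zero hl), coef_smul (G.ne_zero hl)])
    (fun d e x => by
      obtain ⟨c, hc⟩ := G.phi_ex hl e.2 x
      have : al l (d • x) • (e : M) + (e : M) = (d * c) • l := by
        rw [G.phl hl d _ x e.2, hc, smul_smul]
      rw [this, hc, coef_smul (G.ne_zero hl), coef_smul (G.ne_zero hl), smul_eq_mul])

theorem Phi_spec (G : Gen F L A I al) {l : M} (hl : l ∈ L) (e : G.E hl) (x : M) :
    al l x • (e : M) + e = G.Phi hl e x • l := by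
  have := coef_spec (G.phi_ex hl e.2 x)
  exact this

theorem Phi_spec' (G : Gen F L A I al) {l : M} (hl : l ∈ L) (e : G.E hl) (x : M) :
    al l x • (e : M) = e + G.Phi hl e x • l := by
  rw [← G.Phi_spec hl e x, add_comm (al l x • (e : M)) _, G.two_left]

theorem Phi_eq (G : Gen F L A I al) {l : M} (hl : l ∈ L) (e : G.E hl) (x : M) {c : F}
    (h : al l x • (e : M) = e + c • l) : G.Phi hl e x = c := by
  rw [G.Phi_spec' hl] at h
  have h1 := add_left_cancel h
  have h2 : (G.Phi hl e x - c) • l = 0 := by rw [sub_smul, h1, sub_self]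
  exact sub_eq_zero.1 ((smul_eq_zero.1 h2).resolve_right (G.ne_zero hl))

theorem Phi_zero_iff (G : Gen F L A I al) {l : M} (hl : l ∈ L) (e : G.E hl) :
    G.Phi hl e = 0 ↔ (e : M) ∈ I l := by
  constructor
  · intro h
    refine G.fixI hl fun a ha => ?_
    obtain ⟨x, rfl⟩ := G.al_surj hl ha
    rw [G.Phi_spec' hl, h, LinearMap.zero_apply, zero_smul, add_zero]
  · intro h
    ext x
    rw [LinearMap.zero_apply]
    apply G.Phi_eq hl
    rw [zero_smul, add_zero]
    exact G.fix hl (G.al_mem hl x) h

theorem Phi_surj (G : Gen F L A I al) {l : M} (hl : l ∈ L) {f : M →ₗ[F] F} (hf : G.E hl ≤ LinearMap.ker f) :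
    ∃ e : G.E hl, G.Phi hl e = f := by
  obtain ⟨e, he, h⟩ := G.dual hl f (fun e he => LinearMap.mem_ker.1 (hf he))
  refine ⟨⟨e, he⟩, ?_⟩
  ext x
  apply G.Phi_eq hl
  have := h x
  change al l x • e = e + f x • l
  rw [← this, add_comm (al l x • e) e, G.two_left]

theorem Phi_E (G : Gen F L A I al) {l : M} (hl : l ∈ L) (e : G.E hl) : G.E hl ≤ LinearMap.ker (G.Phi hl e) := by
  intro x hx
  rw [LinearMap.mem_ker]
  apply G.Phi_eq hl
  rw [show al l x = 1 from hx, one_smul, zero_smul, add_zero]

/-- the elements of `Ebar_l` with proportional functionals -/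
theorem Phi_smul (G : Gen F L A I al) {l : M} (hl : l ∈ L) {e e' : G.E hl} {c : F}
    (h : G.Phi hl e = c • G.Phi hl e') : (e : M) + c • (e' : M) ∈ I l := by
  have : G.Phi hl (e - c • e') = 0 := by rw [map_sub, map_smul, h, sub_self]
  rw [G.Phi_zero_iff hl] at this
  have h2 : ((e - c • e' : G.E hl) : M) = (e : M) + c • (e' : M) := by
    rw [Submodule.coe_sub, Submodule.coe_smul, sub_eq_add_neg, G.neg_eq]
  rwa [h2] at this

section fin

variable [Finite F] [Finite M]

theorem fr_M (G : Gen F L A I al) {l : M} (hl : l ∈ L) :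
    finrank F M = finrank F (G.E hl) + finrank F (M ⧸ G.E hl) := by
  have := Submodule.finrank_quotient_add_finrank (G.E hl)
  omega

theorem fr_E (G : Gen F L A I al) {l : M} (hl : l ∈ L) :
    finrank F (G.E hl) = finrank F (I l) + finrank F (M ⧸ G.E hl) := by
  classical
  have h1 := LinearMap.finrank_range_add_finrank_ker (G.Phi hl)
  have h2 : LinearMap.ker (G.Phi hl) = (I l).comap (G.E hl).subtype := by
    ext e
    rw [LinearMap.mem_ker, G.Phi_zero_iff hl, Submodule.mem_comap, Submodule.subtype_apply]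
  have h3 : finrank F (LinearMap.ker (G.Phi hl)) = finrank F (I l) := by
    rw [h2]
    exact (Submodule.comapSubtypeEquivOfLe (G.I_le_E hl)).finrank_eq
  have h4 : finrank F (LinearMap.range (G.Phi hl)) = finrank F (M ⧸ G.E hl) := by
    have h5 : LinearMap.range (G.Phi hl) = (G.E hl).dualAnnihilator := by
      ext f
      rw [Submodule.mem_dualAnnihilator]
      constructor
      · rintro ⟨e, rfl⟩ x hx
        exact LinearMap.mem_ker.1 (G.Phi_E hl e hx)
      · intro h
        obtain ⟨e, he⟩ := G.Phi_surj hl (f := f) fun x hx => LinearMap.mem_ker.2 (h x hx)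
        exact ⟨e, he⟩
    rw [h5]
    exact (Subspace.quotEquivAnnihilator (G.E hl)).symm.finrank_eq
  omega

/-- `A l` as a quotient of `M` -/
noncomputable def quotEquiv (G : Gen F L A I al) {l : M} (hl : l ∈ L) : (M ⧸ G.E hl) ≃ A l := by
  refine Equiv.ofBijective (Quotient.lift (fun m => (⟨al l m, G.al_mem hl m⟩ : A l)) ?_) ⟨?_, ?_⟩
  · intro a b hab
    apply Subtype.ext
    have h1 : -a + b ∈ G.E hl := QuotientAddGroup.leftRel_apply.1 hab
    rw [G.mem_E, G.neg_eq, G.al_add hl] at h1
    have h2 := inv_eq_of_mul_eq_one_right h1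
    rw [G.inv hl (G.al_mem hl a)] at h2
    exact h2
  · rintro ⟨a⟩ ⟨b⟩ hab
    apply Quotient.sound
    rw [← Quotient.eq_iff_equiv]
    apply Quotient.sound
    have h1 : al l a = al l b := congrArg Subtype.val hab
    change (QuotientAddGroup.leftRel _).r a b
    rw [QuotientAddGroup.leftRel_apply]
    change al l (-a + b) = 1
    rw [G.neg_eq, G.al_add hl, h1, G.sq hl (G.al_mem hl b)]
  · rintro ⟨a, ha⟩
    obtain ⟨m, hm⟩ := G.al_surj hl ha
    exact ⟨Quotient.mk _ m, Subtype.ext hm⟩

theorem card_A_eq (G : Gen F L A I al) {l : M} (hl : l ∈ L) :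
    Nat.card (A l) = Nat.card F ^ finrank F (M ⧸ G.E hl) := by
  rw [← Nat.card_congr (G.quotEquiv hl)]
  exact Module.natCard_eq_pow_finrank

end fin

end Gen

end Cfsg.Agent.Omega.NO3S.OneQ.TIq
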