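import Cfsg.Agent.Omega.NO3S.OneQ.TIq.KOneTI

/-!
# NO-3S, `OneSz`, case (N): `A_l = A_m` forces `M = Ebar_l + Ebar_m` (pure form, every `k`, every `D_x`)

* `Pre.E` : `Ebar_l`; `Pre.D` : `C_M(A_l)`; `Pre.Phi` : the pairing
* `Pre.fr_E` : `dim E = dim D + dim M / E`
* `Pre.sum_of_eq` : `A l = A m`, `l`, `m` different points ⟹ `M = E_l + E_m`
-/

set_option autoImplicit false
set_option linter.unusedSimpArgs false
set_option linter.unusedSectionVars false

namespace Cfsg.Agent.Omega.NO3S.OneQ.TIq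

open Module

/-- the coefficient of `v` in the point `F l` -/
noncomputable def cfp (F : Type*) {M : Type*} [Field F] [AddCommGroup M] [Module F M] (l v : M) : F :=
  open Classical in if h : ∃ c : F, v = c • l then h.choose else 0

theorem cfp_smul {F M : Type*} [Field F] [AddCommGroup M] [Module F M] {l : M} (hl : l ≠ 0) (c : F) :
    cfp F l (c • l) = c := by
  have h : ∃ d : F, c • l = d • l := ⟨c, rfl⟩
  unfold cfp
  rw [dif_pos h]
  have := h.choose_spec
  have h2 : (c - h.choose) • l = 0 := by rw [sub_smul, ← this, sub_self]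
  exact (sub_eq_zero.1 ((smul_eq_zero.1 h2).resolve_right hl)).symm

theorem cfp_spec {F M : Type*} [Field F] [AddCommGroup M] [Module F M] {l v : M} (h : ∃ c : F, v = c • l) :
    v = cfp F l v • l := by
  unfold cfp
  rw [dif_pos h]
  exact h.choose_spec

namespace Pre

variable {F M H : Type*} [Field F] [AddCommGroup M] [Module F M] [Group H] [DistribMulAction H M] {L : Set M}
    {A : M → Subgroup H} {I : M → Submodule F M} {al : M → M → H} {Kt : M → Subgroup H}

/-- `Ebar_l` -/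
def E (G : Pre F L A I al Kt) {l : M} (hl : l ∈ L) : Submodule F M where
  carrier := {e | al l e = 1}
  add_mem' := fun {a b} ha hb => by
    change al l (a + b) = 1
    rw [G.al_add hl]
    rw [show al l a = 1 from ha, show al l b = 1 from hb, one_mul]
  zero_mem' := G.al_zero hl
  smul_mem' := fun c _ hx => G.al_sm_one hl c hx

theorem mem_E (G : Pre F L A I al Kt) {l e : M} (hl : l ∈ L) : e ∈ G.E hl ↔ al l e = 1 := Iff.rfl

/-- `C_M(A_l)` -/
def D (G : Pre F L A I al Kt) (l : M) : Submodule F M where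
  carrier := {x | ∀ a ∈ A l, a • x = x}
  add_mem' := fun {x y} hx hy a ha => by rw [smul_add, hx a ha, hy a ha]
  zero_mem' := fun a _ => smul_zero a
  smul_mem' := fun c x hx a ha => by rw [G.lin, hx a ha]

theorem mem_D (G : Pre F L A I al Kt) {l x : M} : x ∈ G.D l ↔ ∀ a ∈ A l, a • x = x := Iff.rfl

theorem D_le_E (G : Pre F L A I al Kt) {l : M} (hl : l ∈ L) : G.D l ≤ G.E hl := fun x hx =>
  (G.al_ker hl x).2 fun a ha => ⟨0, by rw [zero_smul, add_zero]; exact hx a ha⟩

theorem phi_ex (G : Pre F L A I al Kt) {l e : M} (hl : l ∈ L) (he : al l e = 1) (x : M) :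
    ∃ c : F, al l x • e + e = c • l := by
  obtain ⟨c, hc⟩ := (G.al_ker hl e).1 he _ (G.al_mem hl x)
  exact ⟨c, G.of_eq hc⟩

/-- the pairing -/
noncomputable def Phi (G : Pre F L A I al Kt) {l : M} (hl : l ∈ L) : G.E hl →ₗ[F] M →ₗ[F] F :=
  LinearMap.mk₂ F (fun e x => cfp F l (al l x • (e : M) + e))
    (fun e e' x => by
      obtain ⟨c, hc⟩ := G.phi_ex hl e.2 x
      obtain ⟨c', hc'⟩ := G.phi_ex hl e'.2 x
      have : al l x • ((e + e' : G.E hl) : M) + ((e + e' : G.E hl) : M) = (c + c') • l := by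
        rw [Submodule.coe_add, smul_add, add_smul, ← hc, ← hc']; abel
      rw [this, hc, hc', cfp_smul (G.ne_zero hl), cfp_smul (G.ne_zero hl), cfp_smul (G.ne_zero hl)])
    (fun d e x => by
      obtain ⟨c, hc⟩ := G.phi_ex hl e.2 x
      have : al l x • ((d • e : G.E hl) : M) + ((d • e : G.E hl) : M) = (d * c) • l := by
        rw [Submodule.coe_smul, G.lin, ← smul_add, hc, smul_smul]
      rw [this, hc, cfp_smul (G.ne_zero hl), cfp_smul (G.ne_zero hl), smul_eq_mul])
    (fun e x x' => by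
      obtain ⟨c, hc⟩ := G.phi_ex hl e.2 x
      obtain ⟨c', hc'⟩ := G.phi_ex hl e.2 x'
      have h1 : al l x' • (e : M) = e + c' • l := G.to_eq hc'
      have h2 : al l x • (e : M) = e + c • l := G.to_eq hc
      have : al l (x + x') • (e : M) + (e : M) = (c + c') • l := by
        rw [G.al_add hl, mul_smul, h1, smul_add, h2, G.lin, G.A_fix hl (G.al_mem hl x), add_smul]
        have := G.two (e : M)
        calc (e : M) + c • l + c' • l + e = (e + e) + (c • l + c' • l) := by abel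
          _ = c • l + c' • l := by rw [this, zero_add]
      rw [this, hc, hc', cfp_smul (G.ne_zero hl), cfp_smul (G.ne_zero hl), cfp_smul (G.ne_zero hl)])
    (fun d e x => by
      obtain ⟨c, hc⟩ := G.phi_ex hl e.2 x
      have : al l (d • x) • (e : M) + (e : M) = (d * c) • l := by
        rw [G.phl hl d _ x e.2, hc, smul_smul]
      rw [this, hc, cfp_smul (G.ne_zero hl), cfp_smul (G.ne_zero hl), smul_eq_mul])

theorem Phi_spec (G : Pre F L A I al Kt) {l : M} (hl : l ∈ L) (e : G.E hl) (x : M) :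
    al l x • (e : M) + e = G.Phi hl e x • l := cfp_spec (G.phi_ex hl e.2 x)

theorem Phi_spec' (G : Pre F L A I al Kt) {l : M} (hl : l ∈ L) (e : G.E hl) (x : M) :
    al l x • (e : M) = e + G.Phi hl e x • l := G.to_eq (G.Phi_spec hl e x)

theorem Phi_eq (G : Pre F L A I al Kt) {l : M} (hl : l ∈ L) (e : G.E hl) (x : M) {c : F}
    (h : al l x • (e : M) = e + c • l) : G.Phi hl e x = c := by
  rw [G.Phi_spec' hl] at h
  have h1 := add_left_cancel h
  have h2 : (G.Phi hl e x - c) • l = 0 := by rw [sub_smul, h1, sub_self]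
  exact sub_eq_zero.1 ((smul_eq_zero.1 h2).resolve_right (G.ne_zero hl))

theorem Phi_zero_iff (G : Pre F L A I al Kt) {l : M} (hl : l ∈ L) (e : G.E hl) :
    G.Phi hl e = 0 ↔ (e : M) ∈ G.D l := by
  constructor
  · intro h a ha
    obtain ⟨x, rfl⟩ := G.al_surj hl ha
    rw [G.Phi_spec' hl, h, LinearMap.zero_apply, zero_smul, add_zero]
  · intro h
    ext x
    rw [LinearMap.zero_apply]
    apply G.Phi_eq hl
    rw [zero_smul, add_zero]
    exact h _ (G.al_mem hl x)

theorem Phi_surj (G : Pre F L A I al Kt) {l : M} (hl : l ∈ L) {f : M →ₗ[F] F} (hf : G.E hl ≤ LinearMap.ker f) :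
    ∃ e : G.E hl, G.Phi hl e = f := by
  obtain ⟨e, he, h⟩ := G.dual hl f (fun e he => LinearMap.mem_ker.1 (hf he))
  refine ⟨⟨e, he⟩, ?_⟩
  ext x
  apply G.Phi_eq hl
  exact G.to_eq (h x)

theorem Phi_E (G : Pre F L A I al Kt) {l : M} (hl : l ∈ L) (e : G.E hl) : G.E hl ≤ LinearMap.ker (G.Phi hl e) := by
  intro x hx
  rw [LinearMap.mem_ker]
  apply G.Phi_eq hl
  rw [show al l x = 1 from hx, one_smul, zero_smul, add_zero]

section fin

variable [FiniteDimensional F M]

theorem fr_M (G : Pre F L A I al Kt) {l : M} (hl : l ∈ L) :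
    finrank F M = finrank F (G.E hl) + finrank F (M ⧸ G.E hl) := by
  have := Submodule.finrank_quotient_add_finrank (G.E hl)
  omega

theorem fr_E (G : Pre F L A I al Kt) {l : M} (hl : l ∈ L) :
    finrank F (G.E hl) = finrank F (G.D l) + finrank F (M ⧸ G.E hl) := by
  classical
  have h1 := LinearMap.finrank_range_add_finrank_ker (G.Phi hl)
  have h2 : LinearMap.ker (G.Phi hl) = (G.D l).comap (G.E hl).subtype := by
    ext e
    rw [LinearMap.mem_ker, G.Phi_zero_iff hl, Submodule.mem_comap, Submodule.subtype_apply]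
  have h3 : finrank F (LinearMap.ker (G.Phi hl)) = finrank F (G.D l) := by
    rw [h2]
    exact (Submodule.comapSubtypeEquivOfLe (G.D_le_E hl)).finrank_eq
  have h4 : finrank F (LinearMap.range (G.Phi hl)) = finrank F (M ⧸ G.E hl) := by
    have h5 : LinearMap.range (G.Phi hl) = (G.E hl).dualAnnihilator := by
      ext f
      rw [Submodule.mem_dualAnnihilator]
      constructor
      · rintro ⟨e, rfl⟩ x hx
        exact LinearMap.mem_ker.1 (G.Phi_E hl e hx)
      · intro h
        obtain ⟨e, he⟩ := G.Phi_surj hl (f := f) fun x hx => LinearMap.mem_ker.2 (h x hx)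
        exact ⟨e, he⟩
    rw [h5]
    exact (Subspace.quotEquivAnnihilator (G.E hl)).symm.finrank_eq
  omega

/-- `A l = A m` ⟹ `E_l ∩ E_m = C_M(A)` -/
theorem inf_of_eq (G : Pre F L A I al Kt) {l m : M} (hl : l ∈ L) (hm : m ∈ L) (np : NP F l m) (hA : A l = A m) :
    G.E hl ⊓ G.E hm = G.D l := by
  apply le_antisymm
  · rintro x ⟨h1, h2⟩ a ha
    obtain ⟨c, hc⟩ := (G.al_ker hl x).1 h1 a ha
    obtain ⟨d, hd⟩ := (G.al_ker hm x).1 h2 a (hA ▸ ha)
    have h3 : d • m + c • l = 0 := by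
      have h4 : x + d • m = x + c • l := by rw [← hc, ← hd]
      rw [add_left_cancel h4, G.two]
    obtain ⟨rfl, rfl⟩ := G.indep' hl np h3
    rw [hc, zero_smul, add_zero]
  · refine le_inf (G.D_le_E hl) fun x hx => G.D_le_E hm fun a ha => ?_
    rw [← hA] at ha
    exact hx a ha

/-- **`A l = A m` ⟹ `M = E_l + E_m`** -/
theorem sup_of_eq (G : Pre F L A I al Kt) {l m : M} (hl : l ∈ L) (hm : m ∈ L) (np : NP F l m) (hA : A l = A m) :
    G.E hl ⊔ G.E hm = ⊤ := by
  apply Submodule.eq_top_of_finrank_eq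
  have h1 := Submodule.finrank_sup_add_finrank_inf_eq (G.E hl) (G.E hm)
  rw [G.inf_of_eq hl hm np hA] at h1
  have h2 := G.fr_M hl
  have h3 := G.fr_M hm
  have h4 := G.fr_E hl
  have h5 := G.fr_E hm
  have h6 : G.D m = G.D l := by
    ext x
    rw [G.mem_D, G.mem_D, hA]
  rw [h6] at h5
  omega

theorem sum_of_eq (G : Pre F L A I al Kt) {l m : M} (hl : l ∈ L) (hm : m ∈ L) (np : NP F l m) (hA : A l = A m)
    (x : M) : ∃ y z, al l y = 1 ∧ al m z = 1 ∧ x = y + z := by
  have h1 : x ∈ G.E hl ⊔ G.E hm := by rw [G.sup_of_eq hl hm np hA]; trivial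
  obtain ⟨y, hy, z, hz, e⟩ := Submodule.mem_sup.1 h1
  exact ⟨y, z, hy, hz, e.symm⟩

end fin

/-- `A l = A m ≠ 1` ⟹ `m ∈ I l` -/
theorem mem_of_eq (G : Pre F L A I al Kt) {l m : M} (hl : l ∈ L) (hm : m ∈ L) (hA : A l = A m) {b : H}
    (hb : b ∈ A l) (hb1 : b ≠ 1) : m ∈ I l := by
  obtain ⟨e, -, he⟩ := G.phi hm (hA ▸ hb) hb1
  have := G.comm hl hb e
  rwa [G.of_eq he] at this

end Pre

end Cfsg.Agent.Omega.NO3S.OneQ.TIq
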